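import Cfsg.Agent.H278.ElDefs
import Cfsg.Agent.OddOrderCharacters.IndRes
import Cfsg.Agent.Characters.GaloisBasic
import Mathlib.GroupTheory.Sylow
import Cfsg.Agent.FastGrp
import Cfsg.Agent.Prune
set_option linter.all false

section
prune_inst 0x7f00000000000000000000000000000000000000000000000000000000000000000000000000000000000000000000000000000000000000000000000000000000000000000000000000000000000000003fffffffffffffffffffffffffffbeffbdffffffff

-- part: H453/OddM/Defs
section
set_option linter.all false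
open scoped Cfsg.Agent.FastGrp

/-!
# TEAM ODDM (S4785): common interface

`T` is a finite (non-abelian simple) group, `R` a subgroup.

* `IsReal x`  : `x` is conjugate to its inverse
* `RO T R`    : the consequences of "every nontrivial real irreducible character occurs with even
  multiplicity in the permutation character on `T ⧸ R`": odd index, every real element has an odd
  number of fixed points, every subgroup has an odd number of orbits.
* `Row T`     : `RO T R → R = ⊤`  (the target of every row)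
* `Cov T M`   : `M` has odd index and meets every real class
* `RowC T`    : no maximal subgroup is `Cov`;   `RowC T → Row T`
* `RealP T v` : some element of order `v` is real; `Cov T M → RealP T v → v ∣ |M|`.
-/

set_option autoImplicit false

namespace Cfsg.Agent.H453.OddM

open Cfsg.Agent.H278.El

/-- `x` is conjugate to its inverse -/
def IsReal {T : Type*} [Group T] (x : T) : Prop := ∃ g : T, g * x * g⁻¹ = x⁻¹

/-- some element of order `v` is real -/
def RealP (T : Type*) [Group T] (v : ℕ) : Prop := ∃ x : T, orderOf x = v ∧ IsReal x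

structure RO (T : Type*) [Group T] (R : Subgroup T) : Prop where
  odd_index : Odd R.index
  odd_fix : ∀ x : T, IsReal x → Odd (Nat.card {ω : T ⧸ R // x • ω = ω})
  odd_orb : ∀ K : Subgroup T, Odd (Nat.card (MulAction.orbitRel.Quotient K (T ⧸ R)))

/-- the target of every row -/
def Row (T : Type*) [Group T] : Prop := ∀ R : Subgroup T, RO T R → R = ⊤

/-- odd index, and every real class is met -/
def Cov (T : Type*) [Group T] (M : Subgroup T) : Prop :=
  Odd M.index ∧ ∀ x : T, IsReal x → ∃ g : T, g * x * g⁻¹ ∈ M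

def RowC (T : Type*) [Group T] : Prop := ∀ M : Subgroup T, IsCoatom M → ¬ Cov T M

section real

variable {T S : Type*} [Group T] [Group S]

theorem IsReal.one : IsReal (1 : T) := ⟨1, by simp⟩

theorem IsReal.zpow {x : T} (h : IsReal x) (k : ℤ) : IsReal (x ^ k) := by
  obtain ⟨g, hg⟩ := h
  refine ⟨g, ?_⟩
  rw [← inv_zpow, ← hg]
  exact (map_zpow (MulAut.conj g).toMonoidHom x k)

theorem IsReal.pow {x : T} (h : IsReal x) (k : ℕ) : IsReal (x ^ k) := by
  simpa using h.zpow (k : ℤ)

theorem IsReal.inv {x : T} (h : IsReal x) : IsReal x⁻¹ := by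
  simpa using h.zpow (-1)

theorem IsReal.map {x : T} (h : IsReal x) (f : T →* S) : IsReal (f x) := by
  obtain ⟨g, hg⟩ := h
  refine ⟨f g, ?_⟩
  rw [← map_inv, ← map_mul, ← map_mul, hg, map_inv]

theorem IsReal.conj {x : T} (h : IsReal x) (g : T) : IsReal (g * x * g⁻¹) :=
  h.map (MulAut.conj g).toMonoidHom

theorem IsReal.of_sq {x : T} (h : x ^ 2 = 1) : IsReal x :=
  ⟨1, by rw [one_mul, inv_one, mul_one]; exact eq_inv_of_mul_eq_one_left (by rwa [← sq])⟩

/-- a product of two elements of order at most `2` is real -/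
theorem IsReal.of_mul {s t : T} (hs : s ^ 2 = 1) (ht : t ^ 2 = 1) : IsReal (s * t) := by
  have h1 : s⁻¹ = s := (eq_inv_of_mul_eq_one_left (by rwa [← sq])).symm
  have h2 : t⁻¹ = t := (eq_inv_of_mul_eq_one_left (by rwa [← sq])).symm
  have h3 : s * s = 1 := by rwa [← sq]
  exact ⟨s, by rw [mul_inv_rev, h1, h2, ← mul_assoc s s t, h3, one_mul]⟩

/-- real in a subgroup implies real -/
theorem IsReal.coe {K : Subgroup T} {x : K} (h : IsReal x) : IsReal (x : T) := h.map K.subtype

end real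

section basic

variable {T S : Type*} [Group T] [Group S]

theorem fixed_iff {R : Subgroup T} {x g : T} : x • (QuotientGroup.mk g : T ⧸ R) = QuotientGroup.mk g ↔
    g⁻¹ * x * g ∈ R := by
  rw [MulAction.Quotient.smul_mk, eq_comm, QuotientGroup.eq, smul_eq_mul, mul_assoc]

/-- a real element has a conjugate in `R` -/
theorem RO.exists_conj {R : Subgroup T} (h : RO T R) {x : T} (hx : IsReal x) : ∃ g : T, g * x * g⁻¹ ∈ R := by
  have h1 := h.odd_fix x hx
  have h2 : Nat.card {ω : T ⧸ R // x • ω = ω} ≠ 0 := fun h0 => by rw [h0] at h1; exact absurd h1 (by decide)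
  obtain ⟨⟨ω, hω⟩⟩ := (Nat.card_ne_zero.1 h2).1
  obtain ⟨g, rfl⟩ := QuotientGroup.mk_surjective ω
  exact ⟨g⁻¹, by rw [inv_inv]; exact fixed_iff.1 hω⟩

theorem RO.cov {R : Subgroup T} (h : RO T R) : Cov T R := ⟨h.odd_index, fun _ hx => h.exists_conj hx⟩

theorem Cov.mono {R M : Subgroup T} (h : Cov T R) (hRM : R ≤ M) : Cov T M := by
  refine ⟨?_, fun x hx => ?_⟩
  · have h1 := Subgroup.index_dvd_of_le hRM
    exact Odd.of_dvd_nat h.1 h1
  · obtain ⟨g, hg⟩ := h.2 x hx
    exact ⟨g, hRM hg⟩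

theorem RowC.row [Finite T] (h : RowC T) : Row T := by
  intro R hR
  by_contra hne
  obtain ⟨M, hM, hRM⟩ := (eq_top_or_exists_le_coatom R).resolve_left hne
  exact h M hM (hR.cov.mono hRM)

/-- the orders of real elements divide `|M|` -/
theorem Cov.dvd {M : Subgroup T} (h : Cov T M) {v : ℕ} (hv : RealP T v) : v ∣ Nat.card M := by
  obtain ⟨x, hx, hr⟩ := hv
  obtain ⟨g, hg⟩ := h.2 x hr
  have h1 : orderOf (⟨g * x * g⁻¹, hg⟩ : M) = v := by
    rw [← Subgroup.orderOf_coe, ← hx]
    exact orderOf_injective (MulAut.conj g).toMonoidHom (MulAut.conj g).injective x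
  rw [← h1]
  exact orderOf_dvd_natCard _

/-- `M` contains an element of every order `v` with `RealP T v` -/
theorem Cov.exists_order {M : Subgroup T} (h : Cov T M) {v : ℕ} (hv : RealP T v) : ∃ y : M, orderOf y = v := by
  obtain ⟨x, hx, hr⟩ := hv
  obtain ⟨g, hg⟩ := h.2 x hr
  refine ⟨⟨g * x * g⁻¹, hg⟩, ?_⟩
  rw [← Subgroup.orderOf_coe, ← hx]
  exact orderOf_injective (MulAut.conj g).toMonoidHom (MulAut.conj g).injective x

/-- the `2`-parts agree -/
theorem Cov.two_part [Finite T] {M : Subgroup T} (h : Cov T M) {k : ℕ} : 2 ^ k ∣ Nat.card T ↔ 2 ^ k ∣ Nat.card M := by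
  have h1 := M.card_mul_index
  constructor
  · intro h2
    rw [← h1] at h2
    exact (Nat.Coprime.pow_left k (Nat.coprime_two_left.2 h.1)).dvd_of_dvd_mul_right h2
  · intro h2
    exact h2.trans (Subgroup.card_subgroup_dvd_card M)

/-- every `2`-subgroup of `T` has a conjugate in `M` -/
theorem Cov.two_group [Finite T] {M : Subgroup T} (h : Odd M.index) {Q : Subgroup T} (hQ : IsPGroup 2 Q) :
    ∃ g : T, ∀ q ∈ Q, g * q * g⁻¹ ∈ M := by
  classical
  haveI : Finite (T ⧸ M) := inferInstance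
  have h1 := hQ.card_modEq_card_fixedPoints (T ⧸ M)
  have h2 : Nat.card (MulAction.fixedPoints Q (T ⧸ M)) ≠ 0 := by
    intro h0
    rw [h0] at h1
    have h3 : Nat.card (T ⧸ M) = M.index := rfl
    rw [h3] at h1
    have h4 := (Nat.modEq_zero_iff_dvd.1 h1)
    exact (Nat.not_even_iff_odd.2 h) (even_iff_two_dvd.2 h4)
  obtain ⟨⟨ω, hω⟩⟩ := (Nat.card_ne_zero.1 h2).1
  obtain ⟨g, rfl⟩ := QuotientGroup.mk_surjective ω
  refine ⟨g⁻¹, fun q hq => ?_⟩
  rw [inv_inv]
  exact fixed_iff.1 (hω ⟨q, hq⟩)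

/-- `x` real, `Q` a `2`-group normalising `⟨x⟩`: some conjugate of `R` contains `x` and `Q`.
(Criterion of helper217: `|C_R(x)|_2 = |C_T(x)|_2` for some `T`-conjugate of `x` in `R`.) -/
theorem RO.exists_conj_two [Finite T] {R : Subgroup T} (h : RO T R) {x : T} (hx : IsReal x) {Q : Subgroup T}
    (hQ : IsPGroup 2 Q) (hn : ∀ q ∈ Q, q * x * q⁻¹ ∈ Subgroup.zpowers x) :
    ∃ g : T, g * x * g⁻¹ ∈ R ∧ ∀ q ∈ Q, g * q * g⁻¹ ∈ R := by
  classical
  have key : ∀ (y : T), y ∈ Subgroup.zpowers x → ∀ ω : T ⧸ R, x • ω = ω → y • ω = ω := by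
    intro y hy ω hω
    have h1 : Subgroup.zpowers x ≤ MulAction.stabilizer T ω := by
      rw [Subgroup.zpowers_le]; exact hω
    exact h1 hy
  have hinv : ∀ q ∈ Q, ∀ ω : T ⧸ R, x • ω = ω → x • (q • ω) = q • ω := by
    intro q hq ω hω
    have h1 := hn q⁻¹ (Q.inv_mem hq)
    rw [inv_inv] at h1
    have h2 := key _ h1 ω hω
    rw [mul_smul, mul_smul] at h2
    rw [inv_smul_eq_iff] at h2
    exact h2
  let A : MulAction Q {ω : T ⧸ R // x • ω = ω} :=
    { smul := fun q ω => ⟨(q : T) • ω.1, hinv q q.2 ω.1 ω.2⟩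
      one_smul := fun ω => Subtype.ext (by change ((1 : Q) : T) • ω.1 = ω.1; simp)
      mul_smul := fun a b ω => Subtype.ext (by
        change ((a * b : Q) : T) • ω.1 = (a : T) • ((b : T) • ω.1)
        rw [Subgroup.coe_mul, mul_smul]) }
  have h1 := hQ.card_modEq_card_fixedPoints {ω : T ⧸ R // x • ω = ω}
  have h2 : Nat.card (MulAction.fixedPoints Q {ω : T ⧸ R // x • ω = ω}) ≠ 0 := by
    intro h0
    rw [h0] at h1
    exact (Nat.not_even_iff_odd.2 (h.odd_fix x hx)) (even_iff_two_dvd.2 (Nat.modEq_zero_iff_dvd.1 h1))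
  obtain ⟨⟨⟨ω, hω⟩, hf⟩⟩ := (Nat.card_ne_zero.1 h2).1
  obtain ⟨g, rfl⟩ := QuotientGroup.mk_surjective ω
  refine ⟨g⁻¹, by rw [inv_inv]; exact fixed_iff.1 hω, fun q hq => ?_⟩
  rw [inv_inv]
  exact fixed_iff.1 (congrArg Subtype.val (hf ⟨q, hq⟩))

/-- two orbits of some subgroup: contradiction -/
theorem RO.not_even_orb {R : Subgroup T} (h : RO T R) (K : Subgroup T)
    (hK : Even (Nat.card (MulAction.orbitRel.Quotient K (T ⧸ R)))) : False :=
  Nat.not_even_iff_odd.2 (h.odd_orb K) hK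

/-- a missing prime which is the order of a real element -/
theorem not_cov_of_prime {M : Subgroup T} {v : ℕ} (hv : RealP T v) (h : ¬ v ∣ Nat.card M) : ¬ Cov T M :=
  fun hc => h (hc.dvd hv)

theorem realP_two [Finite T] (h : 2 ∣ Nat.card T) : RealP T 2 := by
  obtain ⟨x, hx⟩ := exists_prime_orderOf_dvd_card' 2 h
  exact ⟨x, hx, IsReal.of_sq (by rw [← hx]; exact pow_orderOf_eq_one x)⟩

/-! ### transport -/

theorem IsReal.symm_map {x : S} (e : T ≃* S) (h : IsReal x) : IsReal (e.symm x) := h.map e.symm.toMonoidHom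

theorem RO.comap {K : Subgroup S} (e : T ≃* S) (h : RO S K) : RO T (K.comap e.toMonoidHom) := by
  let f : T ⧸ K.comap e.toMonoidHom ≃ S ⧸ K :=
    Quotient.congr e.toEquiv (fun a b => by
      rw [QuotientGroup.leftRel_apply, QuotientGroup.leftRel_apply]
      simp)
  have hf : ∀ (t : T) (ω : T ⧸ K.comap e.toMonoidHom), f (t • ω) = e t • f ω := by
    intro t ω
    obtain ⟨g, rfl⟩ := QuotientGroup.mk_surjective ω
    change (QuotientGroup.mk (e (t * g)) : S ⧸ K) = QuotientGroup.mk (e t * e g)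
    rw [map_mul]
  refine ⟨?_, ?_, ?_⟩
  · have h1 : (K.comap e.toMonoidHom).index = K.index := Nat.card_congr f
    rw [h1]; exact h.odd_index
  · intro x hx
    have h1 : Nat.card {ω : T ⧸ K.comap e.toMonoidHom // x • ω = ω} =
        Nat.card {ω : S ⧸ K // e x • ω = ω} := by
      refine Nat.card_congr (f.subtypeEquiv fun ω => ?_)
      rw [← hf, f.apply_eq_iff_eq]
    rw [h1]
    exact h.odd_fix (e x) (hx.map e.toMonoidHom)
  · intro L
    have h1 : Nat.card (MulAction.orbitRel.Quotient L (T ⧸ K.comap e.toMonoidHom)) =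
        Nat.card (MulAction.orbitRel.Quotient (L.map e.toMonoidHom) (S ⧸ K)) := by
      refine Nat.card_congr (Quotient.congr f fun a b => ?_)
      rw [MulAction.orbitRel_apply, MulAction.orbitRel_apply]
      constructor
      · rintro ⟨⟨l, hl⟩, rfl⟩
        exact ⟨⟨e l, ⟨l, hl, rfl⟩⟩, (hf l b).symm⟩
      · rintro ⟨⟨_, ⟨l, hl, rfl⟩⟩, hb⟩
        refine ⟨⟨l, hl⟩, f.injective ?_⟩
        rw [← hb]
        exact hf l b
    rw [h1]
    exact h.odd_orb _

theorem Row.congr (e : T ≃* S) (h : Row T) : Row S := by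
  intro K hK
  have h1 := h _ (hK.comap e)
  rw [eq_top_iff] at h1 ⊢
  intro s _
  have h2 := h1 (Subgroup.mem_top (e.symm s))
  simpa using h2

end basic

end Cfsg.Agent.H453.OddM
end

-- part: H453/OddM/Real
section
set_option linter.all false
open scoped Cfsg.Agent.FastGrp

-- part: H453/OddM/Par
section
/-!
# Characters and parities (TEAM ODDM, S4785)

`Par G Ω` : the permutation character of `G` on `Ω` is congruent to `1` on real characters modulo `2`.
-/

set_option autoImplicit false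
open Cfsg
open scoped ComplexConjugate

namespace Cfsg.Agent.H453.OddM

open Cfsg.Agent.Characters.Core Cfsg.Agent.OddOrderCharacters.IndRes

universe u v w

/-- the permutation character -/
noncomputable def fixN (G : Type u) (Ω : Type v) [Group G] [MulAction G Ω] : G → ℂ :=
  fun g => (Nat.card {ω : Ω // g • ω = ω} : ℂ)

/-- real-valued -/
def RV {G : Type u} (ψ : G → ℂ) : Prop := ∀ g, conj (ψ g) = ψ g

def Par (G : Type u) (Ω : Type v) [Group G] [Fintype G] [MulAction G Ω] : Prop :=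
  ∀ ψ : G → ℂ, IsCharacter G ψ → RV ψ → ∃ k : ℤ, classInner (fixN G Ω) ψ - classInner (fun _ => 1) ψ = 2 * k

section basic

variable {G : Type u} [Group G]

theorem fixN_conj {Ω : Type v} [MulAction G Ω] (g h : G) : fixN G Ω (h * g * h⁻¹) = fixN G Ω g := by
  unfold fixN
  congr 1
  refine Nat.card_congr ((MulAction.toPerm h⁻¹ : Equiv.Perm Ω).subtypeEquiv fun ω => ?_)
  change _ ↔ g • h⁻¹ • ω = h⁻¹ • ω
  rw [mul_smul, mul_smul, smul_eq_iff_eq_inv_smul]

theorem fixN_classFunction {Ω : Type v} [MulAction G Ω] : IsClassFunction G (fixN G Ω) := fun g h => fixN_conj g h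

theorem rv_fixN {Ω : Type v} [MulAction G Ω] : RV (fixN G Ω) := fun g => by
  unfold fixN
  exact Complex.conj_natCast _

theorem fixN_congr {Ω : Type v} {Ω' : Type w} [MulAction G Ω] [MulAction G Ω'] (e : Ω ≃ Ω')
    (he : ∀ (g : G) (ω : Ω), e (g • ω) = g • e ω) : fixN G Ω = fixN G Ω' := by
  funext g
  unfold fixN
  congr 1
  refine Nat.card_congr (e.subtypeEquiv fun ω => ?_)
  rw [← he, e.apply_eq_iff_eq]

theorem Par.congr [Fintype G] {Ω : Type v} {Ω' : Type w} [MulAction G Ω] [MulAction G Ω'] (e : Ω ≃ Ω')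
    (he : ∀ (g : G) (ω : Ω), e (g • ω) = g • e ω) (h : Par G Ω) : Par G Ω' := by
  intro ψ h1 h2
  obtain ⟨k, hk⟩ := h ψ h1 h2
  exact ⟨k, by rw [← fixN_congr e he]; exact hk⟩

/-- restriction to a subgroup -/
theorem Par.res [Fintype G] {Ω : Type v} [MulAction G Ω] (h : Par G Ω) (K : Subgroup G) [Fintype K] : Par K Ω := by
  intro ψ h1 h2
  obtain ⟨k, hk⟩ := h (indFun K ψ) (isCharacter_indFun K h1) (fun g => by
    have h3 : (fun x : K => conj (ψ x)) = ψ := funext h2
    have h4 := congrFun (conj_indFun K ψ) g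
    rw [h3] at h4
    exact h4)
  refine ⟨k, ?_⟩
  rw [classInner_indFun_right K ψ fixN_classFunction, classInner_indFun_right K ψ (fun _ _ => rfl)] at hk
  exact hk

theorem fixN_one {Ω : Type v} [MulAction G Ω] : fixN G Ω 1 = Nat.card Ω := by
  unfold fixN
  congr 1
  exact Nat.card_congr (Equiv.subtypeUnivEquiv fun ω => one_smul G ω)

/-- Burnside: the number of orbits -/
theorem classInner_fixN_one [Fintype G] {Ω : Type v} [Finite Ω] [MulAction G Ω] :
    classInner (fixN G Ω) (fun _ => 1) = Nat.card (MulAction.orbitRel.Quotient G Ω) := by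
  classical
  have := Fintype.ofFinite Ω
  have h1 := MulAction.sum_card_fixedBy_eq_card_orbits_mul_card_group G Ω
  have h2 : ∑ g : G, fixN G Ω g = (Fintype.card (MulAction.orbitRel.Quotient G Ω) * Fintype.card G : ℕ) := by
    rw [← h1]
    push_cast
    refine Finset.sum_congr rfl fun g _ => ?_
    unfold fixN
    rw [← Nat.card_eq_fintype_card]
    rfl
  unfold classInner
  simp only [map_one, mul_one]
  rw [h2, Nat.card_eq_fintype_card, Nat.card_eq_fintype_card]
  push_cast
  have h3 : (Fintype.card G : ℂ) ≠ 0 := by exact_mod_cast Fintype.card_ne_zero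
  field_simp

theorem classInner_one_one [Fintype G] : classInner (fun _ : G => (1 : ℂ)) (fun _ => 1) = 1 := by
  unfold classInner
  simp only [map_one, mul_one, Finset.sum_const, Finset.card_univ, nsmul_eq_mul]
  rw [Nat.card_eq_fintype_card]
  have h3 : (Fintype.card G : ℂ) ≠ 0 := by exact_mod_cast Fintype.card_ne_zero
  field_simp

theorem Par.odd_orb [Fintype G] {Ω : Type v} [Finite Ω] [MulAction G Ω] (h : Par G Ω) (K : Subgroup G) :
    Odd (Nat.card (MulAction.orbitRel.Quotient K Ω)) := by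
  classical
  have := Fintype.ofFinite K
  obtain ⟨k, hk⟩ := h.res K (fun _ => 1) isCharacter_one (fun _ => map_one _)
  rw [classInner_fixN_one, classInner_one_one] at hk
  have h2 : ((Nat.card (MulAction.orbitRel.Quotient K Ω) : ℤ) : ℂ) = ((2 * k + 1 : ℤ) : ℂ) := by
    push_cast
    linear_combination hk
  have h3 : (Nat.card (MulAction.orbitRel.Quotient K Ω) : ℤ) = 2 * k + 1 := by exact_mod_cast h2
  have h4 : Odd ((Nat.card (MulAction.orbitRel.Quotient K Ω) : ℕ) : ℤ) := ⟨k, h3⟩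
  exact_mod_cast h4

theorem Par.odd_card [Fintype G] {Ω : Type v} [Finite Ω] [MulAction G Ω] (h : Par G Ω) : Odd (Nat.card Ω) := by
  have h1 := h.odd_orb ⊥
  have h2 : Nat.card (MulAction.orbitRel.Quotient (⊥ : Subgroup G) Ω) = Nat.card Ω := by
    refine (Nat.card_congr (Equiv.ofBijective (Quotient.mk _) ⟨fun a b hab => ?_, Quotient.mk_surjective⟩)).symm
    obtain ⟨⟨g, hg⟩, h⟩ := (MulAction.orbitRel_apply.1 (Quotient.exact hab))
    rw [Subgroup.mem_bot] at hg
    subst hg
    rw [← h]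
    exact one_smul G b
  rwa [h2] at h1

end basic

end Cfsg.Agent.H453.OddM
end

-- part: H453/OddM/Real
section
/-!
# From characters to fixed points (TEAM ODDM, S4785)
-/

set_option autoImplicit false
open Cfsg
open scoped ComplexConjugate

namespace Cfsg.Agent.H453.OddM

open Cfsg.Agent.Characters.Core Cfsg.Agent.OddOrderCharacters.IndRes

universe u v w

section quot

variable {G : Type u} [Group G]

theorem sum_quot [Fintype G] (H : Subgroup G) [Fintype (G ⧸ H)] (F : G ⧸ H → ℂ) :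
    ∑ x : G, F (QuotientGroup.mk x) = Nat.card H * ∑ ω : G ⧸ H, F ω := by
  classical
  rw [← Finset.sum_fiberwise_of_maps_to (s := Finset.univ) (t := Finset.univ)
    (g := fun x : G => (QuotientGroup.mk x : G ⧸ H)) (fun _ _ => Finset.mem_univ _), Finset.mul_sum]
  refine Finset.sum_congr rfl fun ω _ => ?_
  rw [Finset.sum_congr rfl (g := fun _ => F ω) (fun x hx => by rw [(Finset.mem_filter.1 hx).2]),
    Finset.sum_const, nsmul_eq_mul]
  congr 2
  obtain ⟨g, rfl⟩ := QuotientGroup.mk_surjective ω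
  rw [← Fintype.card_subtype, ← Nat.card_eq_fintype_card]
  refine Nat.card_congr
    { toFun := fun x => ⟨g⁻¹ * x.1, by
        have h := x.2
        exact QuotientGroup.eq.1 h.symm⟩
      invFun := fun h => ⟨g * h, by rw [QuotientGroup.mk_mul_of_mem _ h.2]⟩
      left_inv := fun x => by simp
      right_inv := fun h => by simp }

theorem fixN_quot [Fintype G] (H : Subgroup G) : indFun H (fun _ => (1 : ℂ)) = fixN G (G ⧸ H) := by
  classical
  have := Fintype.ofFinite (G ⧸ H)
  funext g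
  have h1 : ∀ x : G, extendByZero H (fun _ => (1 : ℂ)) (x⁻¹ * g * x) =
      (fun ω : G ⧸ H => if g • ω = ω then (1 : ℂ) else 0) (QuotientGroup.mk x) := by
    intro x
    by_cases h : x⁻¹ * g * x ∈ H
    · rw [extendByZero_of_mem H _ h]
      simp only [fixed_iff.2 h, if_true]
    · rw [extendByZero_of_notMem H _ h]
      simp only
      rw [if_neg (fun h' => h (fixed_iff.1 h'))]
  rw [indFun_apply, Finset.sum_congr rfl (fun x _ => h1 x),
    sum_quot H (fun ω : G ⧸ H => if g • ω = ω then (1 : ℂ) else 0), ← mul_assoc, inv_mul_cancel₀, one_mul,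
    Finset.sum_boole]
  · unfold fixN
    congr 1
    rw [Nat.card_eq_fintype_card, Fintype.card_subtype]
  · exact_mod_cast Nat.card_pos.ne'

theorem isCharacter_fixN [Fintype G] (H : Subgroup G) : IsCharacter G (fixN G (G ⧸ H)) := by
  rw [← fixN_quot]
  exact isCharacter_indFun H isCharacter_one

end quot

section irr

variable {G : Type u} [Group G] [Fintype G] [Fintype (IrrCharacter G)]

/-- complex conjugation on irreducible characters -/
noncomputable def cj (χ : IrrCharacter G) : IrrCharacter G := ⟨fun g => conj ((χ : G → ℂ) g), isIrr_conj χ.2⟩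

omit [Fintype (IrrCharacter G)] in
theorem cj_cj (χ : IrrCharacter G) : cj (cj χ) = χ := Subtype.ext (funext fun g => Complex.conj_conj _)

omit [Fintype (IrrCharacter G)] in
theorem cj_eq_iff (χ : IrrCharacter G) : cj χ = χ ↔ RV (χ : G → ℂ) :=
  ⟨fun h g => congrFun (congrArg Subtype.val h) g, fun h => Subtype.ext (funext h)⟩

/-- the coefficients of a real character are symmetric -/
theorem coeff_cj {ψ : G → ℂ} (hψ : RV ψ) {n : IrrCharacter G → ℕ} (hn : ψ = ∑ χ, n χ • (χ : G → ℂ))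
    (χ : IrrCharacter G) : n (cj χ) = n χ := by
  have h1 : ∀ χ : IrrCharacter G, classInner ψ (χ : G → ℂ) = n χ := fun χ => by
    rw [hn, classInner_sum_nsmul_irr]
  have h2 : classInner ψ (cj χ : G → ℂ) = conj (classInner ψ (χ : G → ℂ)) := by
    unfold classInner
    rw [map_mul, map_inv₀, Complex.conj_natCast, map_sum]
    congr 1
    refine Finset.sum_congr rfl fun g _ => ?_
    rw [map_mul, hψ g]
    rfl
  rw [h1, h1, Complex.conj_natCast] at h2
  exact_mod_cast h2

omit [Group G] [Fintype G] [Fintype (IrrCharacter G)] in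
theorem rv_one : RV (fun _ : G => (1 : ℂ)) := fun _ => map_one _

/-- the trivial character -/
noncomputable def iOne (G : Type u) [Group G] : IrrCharacter G := ⟨fun _ => 1, isIrr_one⟩

/-- the hypothesis of S4785 gives `Par` -/
theorem par_of_irr (H : Subgroup G)
    (h : ∀ χ : IrrCharacter G, (χ : G → ℂ) ≠ (fun _ => 1) → RV (χ : G → ℂ) →
      ∀ m : ℕ, Odd m → classInner (indFun H (fun _ : H => (1 : ℂ))) (χ : G → ℂ) ≠ m) : Par G (G ⧸ H) := by
  classical
  have := Fintype.ofFinite H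
  rw [fixN_quot] at h
  intro ψ hψ hr
  obtain ⟨a, ha⟩ := isCharacter_iff.1 (isCharacter_fixN H)
  obtain ⟨n, hn⟩ := isCharacter_iff.1 hψ
  have ha1 : ∀ χ : IrrCharacter G, classInner (fixN G (G ⧸ H)) (χ : G → ℂ) = a χ := fun χ => by
    rw [ha, classInner_sum_nsmul_irr]
  have h1 : a (iOne G) = 1 := by
    have h2 := ha1 (iOne G)
    have h3 : classInner (fixN G (G ⧸ H)) (iOne G : G → ℂ) = 1 := by
      rw [← fixN_quot, classInner_indFun_left H _ (fun _ _ => rfl)]
      exact classInner_one_one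
    rw [h3] at h2
    exact_mod_cast h2.symm
  have hac := coeff_cj rv_fixN ha
  have hnc := coeff_cj hr hn
  have hev : ∀ χ : IrrCharacter G, cj χ = χ → χ ≠ iOne G → (a χ : ZMod 2) = 0 := by
    intro χ h2 h3
    rw [ZMod.natCast_eq_zero_iff, ← even_iff_two_dvd, ← Nat.not_odd_iff_even]
    intro h4
    exact h χ (fun h5 => h3 (Subtype.ext h5)) ((cj_eq_iff χ).1 h2) (a χ) h4 (ha1 χ)
  have hone : cj (iOne G) = iOne G := (cj_eq_iff _).2 rv_one
  have key : ∑ χ : IrrCharacter G, ((a χ : ZMod 2) * (n χ : ZMod 2) - if χ = iOne G then (n χ : ZMod 2) else 0) = 0 := by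
    refine Finset.sum_involution (fun χ _ => cj χ) ?_ ?_ (fun _ _ => Finset.mem_univ _) (fun χ _ => cj_cj χ)
    · intro χ _
      rw [hac, hnc]
      have h2 : (cj χ = iOne G) ↔ (χ = iOne G) := by
        constructor
        · intro h3
          have h4 := congrArg cj h3
          rwa [cj_cj, hone] at h4
        · rintro rfl; exact hone
      simp only [h2]
      exact CharTwo.add_self_eq_zero _
    · intro χ _ h2 h3
      apply h2
      by_cases h4 : χ = iOne G
      · subst h4
        rw [h1, if_pos rfl]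
        simp
      · rw [hev χ h3 h4, if_neg h4]
        simp
  rw [Finset.sum_sub_distrib, Finset.sum_ite_eq' Finset.univ (iOne G), if_pos (Finset.mem_univ _)] at key
  have e1 : classInner (fixN G (G ⧸ H)) ψ = ((∑ χ, a χ * n χ : ℕ) : ℂ) := by
    rw [hn, classInner_sum_right]
    push_cast
    refine Finset.sum_congr rfl fun χ _ => ?_
    have h5 : ((n χ • (χ : G → ℂ)) : G → ℂ) = (n χ : ℂ) • (χ : G → ℂ) := by
      funext g; simp
    rw [h5, classInner_smul_right, ha1, Complex.conj_natCast, mul_comm]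
  have e2 : classInner (fun _ => 1) ψ = n (iOne G) := by
    have h5 : classInner ψ (iOne G : G → ℂ) = n (iOne G) := by rw [hn, classInner_sum_nsmul_irr]
    rw [← classInner_conj_symm]
    change conj (classInner ψ (iOne G : G → ℂ)) = _
    rw [h5, Complex.conj_natCast]
  rw [e1, e2]
  have h6 : (((∑ χ, a χ * n χ : ℕ) : ℤ) - (n (iOne G) : ℤ) : ZMod 2) = 0 := by
    push_cast
    exact key
  have h8 : (((((∑ χ, a χ * n χ : ℕ) : ℤ) - (n (iOne G) : ℤ) : ℤ)) : ZMod 2) = 0 := by
    push_cast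
    exact key
  obtain ⟨k, hk⟩ := (ZMod.intCast_zmod_eq_zero_iff_dvd _ 2).1 h8
  refine ⟨k, ?_⟩
  have h7 := congrArg (fun z : ℤ => (z : ℂ)) hk
  push_cast at h7 ⊢
  exact h7

/-- real elements have an odd number of fixed points -/
theorem Par.odd_fix (H : Subgroup G) (h : Par G (G ⧸ H)) {x : G} (hx : IsReal x) :
    Odd (Nat.card {ω : G ⧸ H // x • ω = ω}) := by
  classical
  obtain ⟨a, ha⟩ := isCharacter_iff.1 (isCharacter_fixN H)
  have ha1 : ∀ χ : IrrCharacter G, classInner (fixN G (G ⧸ H)) (χ : G → ℂ) = a χ := fun χ => by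
    rw [ha, classInner_sum_nsmul_irr]
  have hac := coeff_cj rv_fixN ha
  have hone : cj (iOne G) = iOne G := (cj_eq_iff _).2 rv_one
  have hxv : ∀ χ : IrrCharacter G, (cj χ : G → ℂ) x = (χ : G → ℂ) x := by
    intro χ
    obtain ⟨g, hg⟩ := hx
    change conj ((χ : G → ℂ) x) = _
    rw [← isCharacter_apply_inv (isIrr_isCharacter χ.2) x, ← hg]
    exact isIrr_isClassFunction χ.2 x g
  let A := integralClosure ℤ ℂ
  let c : IrrCharacter G → A := fun χ => ⟨(χ : G → ℂ) x,
    Characters.GaloisBasic.isIntegral_apply (isIrr_isCharacter χ.2) x⟩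
  let b : IrrCharacter G → ℤ := fun χ => (a χ : ℤ) - if χ = iOne G then 1 else 0
  let I : Ideal A := Ideal.span {2}
  have hI : ∀ y : A, Ideal.Quotient.mk I (2 * y) = 0 := fun y =>
    Ideal.Quotient.eq_zero_iff_mem.2 (Ideal.mem_span_singleton.2 ⟨y, rfl⟩)
  have hb : ∀ χ, b (cj χ) = b χ := by
    intro χ
    have h2 : (cj χ = iOne G) ↔ (χ = iOne G) := by
      constructor
      · intro h3
        have h4 := congrArg cj h3
        rwa [cj_cj, hone] at h4
      · rintro rfl; exact hone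
    simp only [b, hac, h2]
  have hbe : ∀ χ, cj χ = χ → ∃ k : ℤ, b χ = 2 * k := by
    intro χ h1
    obtain ⟨k, hk⟩ := h χ (isIrr_isCharacter χ.2) ((cj_eq_iff χ).1 h1)
    refine ⟨k, ?_⟩
    rw [ha1] at hk
    have h2 : classInner (fun _ => 1) (χ : G → ℂ) = if χ = iOne G then 1 else 0 := by
      by_cases h3 : χ = iOne G
      · subst h3
        rw [if_pos rfl]
        exact classInner_one_one
      · rw [if_neg h3]
        exact classInner_irr_ne (iOne G).2 χ.2 (fun h4 => h3 (Subtype.ext h4.symm))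
    rw [h2] at hk
    have h4 : ((b χ : ℤ) : ℂ) = ((2 * k : ℤ) : ℂ) := by
      simp only [b]
      push_cast
      rw [← hk]
    exact_mod_cast h4
  have key : ∑ χ : IrrCharacter G, Ideal.Quotient.mk I ((b χ : A) * c χ) = 0 := by
    refine Finset.sum_involution (fun χ _ => cj χ) ?_ ?_ (fun _ _ => Finset.mem_univ _) (fun χ _ => cj_cj χ)
    · intro χ _
      have h1 : c (cj χ) = c χ := Subtype.ext (hxv χ)
      rw [h1, hb, ← map_add, ← two_mul]
      exact hI _
    · intro χ _ h2 h3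
      apply h2
      obtain ⟨k, hk⟩ := hbe χ h3
      rw [hk]
      push_cast
      rw [mul_assoc]
      exact hI _
  rw [← map_sum, Ideal.Quotient.eq_zero_iff_mem] at key
  obtain ⟨y, hy⟩ := Ideal.mem_span_singleton.1 key
  have h1 : fixN G (G ⧸ H) x - 1 = 2 * (y : ℂ) := by
    have h2 := congrArg (fun z : A => (z : ℂ)) hy
    simp only [AddSubmonoidClass.coe_finsetSum, MulMemClass.coe_mul] at h2
    have h3 : ∑ χ : IrrCharacter G, (((b χ : A) : ℂ) * (c χ : ℂ)) = fixN G (G ⧸ H) x - 1 := by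
      have h4 : ∀ χ : IrrCharacter G, (((b χ : A) : ℂ) * (c χ : ℂ)) =
          (a χ : ℂ) * (χ : G → ℂ) x - if χ = iOne G then (χ : G → ℂ) x else 0 := by
        intro χ
        have h5 : ((b χ : A) : ℂ) = (b χ : ℂ) := by simp
        rw [h5]
        simp only [b, c]
        push_cast
        split_ifs <;> ring
      rw [Finset.sum_congr rfl (fun χ _ => h4 χ), Finset.sum_sub_distrib,
        Finset.sum_ite_eq' Finset.univ (iOne G), if_pos (Finset.mem_univ _), ha]
      congr 1
      simp [Finset.sum_apply]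
    rw [h3] at h2
    rw [h2]
    have h6 : ((2 : A) : ℂ) = 2 := map_ofNat (algebraMap A ℂ) 2
    rw [h6]
  obtain ⟨k, hk⟩ := Characters.GaloisBasic.exists_int_of_isIntegral y.2
    ⟨((Nat.card {ω : G ⧸ H // x • ω = ω} : ℚ) - 1) / 2, by
      push_cast
      have h2 : fixN G (G ⧸ H) x = (Nat.card {ω : G ⧸ H // x • ω = ω} : ℂ) := rfl
      rw [h2] at h1
      rw [h1]
      ring⟩
  rw [hk] at h1
  have h2 : ((Nat.card {ω : G ⧸ H // x • ω = ω} : ℤ) : ℂ) = ((2 * k + 1 : ℤ) : ℂ) := by
    push_cast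
    have h2 : fixN G (G ⧸ H) x = (Nat.card {ω : G ⧸ H // x • ω = ω} : ℂ) := rfl
    rw [h2] at h1
    linear_combination h1
  have h3 : (Nat.card {ω : G ⧸ H // x • ω = ω} : ℤ) = 2 * k + 1 := by exact_mod_cast h2
  have h4 : Odd ((Nat.card {ω : G ⧸ H // x • ω = ω} : ℕ) : ℤ) := ⟨k, h3⟩
  exact_mod_cast h4

end irr

/-- the interface -/
theorem Par.ro {G : Type u} [Group G] [Fintype G] (H : Subgroup G) (h : Par G (G ⧸ H)) : RO G H := by
  classical
  have := finite_irr (G := G)
  have := Fintype.ofFinite (IrrCharacter G)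
  exact ⟨h.odd_card, fun x hx => Par.odd_fix H h hx, fun K => h.odd_orb K⟩

end Cfsg.Agent.H453.OddM
end
end

-- part: H143/OdmLift
section
set_option linter.all false
open scoped Cfsg.Agent.FastGrp

/-!
# Lifting reality through a quotient by a `p'`-group (helper143)

`isReal_lift`: `φ : G →* H` with `p ∤ |ker φ|`, `x` of prime order `p`, `φ (g x g⁻¹) = φ x⁻¹`; then `x` is real.
`realP_five_of_alt`: `φ` with image `A₅` and kernel of order prime to `5`.
-/

set_option autoImplicit false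

namespace Cfsg.Agent.H143.OdmLift

open Subgroup Cfsg.Agent.H453.OddM

theorem isReal_lift {G H : Type*} [Group G] [Finite G] [Group H] (φ : G →* H) {p : ℕ} (hp : p.Prime)
    (hcop : ¬ p ∣ Nat.card φ.ker) {x : G} (hx : orderOf x = p) {g : G} (hg : φ (g * x * g⁻¹) = φ x⁻¹) :
    IsReal x := by
  classical
  have : Fact p.Prime := ⟨hp⟩
  set L : Subgroup G := (zpowers (φ x)).comap φ with hL
  have hxL : x ∈ L := mem_comap.2 (mem_zpowers (φ x))
  have hyL : g * x * g⁻¹ ∈ L := by
    rw [hL, mem_comap, hg, map_inv]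
    exact inv_mem (mem_zpowers _)
  have hy : orderOf (g * x * g⁻¹) = p := by
    rw [← hx]
    exact orderOf_injective (MulAut.conj g).toMonoidHom (MulAut.conj g).injective x
  have hp1 : IsPGroup p (zpowers (⟨x, hxL⟩ : L)) :=
    IsPGroup.of_card (n := 1) (by rw [Nat.card_zpowers, Subgroup.orderOf_mk, hx, pow_one])
  have hp2 : IsPGroup p (zpowers (⟨g * x * g⁻¹, hyL⟩ : L)) :=
    IsPGroup.of_card (n := 1) (by rw [Nat.card_zpowers, Subgroup.orderOf_mk, hy, pow_one])
  obtain ⟨S1, hS1⟩ := hp1.exists_le_sylow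
  obtain ⟨S2, hS2⟩ := hp2.exists_le_sylow
  obtain ⟨l, hl⟩ := MulAction.exists_smul_eq L S2 S1
  have h1 : (⟨x, hxL⟩ : L) ∈ (S1 : Subgroup L) := hS1 (mem_zpowers _)
  have h2 : (⟨g * x * g⁻¹, hyL⟩ : L) ∈ (S2 : Subgroup L) := hS2 (mem_zpowers _)
  have h3 : l * (⟨g * x * g⁻¹, hyL⟩ : L) * l⁻¹ ∈ (S1 : Subgroup L) := by
    rw [← hl]
    exact Subgroup.smul_mem_pointwise_smul _ (MulAut.conj l) _ h2
  -- `l y l⁻¹ x` lies in the kernel and in `S1`
  have h4 : φ ((l : G) * (g * x * g⁻¹) * (l : G)⁻¹ * x) = 1 := by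
    have hlm : φ (l : G) ∈ zpowers (φ x) := l.2
    obtain ⟨k, hk⟩ := mem_zpowers_iff.1 hlm
    rw [map_mul, map_mul, map_mul, hg, map_inv, map_inv, ← hk]
    group
  have h5 : l * (⟨g * x * g⁻¹, hyL⟩ : L) * l⁻¹ * (⟨x, hxL⟩ : L) ∈ (S1 : Subgroup L) := mul_mem h3 h1
  have h6 : ((l * (⟨g * x * g⁻¹, hyL⟩ : L) * l⁻¹ * (⟨x, hxL⟩ : L) : L) : G) = 1 := by
    set w := l * (⟨g * x * g⁻¹, hyL⟩ : L) * l⁻¹ * (⟨x, hxL⟩ : L) with hw
    have h7 : (w : G) ∈ φ.ker := h4
    have h8 : orderOf (w : G) ∣ Nat.card φ.ker := Subgroup.orderOf_dvd_natCard _ h7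
    obtain ⟨k, hk⟩ := S1.isPGroup' ⟨w, h5⟩
    have h9 : w ^ p ^ k = 1 := congrArg Subtype.val hk
    have h10 : (w : G) ^ p ^ k = 1 := by
      have := congrArg (Subtype.val : L → G) h9
      simpa using this
    have h11 : orderOf (w : G) ∣ p ^ k := orderOf_dvd_of_pow_eq_one h10
    obtain ⟨j, -, hj⟩ := (Nat.dvd_prime_pow hp).1 h11
    rcases Nat.eq_zero_or_pos j with h0 | h0
    · rw [h0, pow_zero] at hj
      exact orderOf_eq_one_iff.1 hj
    · exfalso
      apply hcop
      refine (dvd_pow_self p h0.ne').trans ?_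
      rw [← hj]
      exact h8
  refine ⟨(l : G) * g, ?_⟩
  have h7 : (l : G) * (g * x * g⁻¹) * (l : G)⁻¹ * x = 1 := h6
  rw [← eq_inv_of_mul_eq_one_left h7]
  group

/-- a homomorphism onto `A₅` with kernel of order prime to `5` -/
theorem realP_five {G : Type*} [Group G] [Finite G] (φ : G →* Equiv.Perm (Fin 5))
    (hφ : alternatingGroup (Fin 5) ≤ φ.range) (hcop : ¬ 5 ∣ Nat.card φ.ker) : RealP G 5 := by
  classical
  have key : ∃ c d : Equiv.Perm (Fin 5), Equiv.Perm.sign c = 1 ∧ Equiv.Perm.sign d = 1 ∧ c ^ 5 = 1 ∧ c ≠ 1 ∧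
      d * c * d⁻¹ = c⁻¹ := by
    refine ⟨finRotate 5, finRotate 5 * Fin.revPerm, ?_, ?_, ?_, ?_, ?_⟩ <;> decide
  obtain ⟨c, d, hc, hd, hc5, hc1, hdc⟩ := key
  obtain ⟨x0, hx0⟩ := hφ (Equiv.Perm.mem_alternatingGroup.2 hc)
  obtain ⟨g, hg⟩ := hφ (Equiv.Perm.mem_alternatingGroup.2 hd)
  -- an inverse of `|ker φ|` modulo 5
  set m := Nat.card φ.ker with hm
  have h1 : x0 ^ 5 ∈ φ.ker := by rw [MonoidHom.mem_ker, map_pow, hx0, hc5]
  have h2 : (x0 ^ m) ^ 5 = 1 := by
    rw [← pow_mul, mul_comm, pow_mul]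
    exact orderOf_dvd_iff_pow_eq_one.1 (Subgroup.orderOf_dvd_natCard _ h1)
  have h3 : φ (x0 ^ m) = c ^ m := by rw [map_pow, hx0]
  have : Fact (Nat.Prime 5) := ⟨by norm_num⟩
  have h5 : orderOf c = 5 := orderOf_eq_prime hc5 hc1
  have h4 : c ^ m ≠ 1 := by
    intro h
    apply hcop
    rw [← h5]
    exact orderOf_dvd_of_pow_eq_one h
  have h6 : orderOf (x0 ^ m) = 5 := by
    refine orderOf_eq_prime h2 fun h => h4 ?_
    rw [← h3, h, map_one]
  refine ⟨x0 ^ m, h6, isReal_lift φ (by norm_num : Nat.Prime 5) hcop h6 (g := g) ?_⟩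
  rw [map_mul, map_mul, map_inv, map_inv, h3, hg, ← conj_pow, hdc, inv_pow]

end Cfsg.Agent.H143.OdmLift
end
end
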