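import Mathlib
import Cfsg.Agent.H459.Gallery
import Cfsg.Agent.KFacts.M23.OutOne
import Cfsg.Agent.H583.OdmM23Three
import Cfsg.Agent.H447.KRowM23
import Cfsg.Agent.H325.Same.ExcPair8_m3
import Cfsg.Agent.H217.Odm.Real_m3
import Cfsg.Agent.H463.Tor.TorM
import Cfsg.Agent.H603.SporElim
import Cfsg.Agent.H453.OddM.Real_m3
import Cfsg.Agent.H898.J3Cent
import Cfsg.Agent.H315.JThreeFact
import Cfsg.Agent.LThreeMB.Quo
import Cfsg.Agent.H341.SelfThree
import Cfsg.Agent.H413.JOneLocal
import Cfsg.Agent.H199.NSmAbs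
import Cfsg.Agent.OddOrderLocal.FittingHall
import Cfsg.Agent.ClassicalGeometry.PSL2Basic
import Cfsg.Agent.H149.Sp.Th
import Cfsg.Agent.H981.SCTh
import Cfsg.Agent.H573.Spor.Lift
import Cfsg.Agent.H393.Iso.He
import Cfsg.Agent.H332.MonUpper
import Cfsg.Agent.S5533
import Cfsg.Agent.S1066
import Cfsg.Agent.H181.MonMod
import Cfsg.Agent.H976.OddM.UnC_m3
import Cfsg.Agent.H907.Odm.Core_m3
import Cfsg.Agent.H177.OM.TDFour_m3
import Cfsg.Agent.H180.ElTits
import Cfsg.Agent.H800.Sp.TitsFive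
import Cfsg.Agent.H180.MElM12_m3
import Cfsg.Agent.H1.J1Real
import Cfsg.Agent.H257.El.Row.J4
import Cfsg.Agent.H846.PB.HS
import Cfsg.Agent.H573.Spor.HSFive_m3
import Cfsg.Agent.H348.PPD.RowSuz
import Cfsg.Agent.H680.ONThirtyOne_m3
import Cfsg.Agent.H215.CC.LyThirtySeven
import Cfsg.Agent.H839.SeventeenMain_m3
import Cfsg.Agent.H729.PairTool_m3
import Cfsg.Agent.LThreeFi23.TwoCl
import Cfsg.Agent.H322.Odm.BCent
import Cfsg.Agent.H979.OddB
import Cfsg.Agent.H648.Loc.RowB
import Cfsg.Agent.H799.RO.CoNine_m3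
import Cfsg.Agent.H800.Sp.B
import Cfsg.Agent.OrdDiv.Table
import Cfsg.Agent.H795.Odm.OdmRowM12
import Cfsg.Agent.H858.OdmRowM22
import Cfsg.Agent.H311.OdmRowCo1
import Cfsg.Agent.H306.OdmRowCo2
import Cfsg.Agent.CoOneType.CoAp
import Cfsg.Agent.CoOneType.CoQZ
import Cfsg.Agent.CoOneType.CoW
import Cfsg.Agent.H551.OddTwoD_mg
import Cfsg.Agent.H519.LieRank
import Cfsg.Agent.Tits.Generic
import Cfsg.Agent.H742.PanU_m3
import Cfsg.Agent.S0245
import Cfsg.Agent.H262.ElFourA
import Cfsg.Agent.H813.SaxSpK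
import Cfsg.Agent.H264.FKS.Final_m3
import Cfsg.Agent.H264.FKS.ResCore
import Cfsg.Agent.H278.ElAsm
import Cfsg.Agent.H884.CxMain_m3
import Cfsg.Agent.S0818
import Cfsg.Agent.H563.KG.Elim_m3
import Cfsg.Agent.H177.OM.GTwoReal
import Cfsg.Agent.H56.Exc.Auto_m3
import Cfsg.Agent.H56.Exc.BigRows
import Cfsg.Agent.H946.KZ.SameF4
import Cfsg.Agent.H325.IsoExc
import Cfsg.Agent.H884.ElO8
import Cfsg.Agent.H163.PG.PslAut
import Cfsg.Agent.H278.ElFamA
import Cfsg.Agent.H278.ElCore
import Cfsg.Agent.H264.FKS.Res_m3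
import Cfsg.Agent.H341.ThreeList_m3
import Cfsg.Agent.H501.RowOmega
import Cfsg.Agent.H264.FKS.Char
import Cfsg.Agent.H278.ElTop
import Cfsg.Agent.H304.Ela.FamA
import Cfsg.Agent.S0243
import Mathlib.LinearAlgebra.Projectivization.Action
import Mathlib.LinearAlgebra.Projectivization.Cardinality
import Cfsg.Agent.H304.PslRes_m3
import Cfsg.Agent.H304.Psl3
import Cfsg.Agent.H907.MxSymp2_m3
import Cfsg.Agent.H845.AutUFour
import Cfsg.Agent.S5782
import Cfsg.Agent.H262.ElSympRes
import Cfsg.Agent.H918.Transv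
import Cfsg.Agent.H922.OddPerp
import Cfsg.Agent.LieClassical.SLGen
import Cfsg.Agent.FastGrp
import Cfsg.Agent.Prune
set_option linter.all false

section
prune_inst 0x7ffcadf8ebb831dedfff7e7faed9dffc19805fffefdff943ffe021cf0f9f03000bc5fbad0de010fe0ec2e21410b87853fbfffeffe26fdc7ffffd5df41ffbee4ff5f7b508119688340f3c0ff603f0778e7f3fffffffffffffffffffffffffffbeffbfffffffff

-- part: H583/OdmRowM23_mg
section
prune_inst 0x2520204408c012000000051240003807ca00000000030000dca3090600867a0200002e004ca00903400000000030004000000010020000000a2004000001002080a214040100a00c06009f801080000000000000000000000000000000041004000000000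
set_option linter.all false
open scoped Cfsg.Agent.FastGrp

-- part: H544/LQ/Defs
section
/-!
# Latin quandle automorphisms (S4114, helper544): definitions

`x : MulAut G`, `G` a finite group.

* `Lat x` : `c (g⁻¹ x(g)) = h⁻¹ x(h)` and `x c = c` imply `c = 1`;
* `Hyp x` : `x ≠ 1`, `Lat x`, and `RC x` (helper459: `x` acts trivially on `M / Rad M` for every proper `x`-invariant
  subgroup `M`): the automorphism of a minimal counterexample;
* `Row G` : no automorphism of `G` satisfies `Hyp`.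
-/

set_option autoImplicit false

namespace Cfsg.Agent.H544.LQ

open Cfsg Subgroup Cfsg.Agent.H459.Rad Cfsg.Agent.H459.Gallery

variable {G : Type*} [Group G]

/-- The elements `g⁻¹ x(g)` are in different cosets of the fixed points. -/
def Lat (x : MulAut G) : Prop :=
  ∀ c g h : G, x c = c → c * (g⁻¹ * x g) = h⁻¹ * x h → c = 1

/-- the hypotheses on the automorphism of a minimal counterexample -/
structure Hyp (x : MulAut G) : Prop where
  ne : x ≠ 1
  lat : Lat x
  rc : RC x

/-- the row of the simple group `G` -/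
def Row (G : Type*) [Group G] : Prop := ∀ x : MulAut G, ¬ Hyp x

end Cfsg.Agent.H544.LQ
end

-- part: H269/LQ/TT
section
/-!
# Latin quandle automorphisms of 2-transitive groups (S4114, helper269)

* `comm_eq` : `x (g⁻¹ x(g)) = g⁻¹ x(g)` implies `g⁻¹ x(g) = 1`;
* `card_fiber` : `(c, g) ↦ c g⁻¹ x(g)` has fibres of order `|C|`, `C` the fixed points;
* **`lat_tt`** : `K` 2-transitive on `Ω`, `π : Perm Ω`, `π (g ω) = x(g) π(ω)`: `π` has exactly one fixed point, or `C` is
  transitive on `Ω`;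
* `lat_tr`, `row_congr` : isomorphisms.
-/

set_option autoImplicit false
set_option linter.unusedSectionVars false

namespace Cfsg.Agent.H269.LQ

open Cfsg Subgroup Cfsg.Agent.H459.Rad Cfsg.Agent.H459.Gallery Cfsg.Agent.H544.LQ

section iso

variable {K L : Type*} [Group K] [Group L]

theorem lat_tr (e : K ≃* L) {x : MulAut K} (h : Lat x) : Lat (tr e x) := by
  intro c g k hc he
  have h1 : e.symm c = 1 := by
    refine h (e.symm c) (e.symm g) (e.symm k) ?_ ?_
    · have h2 := congrArg e.symm hc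
      rwa [tr_apply, e.symm_apply_apply] at h2
    · have h2 := congrArg e.symm he
      simp only [map_mul, map_inv, tr_apply, e.symm_apply_apply] at h2
      exact h2
  rwa [map_eq_one_iff _ e.symm.injective] at h1

theorem hyp_tr [Finite K] [Finite L] (e : K ≃* L) {x : MulAut K} (h : Hyp x) : Hyp (tr e x) where
  ne h1 := h.ne ((trE e).injective (h1.trans (map_one (trE e)).symm))
  lat := lat_tr e h.lat
  rc := h.rc.tr e

theorem row_congr [Finite K] [Finite L] (e : K ≃* L) (h : Row L) : Row K := fun _ hx => h _ (hyp_tr e hx)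

end iso

section basic

variable {K : Type*} [Group K] {x : MulAut K}

/-- `x` commutes with no other conjugate -/
theorem comm_eq (h : Lat x) {g : K} (hg : x (g⁻¹ * x g) = g⁻¹ * x g) : g⁻¹ * x g = 1 := by
  have h1 := h (g⁻¹ * x g)⁻¹ g 1 (by rw [map_inv, hg]) (by rw [inv_mul_cancel]; simp)
  rwa [inv_eq_one] at h1

end basic

section count

variable {K : Type*} [Group K] [Fintype K] [DecidableEq K] {x : MulAut K}

/-- the fixed points -/
def Cs (x : MulAut K) : Finset K := Finset.univ.filter fun c => x c = c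

theorem mem_Cs {c : K} : c ∈ Cs x ↔ x c = c := by simp [Cs]

theorem one_mem_Cs : (1 : K) ∈ Cs x := mem_Cs.2 (map_one x)

/-- the fibre of `y` -/
def fib (x : MulAut K) (y : K) : Finset (K × K) :=
  (Cs x ×ˢ Finset.univ).filter fun a => a.1 * (a.2⁻¹ * x a.2) = y

theorem card_fib_le (h : Lat x) (y : K) : (fib x y).card ≤ (Cs x).card := by
  rcases (fib x y).eq_empty_or_nonempty with h0 | ⟨⟨c, g⟩, hcg⟩
  · rw [h0, Finset.card_empty]
    exact Nat.zero_le _
  · simp only [fib, Finset.mem_filter, Finset.mem_product, Finset.mem_univ, and_true] at hcg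
    refine Finset.card_le_card_of_injOn (fun a => a.2 * g⁻¹) ?_ ?_
    · rintro ⟨c', g'⟩ h1
      simp only [fib, Finset.coe_filter, Finset.mem_product, Finset.mem_univ, and_true, Set.mem_ofPred_eq] at h1
      have h2 := mem_Cs.1 hcg.1
      have h3 := mem_Cs.1 h1.1
      have h4 : c'⁻¹ * c = 1 := by
        refine h (c'⁻¹ * c) g g' (by rw [map_mul, map_inv, h2, h3]) ?_
        rw [mul_assoc, hcg.2, ← h1.2, inv_mul_cancel_left]
      have h5 : c' = c := (inv_mul_eq_one.1 h4)
      subst h5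
      have h6 : g⁻¹ * x g = g'⁻¹ * x g' := mul_left_cancel (hcg.2.trans h1.2.symm)
      simp only [Finset.mem_coe]
      rw [mem_Cs, map_mul, map_inv]
      calc x g' * (x g)⁻¹ = g' * (g'⁻¹ * x g') * (x g)⁻¹ := by group
        _ = g' * (g⁻¹ * x g) * (x g)⁻¹ := by rw [h6]
        _ = g' * g⁻¹ := by group
    · rintro ⟨c₁, g₁⟩ h1 ⟨c₂, g₂⟩ h2 he
      simp only [fib, Finset.coe_filter, Finset.mem_product, Finset.mem_univ, and_true, Set.mem_ofPred_eq] at h1 h2
      have h3 : g₁ = g₂ := mul_right_cancel he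
      subst h3
      have h4 : c₁ = c₂ := mul_right_cancel (h1.2.trans h2.2.symm)
      rw [h4]

theorem card_fib (h : Lat x) (y : K) : (fib x y).card = (Cs x).card := by
  have h1 : ∑ y : K, (fib x y).card = ∑ _y : K, (Cs x).card := by
    have h2 := Finset.card_eq_sum_card_fiberwise (s := Cs x ×ˢ (Finset.univ : Finset K)) (t := (Finset.univ : Finset K))
      (f := fun a => a.1 * (a.2⁻¹ * x a.2)) (fun _ _ => Finset.mem_coe.2 (Finset.mem_univ _))
    rw [Finset.card_product] at h2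
    rw [Finset.sum_const, smul_eq_mul, mul_comm, h2]
    rfl
  exact (Finset.sum_eq_sum_iff_of_le (fun y _ => card_fib_le h y)).1 h1 y (Finset.mem_univ _)

variable {Ω : Type*} [MulAction K Ω] [Fintype Ω] [DecidableEq Ω] {π : Equiv.Perm Ω}

/-- the number of conjugates of `π` which map `ω` to `ω'` -/
def Fn (K : Type*) [Group K] [Fintype K] {Ω : Type*} [MulAction K Ω] [DecidableEq Ω] (π : Equiv.Perm Ω) (ω ω' : Ω) :
    ℕ := ((Finset.univ : Finset K).filter fun g => π (g • ω) = g • ω').card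

theorem Fn_smul (k : K) (ω ω' : Ω) : Fn K π (k • ω) (k • ω') = Fn K π ω ω' := by
  unfold Fn
  refine Finset.card_bij' (fun g _ => g * k) (fun g _ => g * k⁻¹) ?_ ?_ ?_ ?_
  · intro g hg
    simp only [Finset.mem_filter, Finset.mem_univ, true_and] at hg ⊢
    rwa [mul_smul, mul_smul]
  · intro g hg
    simp only [Finset.mem_filter, Finset.mem_univ, true_and] at hg ⊢
    rwa [mul_smul, inv_smul_smul, mul_smul, inv_smul_smul]
  · intro g _
    simp
  · intro g _
    simp

theorem sum_Fn (hπ : ∀ (g : K) (ω : Ω), π (g • ω) = x g • π ω) (h : Lat x) (ω ω' : Ω) :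
    ∑ c ∈ Cs x, Fn K π ω (c⁻¹ • ω') = (Cs x).card * ((Finset.univ : Finset K).filter fun y => y • π ω = ω').card := by
  have h1 : ∀ c : K, Fn K π ω (c⁻¹ • ω') =
      ((Finset.univ : Finset K).filter fun g => (c * (g⁻¹ * x g)) • π ω = ω').card := by
    intro c
    unfold Fn
    congr 1
    ext g
    simp only [Finset.mem_filter, Finset.mem_univ, true_and]
    rw [hπ]
    constructor
    · intro h2
      rw [mul_smul, mul_smul, h2, inv_smul_smul, smul_inv_smul]
    · intro h2
      rw [← h2, mul_smul, inv_smul_smul, mul_smul, smul_inv_smul]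
  simp only [h1]
  -- count the pairs
  have h2 : ∑ c ∈ Cs x, ((Finset.univ : Finset K).filter fun g => (c * (g⁻¹ * x g)) • π ω = ω').card =
      ((Cs x ×ˢ (Finset.univ : Finset K)).filter fun a => (a.1 * (a.2⁻¹ * x a.2)) • π ω = ω').card := by
    rw [Finset.card_filter, Finset.sum_product]
    refine Finset.sum_congr rfl fun c _ => ?_
    rw [Finset.card_filter]
  rw [h2, Finset.card_eq_sum_card_fiberwise (t := (Finset.univ : Finset K).filter fun y => y • π ω = ω')
    (f := fun a => a.1 * (a.2⁻¹ * x a.2))]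
  · have h3 : ∀ y ∈ (Finset.univ : Finset K).filter fun y => y • π ω = ω',
        (((Cs x ×ˢ (Finset.univ : Finset K)).filter fun a => (a.1 * (a.2⁻¹ * x a.2)) • π ω = ω').filter
          fun a => a.1 * (a.2⁻¹ * x a.2) = y).card = (Cs x).card := by
      intro y hy
      rw [Finset.mem_filter] at hy
      rw [← card_fib h y]
      unfold fib
      congr 1
      ext a
      simp only [Finset.mem_filter]
      constructor
      · rintro ⟨⟨h4, -⟩, h5⟩
        exact ⟨h4, h5⟩
      · rintro ⟨h4, h5⟩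
        exact ⟨⟨h4, by rw [h5]; exact hy.2⟩, h5⟩
    rw [Finset.sum_congr rfl h3, Finset.sum_const, smul_eq_mul, mul_comm]
  · intro a ha
    simp only [Finset.coe_filter, Set.mem_ofPred_eq] at ha ⊢
    exact ⟨Finset.mem_univ _, ha.2⟩

end count

/-- **The 2-transitive trick.** -/
theorem lat_tt {K : Type*} [Group K] [Finite K] {x : MulAut K} (h : Lat x) {Ω : Type*}
    [MulAction K Ω] [Finite Ω] (h2 : ∀ a b c d : Ω, a ≠ b → c ≠ d → ∃ g : K, g • a = c ∧ g • b = d)
    (h1 : ∀ a b : Ω, ∃ g : K, g • a = b) (π : Equiv.Perm Ω) (hπ : ∀ (g : K) (ω : Ω), π (g • ω) = x g • π ω) :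
    (∃! ω, π ω = ω) ∨ ∀ ω ω' : Ω, ∃ c : K, x c = c ∧ c • ω = ω' := by
  classical
  have := Fintype.ofFinite K
  have := Fintype.ofFinite Ω
  rcases isEmpty_or_nonempty Ω with hΩ | ⟨⟨ω₀⟩⟩
  · exact Or.inr fun ω => (hΩ.false ω).elim
  by_cases hne : ∃ ω₁ : Ω, ω₁ ≠ ω₀
  swap
  · push Not at hne
    left
    refine ⟨ω₀, hne _, fun y _ => hne y⟩
  obtain ⟨ω₁, hω₁⟩ := hne
  set F0 := Fn K π ω₀ ω₀ with hF0
  set F1 := Fn K π ω₀ ω₁ with hF1
  have hF0' : ∀ ω, Fn K π ω ω = F0 := by
    intro ω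
    obtain ⟨g, hg⟩ := h1 ω₀ ω
    rw [← hg, Fn_smul]
  have hF1' : ∀ ω ω' : Ω, ω ≠ ω' → Fn K π ω ω' = F1 := by
    intro ω ω' hww
    obtain ⟨g, hg, hg'⟩ := h2 ω₀ ω₁ ω ω' hω₁.symm hww
    rw [← hg, ← hg', Fn_smul]
  set N := ((Finset.univ : Finset K).filter fun y => y • π ω₀ = ω₀).card with hN
  have hN' : ∀ ω ω' : Ω, ((Finset.univ : Finset K).filter fun y => y • π ω = ω').card = N := by
    intro ω ω'
    obtain ⟨a, ha⟩ := h1 (π ω) (π ω₀)
    obtain ⟨b, hb⟩ := h1 ω' ω₀
    refine Finset.card_bij' (fun y _ => b * y * a⁻¹) (fun y _ => b⁻¹ * y * a) ?_ ?_ ?_ ?_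
    · intro y hy
      simp only [Finset.mem_filter, Finset.mem_univ, true_and] at hy ⊢
      rw [← ha, mul_smul, inv_smul_smul, mul_smul, hy, hb]
    · intro y hy
      simp only [Finset.mem_filter, Finset.mem_univ, true_and] at hy ⊢
      rw [mul_smul, ha, mul_smul, hy, ← hb, inv_smul_smul]
    · intro y _
      group
    · intro y _
      group
  have key : ∀ ω ω' : Ω, (Cs x).card * N = ((Cs x).filter fun c => c • ω = ω').card * F0 +
      ((Cs x).filter fun c => ¬ c • ω = ω').card * F1 := by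
    intro ω ω'
    have h3 := sum_Fn hπ h ω ω'
    rw [hN'] at h3
    rw [← h3, ← Finset.sum_filter_add_sum_filter_not (Cs x) (fun c => c • ω = ω')]
    congr 1
    · rw [← smul_eq_mul, ← Finset.sum_const]
      refine Finset.sum_congr rfl fun c hc => ?_
      rw [Finset.mem_filter] at hc
      rw [← hc.2, inv_smul_smul, hF0']
    · rw [← smul_eq_mul, ← Finset.sum_const]
      refine Finset.sum_congr rfl fun c hc => ?_
      rw [Finset.mem_filter] at hc
      refine hF1' _ _ fun he => hc.2 ?_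
      rw [he, smul_inv_smul]
  have hadd : ∀ ω ω' : Ω, ((Cs x).filter fun c => c • ω = ω').card + ((Cs x).filter fun c => ¬ c • ω = ω').card =
      (Cs x).card := fun ω ω' => Finset.card_filter_add_card_filter_not _
  by_cases hF : F0 = F1
  · -- exactly one fixed point
    left
    have e1 : Fintype.card Ω * F0 = Fintype.card K := by
      have h3 : ∑ ω' : Ω, Fn K π ω₀ ω' = Fintype.card K := by
        unfold Fn
        have h4 := Finset.card_eq_sum_card_fiberwise (s := (Finset.univ : Finset K)) (t := (Finset.univ : Finset Ω))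
          (f := fun g => g⁻¹ • π (g • ω₀)) (fun _ _ => Finset.mem_coe.2 (Finset.mem_univ _))
        rw [Finset.card_univ] at h4
        rw [h4]
        refine Finset.sum_congr rfl fun ω' _ => ?_
        congr 1
        ext g
        simp only [Finset.mem_filter, Finset.mem_univ, true_and]
        rw [inv_smul_eq_iff]
      rw [← h3, ← smul_eq_mul, ← Finset.card_univ, ← Finset.sum_const]
      refine Finset.sum_congr rfl fun ω' _ => ?_
      by_cases hw : ω₀ = ω'
      · rw [← hw]
      · rw [hF1' _ _ hw, hF]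
    have e2 : Fintype.card Ω * F0 = Fintype.card K * ((Finset.univ : Finset Ω).filter fun ω => π ω = ω).card := by
      have h3 : ∑ ω : Ω, Fn K π ω ω = ∑ g : K, ((Finset.univ : Finset Ω).filter fun ω => π (g • ω) = g • ω).card := by
        unfold Fn
        simp only [Finset.card_filter]
        exact Finset.sum_comm
      have h4 : ∀ g : K, ((Finset.univ : Finset Ω).filter fun ω => π (g • ω) = g • ω).card =
          ((Finset.univ : Finset Ω).filter fun ω => π ω = ω).card := by
        intro g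
        refine Finset.card_bij' (fun ω _ => g • ω) (fun ω _ => g⁻¹ • ω) ?_ ?_ ?_ ?_
        · intro ω hω
          simp only [Finset.mem_filter, Finset.mem_univ, true_and] at hω ⊢
          exact hω
        · intro ω hω
          simp only [Finset.mem_filter, Finset.mem_univ, true_and] at hω ⊢
          rwa [smul_inv_smul]
        · intro ω _
          exact inv_smul_smul _ _
        · intro ω _
          exact smul_inv_smul _ _
      rw [Finset.sum_congr rfl fun g _ => h4 g, Finset.sum_const, Finset.card_univ, smul_eq_mul] at h3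
      rw [← h3, ← smul_eq_mul, ← Finset.card_univ, ← Finset.sum_const]
      exact Finset.sum_congr rfl fun ω _ => (hF0' ω).symm
    have e3 : ((Finset.univ : Finset Ω).filter fun ω => π ω = ω).card = 1 := by
      have h3 : 0 < Fintype.card K := Fintype.card_pos
      rw [e1] at e2
      have h4 : Fintype.card K * ((Finset.univ : Finset Ω).filter fun ω => π ω = ω).card = Fintype.card K * 1 := by
        rw [← e2, mul_one]
      exact Nat.eq_of_mul_eq_mul_left h3 h4
    obtain ⟨ω, hω⟩ := Finset.card_eq_one.1 e3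
    refine ⟨ω, ?_, fun y hy => ?_⟩
    · have h3 : ω ∈ (Finset.univ : Finset Ω).filter fun ω => π ω = ω := by rw [hω]; exact Finset.mem_singleton_self _
      exact (Finset.mem_filter.1 h3).2
    · have h3 : y ∈ (Finset.univ : Finset Ω).filter fun ω => π ω = ω := Finset.mem_filter.2 ⟨Finset.mem_univ _, hy⟩
      rwa [hω, Finset.mem_singleton] at h3
  · -- `C` is transitive
    right
    intro ω ω'
    have h3 := key ω ω
    have h4 := key ω ω'
    have h5 := hadd ω ω
    have h6 := hadd ω ω'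
    have h7 : 0 < ((Cs x).filter fun c => c • ω = ω).card :=
      Finset.card_pos.2 ⟨1, Finset.mem_filter.2 ⟨one_mem_Cs, one_smul _ _⟩⟩
    have h8 : ((Cs x).filter fun c => c • ω = ω').card = ((Cs x).filter fun c => c • ω = ω).card := by
      have h9 : (F0 : ℤ) - F1 ≠ 0 := by
        intro h10
        apply hF
        omega
      have e1 : (((Cs x).filter fun c => c • ω = ω').card : ℤ) * (F0 - F1) =
          (((Cs x).filter fun c => c • ω = ω).card : ℤ) * (F0 - F1) := by
        have h3' : ((Cs x).card : ℤ) * N = (((Cs x).filter fun c => c • ω = ω).card : ℤ) * F0 +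
            (((Cs x).filter fun c => ¬ c • ω = ω).card : ℤ) * F1 := by exact_mod_cast h3
        have h4' : ((Cs x).card : ℤ) * N = (((Cs x).filter fun c => c • ω = ω').card : ℤ) * F0 +
            (((Cs x).filter fun c => ¬ c • ω = ω').card : ℤ) * F1 := by exact_mod_cast h4
        have h5' : (((Cs x).filter fun c => ¬ c • ω = ω).card : ℤ) = (Cs x).card -
            (((Cs x).filter fun c => c • ω = ω).card : ℤ) := by omega
        have h6' : (((Cs x).filter fun c => ¬ c • ω = ω').card : ℤ) = (Cs x).card -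
            (((Cs x).filter fun c => c • ω = ω').card : ℤ) := by omega
        rw [h5'] at h3'
        rw [h6'] at h4'
        linear_combination h3' - h4'
      exact_mod_cast mul_right_cancel₀ h9 e1
    rw [← h8] at h7
    obtain ⟨c, hc⟩ := Finset.card_pos.1 h7
    rw [Finset.mem_filter] at hc
    exact ⟨c, mem_Cs.1 hc.1, hc.2⟩

end Cfsg.Agent.H269.LQ
end

-- part: H269/LQ/M23
section
/-!
# The row `M23` (S4114, helper269)

`M23` is 2-transitive on 23 points with point stabiliser `M22`.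
-/

set_option autoImplicit false
set_option linter.unusedSectionVars false

namespace Cfsg.Agent.H269.LQ.M23

open Cfsg Subgroup Cfsg.Agent.H459.Rad Cfsg.Agent.H459.Gallery Cfsg.Agent.H544.LQ Cfsg.Agent.H269.LQ
open Cfsg.Agent.Schreier.MTwentyThree
open Cfsg.Agent.SporadicA.MathieuRecog (mem_M22_iff mem_M23_iff card_M22 card_M23 M22_le simple_M22)

universe u

/-- the 23 points -/
abbrev Om : Type := {y : GolayPt // y ≠ none}

/-- the action -/
instance act : MulAction Spor.M23 Om where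
  smul g ω := ⟨(g : Equiv.Perm GolayPt) ω.1, apply_ne g ω.2⟩
  one_smul _ := Subtype.ext rfl
  mul_smul _ _ _ := Subtype.ext rfl

theorem eq_of_smul {g h : Spor.M23} (H : ∀ ω : Om, g • ω = h • ω) : g = h := by
  apply Subtype.ext
  apply Equiv.ext
  intro y
  by_cases hy : y = none
  · rw [hy, apply_none, apply_none]
  · exact congrArg Subtype.val (H ⟨y, hy⟩)

theorem card_Om : Nat.card Om = 23 := by
  rw [Nat.card_eq_fintype_card, Fintype.card_subtype]
  refine (congrArg Finset.card ?_).trans card_pts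
  ext y
  simp

theorem trans_one (a b : Om) : ∃ g : Spor.M23, g • a = b := by
  obtain ⟨g, hg⟩ := exists_one a.2 b.2
  exact ⟨g, Subtype.ext hg⟩

theorem trans_two (a b c d : Om) (hab : a ≠ b) (hcd : c ≠ d) : ∃ g : Spor.M23, g • a = c ∧ g • b = d := by
  obtain ⟨g, h1, h2⟩ := exists_two a.2 b.2 (fun h => hab (Subtype.ext h)) c.2 d.2 (fun h => hcd (Subtype.ext h))
  exact ⟨g, Subtype.ext h1, Subtype.ext h2⟩

/-- elements of order 23 -/
theorem mem_zpowers_of_commute {z : Spor.M23} (hz : orderOf z = 23) {m : Spor.M23} (hm : m * z = z * m) :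
    m ∈ zpowers z := by
  have h23 : Fact (Nat.Prime 23) := ⟨by norm_num⟩
  -- a moved point
  obtain ⟨ω₀, hω₀⟩ : ∃ ω : Om, z • ω ≠ ω := by
    by_contra hcon
    push Not at hcon
    have h1 : z = 1 := eq_of_smul fun ω => by rw [hcon ω, one_smul]
    rw [h1, orderOf_one] at hz
    omega
  have hcardz : Nat.card (zpowers z) = 23 := by rw [Nat.card_zpowers, hz]
  -- the orbit is everything
  have horb : MulAction.orbit (zpowers z) ω₀ = Set.univ := by
    have h1 : (MulAction.stabilizer (zpowers z) ω₀).index = (MulAction.orbit (zpowers z) ω₀).ncard :=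
      MulAction.index_stabilizer _ _
    have h2 : (MulAction.stabilizer (zpowers z) ω₀).index ∣ 23 := by
      rw [← hcardz]
      exact Subgroup.index_dvd_card _
    rcases (Nat.dvd_prime h23.out).1 h2 with h3 | h3
    · exfalso
      apply hω₀
      have h4 : MulAction.stabilizer (zpowers z) ω₀ = ⊤ := Subgroup.index_eq_one.1 h3
      have h5 : (⟨z, Subgroup.mem_zpowers z⟩ : zpowers z) ∈ MulAction.stabilizer (zpowers z) ω₀ := by rw [h4]; trivial
      exact h5
    · exact Set.eq_of_subset_of_ncard_le (Set.subset_univ _) (by rw [Set.ncard_univ, card_Om, ← h1, h3])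
  have hex : ∀ ω : Om, ∃ k : ℤ, z ^ k • ω₀ = ω := by
    intro ω
    have h1 : ω ∈ MulAction.orbit (zpowers z) ω₀ := by rw [horb]; trivial
    obtain ⟨⟨_, k, rfl⟩, hk⟩ := h1
    exact ⟨k, hk⟩
  obtain ⟨k, hk⟩ := hex (m • ω₀)
  refine ⟨k, eq_of_smul fun ω => ?_⟩
  obtain ⟨i, rfl⟩ := hex ω
  have h1 : m * z ^ i = z ^ i * m := (Commute.zpow_right hm i).eq
  rw [← mul_smul, ← mul_smul, h1, mul_smul (z ^ i) m, ← hk, ← mul_smul]
  congr 1
  exact (Commute.refl z).zpow_zpow k i

/-- a 23-element is conjugate to another power of itself -/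
theorem exists_normalizing {z : Spor.M23} (hz : orderOf z = 23) :
    ∃ g : Spor.M23, g * z * g⁻¹ ∈ zpowers z ∧ g ∉ zpowers z := by
  have h23 : Fact (Nat.Prime 23) := ⟨by norm_num⟩
  have hcardz : Nat.card (zpowers z) = 23 := by rw [Nat.card_zpowers, hz]
  have hp : IsPGroup 23 (zpowers z) := IsPGroup.of_card (n := 1) (by rw [hcardz, pow_one])
  obtain ⟨P, hP⟩ := hp.exists_le_sylow
  have hPc : Nat.card P = 23 := by
    rw [P.card_eq_multiplicity, card_M23]
    have : Nat.factorization 10200960 23 = 1 := by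
      rw [Nat.factorization_def _ h23.out]
      have e : 10200960 = 23 ^ 1 * 443520 := by norm_num
      rw [e, padicValNat.mul (by norm_num) (by norm_num), padicValNat.prime_pow,
        padicValNat.eq_zero_of_not_dvd (by norm_num)]
    rw [this, pow_one]
  have hPz : zpowers z = (P : Subgroup Spor.M23) := Subgroup.eq_of_le_of_card_ge hP (by rw [hPc, hcardz])
  by_contra hcon
  push Not at hcon
  have hN : normalizer (P : Set Spor.M23) = (P : Subgroup Spor.M23) := by
    apply le_antisymm _ le_normalizer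
    intro g hg
    have hg' : g ∈ normalizer ((P : Subgroup Spor.M23) : Set Spor.M23) := hg
    rw [← hPz] at hg' ⊢
    exact hcon g ((Subgroup.mem_normalizer_iff.1 hg' z).1 (Subgroup.mem_zpowers z))
  have h1 := card_sylow_modEq_one 23 Spor.M23
  rw [P.card_eq_index_normalizer, hN] at h1
  have h2 := Subgroup.card_mul_index (P : Subgroup Spor.M23)
  rw [hPc, card_M23] at h2
  have h3 : (P : Subgroup Spor.M23).index = 443520 := by omega
  rw [h3] at h1
  exact absurd h1 (by decide)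

theorem St_ne_top : St (some 0) ≠ ⊤ := by
  intro h
  have h1 := card_St (x := some 0) (by simp)
  rw [h, Subgroup.card_top, card_M23] at h1
  omega

theorem rad_St : solvableRadical (St (some 0)) = ⊥ := by
  have e : Spor.M22 ≃* St (some 0) := (Subgroup.subgroupOfEquivOfLe M22_le).symm.trans (MulEquiv.subgroupCongr St_zero)
  have h1 : IsSimpleGroup Spor.M22 := simple_M22
  have h2 : IsSimpleGroup (St (some 0)) := e.symm.isSimpleGroup
  refine rad_eq_bot_of_simple fun hs => ?_
  have h3 := card_St (x := some 0) (by simp)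
  have h4 := (IsSimpleGroup.comm_iff_isSolvable (G := St (some 0))).2 hs
  let _ : CommGroup (St (some 0)) := { (inferInstance : Group (St (some 0))) with mul_comm := h4 }
  have h5 := IsSimpleGroup.prime_card (α := St (some 0))
  rw [h3] at h5
  exact absurd h5 (by norm_num)

/-- **the row `M23`** -/
theorem row_M23 : Row Spor.M23 := by
  intro x hx
  obtain ⟨m, rfl⟩ := KFacts.M23.OutOne.exists_conj x
  have h23 : Fact (Nat.Prime 23) := ⟨by norm_num⟩
  have hm1 : m ≠ 1 := by
    rintro rfl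
    exact hx.ne (map_one _)
  rcases lat_tt hx.lat (Ω := Om) trans_two trans_one (MulAction.toPerm m) (fun g ω => by
    rw [MulAction.toPerm_apply, MulAction.toPerm_apply, MulAut.conj_apply, ← mul_smul, ← mul_smul]
    congr 1
    group) with ⟨ω, hω, -⟩ | hC
  · -- a fixed point
    obtain ⟨g, hg⟩ := trans_one ⟨some 0, by simp⟩ ω
    have hω' : m • ω = ω := hω
    have h1 : cx (MulAut.conj m) g = MulAut.conj (g⁻¹ * m * g) := by
      refine MulEquiv.ext fun k => ?_
      rw [cx_apply, MulAut.conj_apply, MulAut.conj_apply]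
      group
    have h2 : g⁻¹ * m * g ∈ St (some 0) := by
      have h3 : (g⁻¹ * m * g) • (⟨some 0, by simp⟩ : Om) = ⟨some 0, by simp⟩ := by
        rw [mul_smul, mul_smul, hg, hω', ← hg, inv_smul_smul]
      exact congrArg Subtype.val h3
    have h4 : cx (MulAut.conj m) g = 1 := by
      refine eq_one_of_fix _ fun s hs => (hx.rc.cx g).eq_of_rad_eq_bot St_ne_top ?_ rad_St hs
      intro s hs
      rw [h1, MulAut.conj_apply]
      exact mul_mem (mul_mem h2 hs) (inv_mem h2)
    have h5 : MulAut.conj m = 1 := by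
      have h6 : cx (MulAut.conj m) g = (MulAut.conj g)⁻¹ * MulAut.conj m * MulAut.conj g := rfl
      rw [h6] at h4
      have h7 : MulAut.conj m = MulAut.conj g * ((MulAut.conj g)⁻¹ * MulAut.conj m * MulAut.conj g) * (MulAut.conj g)⁻¹ := by
        group
      rw [h7, h4]
      group
    exact hx.ne h5
  · -- the centraliser is transitive
    set C : Subgroup Spor.M23 := centralizer {m} with hCdef
    have hCm : ∀ c : Spor.M23, c ∈ C ↔ MulAut.conj m c = c := by
      intro c
      rw [hCdef, mem_centralizer_singleton_iff, MulAut.conj_apply, mul_inv_eq_iff_eq_mul]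
      exact eq_comm
    have h1 : 23 ∣ Nat.card C := by
      have h2 : (MulAction.stabilizer C (⟨some 0, by simp⟩ : Om)).index =
          (MulAction.orbit C (⟨some 0, by simp⟩ : Om)).ncard := MulAction.index_stabilizer _ _
      have h3 : MulAction.orbit C (⟨some 0, by simp⟩ : Om) = Set.univ := by
        apply Set.eq_univ_of_forall
        intro ω
        obtain ⟨c, hc, hc'⟩ := hC ⟨some 0, by simp⟩ ω
        exact ⟨⟨c, (hCm c).2 hc⟩, hc'⟩
      rw [h3, Set.ncard_univ, card_Om] at h2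
      rw [← h2]
      exact Subgroup.index_dvd_card _
    obtain ⟨⟨z, hzC⟩, hz⟩ := exists_prime_orderOf_dvd_card' 23 h1
    rw [Subgroup.orderOf_mk] at hz
    rw [hCdef, mem_centralizer_singleton_iff] at hzC
    obtain ⟨k, hk⟩ := mem_zpowers_of_commute hz hzC.symm
    have hzm : z ∈ zpowers m := by
      have h2 : zpowers m ≤ zpowers z := by
        rw [zpowers_le]
        exact ⟨k, hk⟩
      have h3 : Nat.card (zpowers m) = 23 := by
        have h4 := Subgroup.card_dvd_of_le h2
        rw [Nat.card_zpowers z, hz] at h4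
        rcases (Nat.dvd_prime h23.out).1 h4 with h5 | h5
        · rw [Nat.card_zpowers, orderOf_eq_one_iff] at h5
          exact absurd h5 hm1
        · exact h5
      rw [Subgroup.eq_of_le_of_card_ge h2 (by rw [h3, Nat.card_zpowers, hz])]
      exact Subgroup.mem_zpowers z
    obtain ⟨g, hg, hgz⟩ := exists_normalizing hz
    have hk' : z ^ k = m := hk
    have hg' : g * m * g⁻¹ * m⁻¹ ∈ zpowers z := by
      refine mul_mem ?_ (inv_mem ⟨k, hk⟩)
      obtain ⟨i, hi⟩ := hg
      have hi' : z ^ i = g * z * g⁻¹ := hi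
      refine ⟨i * k, ?_⟩
      show z ^ (i * k) = _
      rw [zpow_mul, hi', conj_zpow, hk']
    have h2 := comm_eq hx.lat (g := g⁻¹) (by
      have h3 : (g⁻¹)⁻¹ * MulAut.conj m g⁻¹ = g * m * g⁻¹ * m⁻¹ := by
        rw [MulAut.conj_apply]; group
      rw [h3, MulAut.conj_apply, mul_inv_eq_iff_eq_mul]
      obtain ⟨j, hj⟩ := hg'
      have hj' : z ^ j = g * m * g⁻¹ * m⁻¹ := hj
      rw [← hj', ← hk', ← zpow_add, ← zpow_add, add_comm])
    have h3 : g * m = m * g := by
      rw [MulAut.conj_apply, inv_inv] at h2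
      have h4 : g * m * g⁻¹ = m := by
        rw [← mul_inv_eq_one]
        rw [← h2]; group
      rw [← h4]
      nth_rewrite 2 [← h4]
      group
    apply hgz
    apply mem_zpowers_of_commute hz
    obtain ⟨j, hj⟩ := hzm
    have hj' : m ^ j = z := hj
    rw [← hj']
    exact (Commute.zpow_right (show Commute g m from h3) j).eq

theorem row {K : Type u} [Group K] [Finite K] (h : Spor.IsoM23 K) : Row K := by
  obtain ⟨e⟩ := h
  exact row_congr e row_M23

end Cfsg.Agent.H269.LQ.M23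
end

-- part: H583/OdmM23Orb
section
/-!
# TEAM ODDM (S4785): orbits of a subgroup `R` of `M23` with `RO` on the 23 points (helper583)

* `odd_orbits` : the number of orbits of `R` on the 23 points is odd;
* `odd_unique` : at most one orbit has odd length (a Sylow 2-subgroup of `M23` fixes only one point);
* `exists_even_sets` : if `23 ∤ |R|` there are two disjoint nonempty invariant sets of even cardinality;
* `not_five_seven` : if `23 ∤ |R|`, then `35 ∤ |R|`;
* `not_fifteen` : if `23 ∤ |R|`, then `R` has no element of order 15.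
-/

set_option autoImplicit false

namespace Cfsg.Agent.H583.OdmM23

open Subgroup Cfsg MulAction
open Cfsg.Agent.H453.OddM Cfsg.Agent.H269.LQ.M23

theorem card_M23 : Nat.card Spor.M23 = 10200960 := Cfsg.Agent.SporadicA.MathieuRecog.card_M23

instance finite_M23 : Finite Spor.M23 := Nat.finite_of_card_ne_zero (by rw [card_M23]; norm_num)

/-! ### the number of orbits -/

theorem odd_orbits {R : Subgroup Spor.M23} (hR : RO Spor.M23 R) :
    Odd (Nat.card (orbitRel.Quotient R Om)) := by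
  obtain ⟨ω⟩ : Nonempty Om := (Nat.card_pos_iff.1 (by rw [card_Om]; norm_num)).1
  have h1 := hR.orb (stabilizer Spor.M23 ω)
  let e : (Spor.M23 ⧸ stabilizer Spor.M23 ω) ≃ Om := Equiv.ofBijective (ofQuotientStabilizer Spor.M23 ω)
    ⟨injective_ofQuotientStabilizer Spor.M23 ω, fun a => by
      obtain ⟨g, hg⟩ := trans_one ω a
      exact ⟨QuotientGroup.mk g, by rw [ofQuotientStabilizer_mk, hg]⟩⟩
  have he : ∀ (g : Spor.M23) (a : Spor.M23 ⧸ stabilizer Spor.M23 ω), e (g • a) = g • e a :=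
    fun g a => ofQuotientStabilizer_smul Spor.M23 ω g a
  have h2 : Nat.card (orbitRel.Quotient R (Spor.M23 ⧸ stabilizer Spor.M23 ω)) =
      Nat.card (orbitRel.Quotient R Om) := by
    refine Nat.card_congr (Quotient.congr e fun a b => ?_)
    rw [orbitRel_apply, orbitRel_apply]
    constructor
    · rintro ⟨r, rfl⟩
      exact ⟨r, (he r b).symm⟩
    · rintro ⟨r, hr⟩
      refine ⟨r, e.injective ?_⟩
      exact (he r b).trans hr
  rw [← h2]
  exact h1

/-! ### two-point stabilizers -/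

theorem card_fix_tri {s : Finset GolayPt} (hs : s.card = 3) :
    Nat.card (fixingSubgroup M24 (s : Set GolayPt)) = 20160 := by
  have hs' : (s : Set GolayPt).ncard = 3 := by rw [Set.ncard_coe_finset, hs]
  have h5 := S0366.result
  have h3 : IsMultiplyPretransitive M24 GolayPt 3 :=
    isMultiplyPretransitive_of_le (m := 3) (n := 5) (by norm_num) (by rw [H447.KRowM23.card_pt]; norm_num)
  have h1 := h3.index_of_fixingSubgroup_mul hs'
  rw [H447.KRowM23.card_pt] at h1
  have h2 : (fixingSubgroup M24 (s : Set GolayPt)).index = 24 * 23 * 22 := by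
    apply Nat.eq_of_mul_eq_mul_right (Nat.factorial_pos (24 - 3))
    rw [h1]
    decide +kernel
  have h4 := (fixingSubgroup M24 (s : Set GolayPt)).card_mul_index
  rw [h2, S0364.result] at h4
  omega

theorem card_two {x y : GolayPt} (hx : x ≠ none) (hy : y ≠ none) (hxy : x ≠ y) {Q : Subgroup Spor.M23}
    (hQ : ∀ q ∈ Q, (q : Equiv.Perm GolayPt) x = x ∧ (q : Equiv.Perm GolayPt) y = y) : Nat.card Q ∣ 20160 := by
  classical
  have hs : ({none, x, y} : Finset GolayPt).card = 3 := by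
    rw [Finset.card_insert_of_notMem, Finset.card_pair hxy]
    rw [Finset.mem_insert, Finset.mem_singleton, not_or]
    exact ⟨hx.symm, hy.symm⟩
  rw [← card_fix_tri hs]
  let f : Q →* fixingSubgroup M24 ((({none, x, y} : Finset GolayPt)) : Set GolayPt) :=
    (H729.PairMathieu.inc23.comp Q.subtype).codRestrict _ (fun q => by
      rw [mem_fixingSubgroup_iff]
      intro z hz
      rw [Finset.mem_coe, Finset.mem_insert, Finset.mem_insert, Finset.mem_singleton] at hz
      rcases hz with rfl | rfl | rfl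
      · exact (q : Spor.M23).2.2
      · exact (hQ q q.2).1
      · exact (hQ q q.2).2)
  refine Subgroup.card_dvd_of_injective f fun a b hab => ?_
  have h1 : H729.PairMathieu.inc23 (a : Spor.M23) = H729.PairMathieu.inc23 (b : Spor.M23) := congrArg Subtype.val hab
  exact Subtype.ext (H729.PairMathieu.inc23_injective h1)

/-! ### orbits of odd length -/

theorem odd_unique {R : Subgroup Spor.M23} (hR : RO Spor.M23 R) {x y : Om} (hx : Odd (Nat.card (orbit R x)))
    (hy : Odd (Nat.card (orbit R y))) : orbit R x = orbit R y := by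
  classical
  have h2 : Fact (Nat.Prime 2) := ⟨Nat.prime_two⟩
  have h7 : 2 ^ 7 ∣ Nat.card R := (hR.cov.two_part (k := 7)).1 (by rw [card_M23]; norm_num)
  obtain ⟨S⟩ : Nonempty (Sylow 2 R) := inferInstance
  have hS : 2 ^ 7 ∣ Nat.card S := by
    rw [S.card_eq_multiplicity]
    exact pow_dvd_pow 2 ((Nat.prime_two.pow_dvd_iff_le_factorization Nat.card_pos.ne').1 h7)
  have key : ∀ z : Om, Odd (Nat.card (orbit R z)) → ∃ w : Om, w ∈ orbit R z ∧ ∀ s ∈ S, s • w = w := by
    intro z hz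
    have h1 := S.isPGroup'.card_modEq_card_fixedPoints (orbit R z)
    have h3 : Nat.card (fixedPoints S (orbit R z)) ≠ 0 := by
      intro h0
      rw [h0] at h1
      exact (Nat.not_even_iff_odd.2 hz) (even_iff_two_dvd.2 (Nat.modEq_zero_iff_dvd.1 h1))
    obtain ⟨⟨w, hw⟩⟩ := (Nat.card_ne_zero.1 h3).1
    refine ⟨w.1, w.2, fun s hs => ?_⟩
    exact congrArg Subtype.val (hw ⟨s, hs⟩)
  obtain ⟨a, ha, hSa⟩ := key x hx
  obtain ⟨b, hb, hSb⟩ := key y hy
  have hab : a = b := by
    by_contra hne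
    have h1 : Nat.card (((S : Subgroup R).map R.subtype :)) ∣ 20160 := by
      refine card_two (x := a.1) (y := b.1) a.2 b.2 (fun h => hne (Subtype.ext h)) ?_
      rintro _ ⟨s, hs, rfl⟩
      exact ⟨congrArg Subtype.val (hSa s hs), congrArg Subtype.val (hSb s hs)⟩
    rw [Subgroup.card_map_of_injective R.subtype_injective] at h1
    have h3 := hS.trans h1
    norm_num at h3
  rw [← orbit_eq_iff.2 ha, ← orbit_eq_iff.2 hb, hab]

theorem exists_two_even {R : Subgroup Spor.M23} (hR : RO Spor.M23 R) (h23 : ¬ 23 ∣ Nat.card R) :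
    ∃ x y : Om, orbit R x ≠ orbit R y ∧ Even (Nat.card (orbit R x)) ∧ Even (Nat.card (orbit R y)) := by
  classical
  have hodd := odd_orbits hR
  have hfin : Fintype (orbitRel.Quotient R Om) := Fintype.ofFinite _
  rw [Nat.card_eq_fintype_card] at hodd
  have hne : ∀ a b : Om, (Quotient.mk'' a : orbitRel.Quotient R Om) ≠ Quotient.mk'' b → orbit R a ≠ orbit R b := by
    intro a b h1 h2
    apply h1
    rw [Quotient.eq'', orbitRel_apply]
    exact orbit_eq_iff.1 h2
  have h1 : Fintype.card (orbitRel.Quotient R Om) ≠ 1 := by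
    intro h1
    apply h23
    obtain ⟨ω⟩ : Nonempty Om := (Nat.card_pos_iff.1 (by rw [card_Om]; norm_num)).1
    have h2 : orbit R ω = Set.univ := by
      rw [Set.eq_univ_iff_forall]
      intro a
      have h3 := Fintype.card_le_one_iff.1 h1.le (Quotient.mk'' a) (Quotient.mk'' ω)
      rw [Quotient.eq'', orbitRel_apply] at h3
      exact h3
    have h3 : (stabilizer R ω).index = 23 := by
      rw [index_stabilizer, h2, Set.ncard_univ, card_Om]
    rw [← h3]
    exact Subgroup.index_dvd_card _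
  have h3 : 2 < Fintype.card (orbitRel.Quotient R Om) := by
    obtain ⟨k, hk⟩ := hodd
    omega
  obtain ⟨a, b, c, hab, hac, hbc⟩ := Fintype.two_lt_card_iff.1 h3
  induction a using Quotient.inductionOn' with | _ a =>
  induction b using Quotient.inductionOn' with | _ b =>
  induction c using Quotient.inductionOn' with | _ c =>
  have kab := hne a b hab
  have kac := hne a c hac
  have kbc := hne b c hbc
  by_cases ha : Odd (Nat.card (orbit R a))
  · refine ⟨b, c, kbc, ?_, ?_⟩
    · rw [← Nat.not_odd_iff_even]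
      exact fun h => kab (odd_unique hR ha h)
    · rw [← Nat.not_odd_iff_even]
      exact fun h => kac (odd_unique hR ha h)
  · rw [Nat.not_odd_iff_even] at ha
    by_cases hb : Odd (Nat.card (orbit R b))
    · refine ⟨a, c, kac, ha, ?_⟩
      rw [← Nat.not_odd_iff_even]
      exact fun h => kbc (odd_unique hR hb h)
    · exact ⟨a, b, kab, ha, Nat.not_odd_iff_even.1 hb⟩

/-- two disjoint nonempty invariant sets of even cardinality -/
structure Two (R : Subgroup Spor.M23) (A B : Finset GolayPt) : Prop where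
  disj : Disjoint A B
  noneA : none ∉ A
  noneB : none ∉ B
  neA : A.card ≠ 0
  neB : B.card ≠ 0
  evA : A.card % 2 = 0
  evB : B.card % 2 = 0
  invA : ∀ r ∈ R, ∀ a ∈ A, (r : Equiv.Perm GolayPt) a ∈ A
  invB : ∀ r ∈ R, ∀ b ∈ B, (r : Equiv.Perm GolayPt) b ∈ B

theorem exists_even_sets {R : Subgroup Spor.M23} (hR : RO Spor.M23 R) (h23 : ¬ 23 ∣ Nat.card R) :
    ∃ A B : Finset GolayPt, Two R A B := by
  classical
  obtain ⟨x, y, hxy, hx, hy⟩ := exists_two_even hR h23
  have hfinO : ∀ z : Om, (Subtype.val '' (orbit R z) : Set GolayPt).Finite := fun z => Set.toFinite _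
  let ob : Om → Finset GolayPt := fun z => (hfinO z).toFinset
  have hmem : ∀ (z : Om) (p : GolayPt), p ∈ ob z ↔ ∃ w ∈ orbit R z, w.1 = p := by
    intro z p
    rw [Set.Finite.mem_toFinset]
    rfl
  have hcard : ∀ z : Om, (ob z).card = Nat.card (orbit R z) := by
    intro z
    rw [← Set.ncard_eq_toFinset_card, Set.ncard_image_of_injective _ Subtype.val_injective, Nat.card_coe_set_eq]
  have hnone : ∀ z : Om, none ∉ ob z := by
    intro z h
    obtain ⟨w, -, hw⟩ := (hmem z none).1 h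
    exact w.2 hw
  have hne : ∀ z : Om, (ob z).card ≠ 0 := by
    intro z h
    rw [Finset.card_eq_zero] at h
    have h1 : z.1 ∈ ob z := (hmem z z.1).2 ⟨z, mem_orbit_self z, rfl⟩
    rw [h] at h1
    exact absurd h1 (Finset.notMem_empty _)
  have hinv : ∀ z : Om, ∀ r ∈ R, ∀ a ∈ ob z, (r : Equiv.Perm GolayPt) a ∈ ob z := by
    intro z r hr a ha
    obtain ⟨w, hw, rfl⟩ := (hmem z a).1 ha
    exact (hmem z _).2 ⟨r • w, mem_orbit_of_mem_orbit (⟨r, hr⟩ : R) hw, rfl⟩
  refine ⟨ob x, ob y, ⟨?_, hnone x, hnone y, hne x, hne y, ?_, ?_, hinv x, hinv y⟩⟩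
  · rw [Finset.disjoint_left]
    intro p hp hq
    obtain ⟨w, hw, rfl⟩ := (hmem x p).1 hp
    obtain ⟨w', hw', h⟩ := (hmem y _).1 hq
    have h1 : w' = w := Subtype.ext h
    rw [h1] at hw'
    exact hxy ((orbit_eq_iff.2 hw).symm.trans (orbit_eq_iff.2 hw'))
  · rw [hcard]; exact Nat.even_iff.1 hx
  · rw [hcard]; exact Nat.even_iff.1 hy

/-! ### counting fixed points -/

/-- the fixed points in a set -/
def fx (g : Equiv.Perm GolayPt) (A : Finset GolayPt) : Finset GolayPt := A.filter fun x => g x = x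

theorem mem_fx {g : Equiv.Perm GolayPt} {A : Finset GolayPt} {x : GolayPt} : x ∈ fx g A ↔ x ∈ A ∧ g x = x :=
  Finset.mem_filter

theorem Two.fx_le {R : Subgroup Spor.M23} {A B : Finset GolayPt} (h : Two R A B) {g : Equiv.Perm GolayPt}
    (hg : g none = none) : (fx g A).card + (fx g B).card + 1 ≤ (fx g Finset.univ).card := by
  have h1 : Disjoint (fx g A) (fx g B) :=
    Finset.disjoint_of_subset_left (Finset.filter_subset _ _)
      (Finset.disjoint_of_subset_right (Finset.filter_subset _ _) h.disj)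
  have h2 : none ∉ fx g A ∪ fx g B := by
    rw [Finset.mem_union, not_or]
    exact ⟨fun k => h.noneA (mem_fx.1 k).1, fun k => h.noneB (mem_fx.1 k).1⟩
  have h3 : insert none (fx g A ∪ fx g B) ⊆ fx g Finset.univ := by
    intro x hx
    rw [Finset.mem_insert, Finset.mem_union] at hx
    rw [mem_fx]
    rcases hx with rfl | hx | hx
    · exact ⟨Finset.mem_univ _, hg⟩
    · exact ⟨Finset.mem_univ _, (mem_fx.1 hx).2⟩
    · exact ⟨Finset.mem_univ _, (mem_fx.1 hx).2⟩
  have h4 := Finset.card_le_card h3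
  rwa [Finset.card_insert_of_notMem h2, Finset.card_union_of_disjoint h1] at h4

theorem Two.card_le {R : Subgroup Spor.M23} {A B : Finset GolayPt} (h : Two R A B) : A.card + B.card ≤ 23 := by
  have h1 := h.fx_le (g := 1) rfl
  have h2 : ∀ A : Finset GolayPt, fx 1 A = A := fun A => Finset.filter_true_of_mem fun _ _ => rfl
  rw [h2, h2, h2, Finset.card_univ] at h1
  have h3 : Fintype.card GolayPt = 24 := by rw [← Nat.card_eq_fintype_card, H447.KRowM23.card_pt]
  omega

theorem modEq_fx {g : Equiv.Perm GolayPt} {p : ℕ} (hp : p.Prime) (hg : orderOf g = p) {S : Finset GolayPt}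
    (hS : ∀ x ∈ S, g x ∈ S) : S.card % p = (fx g S).card % p := H447.KRowM23.card_modEq hp hg S hS

theorem fx_five {f : Spor.M23} (hf : orderOf f = 5) : (fx (f : Equiv.Perm GolayPt) Finset.univ).card = 4 := by
  have h1 : orderOf (f : Equiv.Perm GolayPt) = 5 := by rw [Subgroup.orderOf_coe, hf]
  have h2 := modEq_fx (p := 5) (by norm_num) h1 (S := Finset.univ) (fun _ _ => Finset.mem_univ _)
  have h3 := H447.KRowM23.fix_lt_five (g := (f : Equiv.Perm GolayPt)) f.2.1 (p := 5) (by norm_num) h1 (by norm_num)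
  have h4 : Fintype.card GolayPt = 24 := by rw [← Nat.card_eq_fintype_card, H447.KRowM23.card_pt]
  rw [Finset.card_univ, h4] at h2
  change (fx (f : Equiv.Perm GolayPt) Finset.univ).card < 5 at h3
  omega

theorem fx_seven {f : Spor.M23} (hf : orderOf f = 7) : (fx (f : Equiv.Perm GolayPt) Finset.univ).card = 3 := by
  have h1 : orderOf (f : Equiv.Perm GolayPt) = 7 := by rw [Subgroup.orderOf_coe, hf]
  have h2 := modEq_fx (p := 7) (by norm_num) h1 (S := Finset.univ) (fun _ _ => Finset.mem_univ _)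
  have h3 := H447.KRowM23.fix_lt_five (g := (f : Equiv.Perm GolayPt)) f.2.1 (p := 7) (by norm_num) h1 (by norm_num)
  have h4 : Fintype.card GolayPt = 24 := by rw [← Nat.card_eq_fintype_card, H447.KRowM23.card_pt]
  rw [Finset.card_univ, h4] at h2
  change (fx (f : Equiv.Perm GolayPt) Finset.univ).card < 5 at h3
  omega

/-- the combined lengths -/
theorem arith57 {s a b : ℕ} (h0 : s ≠ 0) (h2 : s % 2 = 0) (hs : s ≤ 23) (h5 : s % 5 = a % 5) (h7 : s % 7 = b % 7) :
    3 ≤ a + b := by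
  by_contra hlt
  have h1 : a = 0 ∧ b = 0 ∨ a = 0 ∧ b = 1 ∨ a = 0 ∧ b = 2 ∨ a = 1 ∧ b = 0 ∨ a = 1 ∧ b = 1 ∨ a = 2 ∧ b = 0 := by (clear * - hlt; omega)
  rcases h1 with ⟨rfl, rfl⟩ | ⟨rfl, rfl⟩ | ⟨rfl, rfl⟩ | ⟨rfl, rfl⟩ | ⟨rfl, rfl⟩ | ⟨rfl, rfl⟩ <;> (clear * - h0 hs h5 h7 h2; omega)

theorem not_five_seven {R : Subgroup Spor.M23} (hR : RO Spor.M23 R) (h23 : ¬ 23 ∣ Nat.card R)
    (h5 : 5 ∣ Nat.card R) (h7 : 7 ∣ Nat.card R) : False := by
  have h5' : Fact (Nat.Prime 5) := ⟨by norm_num⟩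
  have h7' : Fact (Nat.Prime 7) := ⟨by norm_num⟩
  obtain ⟨A, B, h⟩ := exists_even_sets hR h23
  obtain ⟨f, hf⟩ := exists_prime_orderOf_dvd_card' (G := R) 5 h5
  obtain ⟨s, hs⟩ := exists_prime_orderOf_dvd_card' (G := R) 7 h7
  rw [← Subgroup.orderOf_coe] at hf hs
  have hfp : orderOf ((f : Spor.M23) : Equiv.Perm GolayPt) = 5 := by rw [Subgroup.orderOf_coe, hf]
  have hsp : orderOf ((s : Spor.M23) : Equiv.Perm GolayPt) = 7 := by rw [Subgroup.orderOf_coe, hs]
  have e1 := h.fx_le (g := ((f : Spor.M23) : Equiv.Perm GolayPt)) (f : Spor.M23).2.2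
  have e2 := h.fx_le (g := ((s : Spor.M23) : Equiv.Perm GolayPt)) (s : Spor.M23).2.2
  rw [fx_five hf] at e1
  rw [fx_seven hs] at e2
  have hle := h.card_le
  have a1 := arith57 h.neA h.evA (by omega) (modEq_fx (by norm_num) hfp (h.invA f f.2))
    (modEq_fx (by norm_num) hsp (h.invA s s.2))
  have a2 := arith57 h.neB h.evB (by omega) (modEq_fx (by norm_num) hfp (h.invB f f.2))
    (modEq_fx (by norm_num) hsp (h.invB s s.2))
  omega

/-! ### elements of order 15 -/

theorem fx_comm {g h : Equiv.Perm GolayPt} (hgh : g * h = h * g) {S : Finset GolayPt} (hS : ∀ x ∈ S, g x ∈ S) :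
    ∀ x ∈ fx h S, g x ∈ fx h S := by
  intro x hx
  obtain ⟨h1, h2⟩ := mem_fx.1 hx
  refine mem_fx.2 ⟨hS x h1, ?_⟩
  have h3 := congrArg (fun k : Equiv.Perm GolayPt => k x) hgh
  change g (h x) = h (g x) at h3
  rw [← h3, h2]

/-- no common fixed points except `none` -/
theorem fx_common {f z : Spor.M23} (hf : orderOf f = 5) (hz : orderOf z = 3) (hfz : f * z = z * f) {x : GolayPt}
    (h1 : (f : Equiv.Perm GolayPt) x = x) (h2 : (z : Equiv.Perm GolayPt) x = x) : x = none := by
  have hfp : orderOf (f : Equiv.Perm GolayPt) = 5 := by rw [Subgroup.orderOf_coe, hf]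
  have hzp : orderOf (z : Equiv.Perm GolayPt) = 3 := by rw [Subgroup.orderOf_coe, hz]
  have hc : (f : Equiv.Perm GolayPt) * (z : Equiv.Perm GolayPt) = (z : Equiv.Perm GolayPt) * (f : Equiv.Perm GolayPt) :=
    congrArg Subtype.val hfz
  have e1 := modEq_fx (by norm_num) hzp (fx_comm (h := (f : Equiv.Perm GolayPt)) hc.symm (S := Finset.univ)
    (fun _ _ => Finset.mem_univ _))
  have e2 := modEq_fx (by norm_num) hfp (fx_comm (h := (z : Equiv.Perm GolayPt)) hc (S := Finset.univ)
    (fun _ _ => Finset.mem_univ _))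
  have e3 : fx (z : Equiv.Perm GolayPt) (fx (f : Equiv.Perm GolayPt) Finset.univ) =
      fx (f : Equiv.Perm GolayPt) (fx (z : Equiv.Perm GolayPt) Finset.univ) := by
    ext p
    rw [mem_fx, mem_fx, mem_fx, mem_fx]
    (clear * - f z p; itauto)
  have e4 : (fx (z : Equiv.Perm GolayPt) Finset.univ).card = 6 := card_fix_three hz
  have e5 := Finset.card_filter_le (fx (f : Equiv.Perm GolayPt) Finset.univ) (fun x => (z : Equiv.Perm GolayPt) x = x)
  change (fx (z : Equiv.Perm GolayPt) (fx (f : Equiv.Perm GolayPt) Finset.univ)).card ≤ _ at e5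
  rw [fx_five hf] at e1 e5
  rw [← e3, e4] at e2
  have e6 : (fx (z : Equiv.Perm GolayPt) (fx (f : Equiv.Perm GolayPt) Finset.univ)).card = 1 := by (clear * - e2 e5; omega)
  obtain ⟨w, hw⟩ := Finset.card_eq_one.1 e6
  have k1 : x ∈ fx (z : Equiv.Perm GolayPt) (fx (f : Equiv.Perm GolayPt) Finset.univ) :=
    mem_fx.2 ⟨mem_fx.2 ⟨Finset.mem_univ _, h1⟩, h2⟩
  have k2 : none ∈ fx (z : Equiv.Perm GolayPt) (fx (f : Equiv.Perm GolayPt) Finset.univ) :=
    mem_fx.2 ⟨mem_fx.2 ⟨Finset.mem_univ _, f.2.2⟩, z.2.2⟩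
  rw [hw, Finset.mem_singleton] at k1 k2
  rw [k1, k2]

/-- the lengths for an element of order 15 -/
theorem arith15 {s a b : ℕ} (h0 : s ≠ 0) (h2 : s % 2 = 0) (hs : s ≤ 23) (h5 : s % 5 = a % 5) (h3 : s % 3 = b % 3)
    (ha : a % 3 = 0) (hb : b % 5 = 0) (ha' : a ≤ 3) (hb' : b ≤ 5) : 20 ≤ s + 5 * a := by
  have h1 : (a = 0 ∨ a = 3) ∧ (b = 0 ∨ b = 5) := by (clear * - ha hb ha' hb'; omega)
  obtain ⟨rfl | rfl, rfl | rfl⟩ := h1 <;> omega

theorem not_fifteen {R : Subgroup Spor.M23} (hR : RO Spor.M23 R) (h23 : ¬ 23 ∣ Nat.card R) {f z : Spor.M23}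
    (hfR : f ∈ R) (hzR : z ∈ R) (hf : orderOf f = 5) (hz : orderOf z = 3) (hfz : f * z = z * f) : False := by
  obtain ⟨A, B, h⟩ := exists_even_sets hR h23
  have hfp : orderOf (f : Equiv.Perm GolayPt) = 5 := by rw [Subgroup.orderOf_coe, hf]
  have hzp : orderOf (z : Equiv.Perm GolayPt) = 3 := by rw [Subgroup.orderOf_coe, hz]
  have hc : (f : Equiv.Perm GolayPt) * (z : Equiv.Perm GolayPt) = (z : Equiv.Perm GolayPt) * (f : Equiv.Perm GolayPt) :=
    congrArg Subtype.val hfz
  have e1 := h.fx_le (g := (f : Equiv.Perm GolayPt)) f.2.2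
  have e2 := h.fx_le (g := (z : Equiv.Perm GolayPt)) z.2.2
  have e4 : (fx (z : Equiv.Perm GolayPt) Finset.univ).card = 6 := card_fix_three hz
  rw [fx_five hf] at e1
  rw [e4] at e2
  have hle := h.card_le
  have key : ∀ S : Finset GolayPt, none ∉ S → (∀ r ∈ R, ∀ a ∈ S, (r : Equiv.Perm GolayPt) a ∈ S) →
      S.card % 5 = (fx (f : Equiv.Perm GolayPt) S).card % 5 ∧ S.card % 3 = (fx (z : Equiv.Perm GolayPt) S).card % 3 ∧
      (fx (f : Equiv.Perm GolayPt) S).card % 3 = 0 ∧ (fx (z : Equiv.Perm GolayPt) S).card % 5 = 0 := by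
    intro S hn hS
    refine ⟨modEq_fx (by norm_num) hfp (hS f hfR), modEq_fx (by norm_num) hzp (hS z hzR), ?_, ?_⟩
    · rw [modEq_fx (by norm_num) hzp (fx_comm (h := (f : Equiv.Perm GolayPt)) hc.symm (hS z hzR))]
      have h1 : fx (z : Equiv.Perm GolayPt) (fx (f : Equiv.Perm GolayPt) S) = ∅ := by
        rw [Finset.eq_empty_iff_forall_notMem]
        intro x hx
        obtain ⟨k1, k2⟩ := mem_fx.1 hx
        obtain ⟨k3, k4⟩ := mem_fx.1 k1
        exact hn (fx_common hf hz hfz k4 k2 ▸ k3)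
      rw [h1, Finset.card_empty]
    · rw [modEq_fx (by norm_num) hfp (fx_comm (h := (z : Equiv.Perm GolayPt)) hc (hS f hfR))]
      have h1 : fx (f : Equiv.Perm GolayPt) (fx (z : Equiv.Perm GolayPt) S) = ∅ := by
        rw [Finset.eq_empty_iff_forall_notMem]
        intro x hx
        obtain ⟨k1, k2⟩ := mem_fx.1 hx
        obtain ⟨k3, k4⟩ := mem_fx.1 k1
        exact hn (fx_common hf hz hfz k2 k4 ▸ k3)
      rw [h1, Finset.card_empty]
  obtain ⟨a1, a2, a3, a4⟩ := key A h.noneA h.invA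
  obtain ⟨b1, b2, b3, b4⟩ := key B h.noneB h.invB
  have c1 := arith15 h.neA h.evA (by (clear * - hle; omega)) a1 a2 a3 a4 (by (clear * - e1; omega)) (by (clear * - e2; omega))
  have c2 := arith15 h.neB h.evB (by (clear * - hle; omega)) b1 b2 b3 b4 (by (clear * - e1; omega)) (by (clear * - e2; omega))
  (clear * - e1 hle c1 c2; omega)

end Cfsg.Agent.H583.OdmM23
end

-- part: H463/Odm/OdmRowM24
section
/-!
# TEAM ODDM (S4785): `M24` (helper463)
-/

set_option autoImplicit false

namespace Cfsg.Agent.H463.OdmM24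

open Subgroup Cfsg Cfsg.Agent.OrdDiv Cfsg.Agent.H453.OddM Cfsg.Agent.H217.Odm Cfsg.Agent.H257.El
open Cfsg.Agent.SporadicStructure.M24El Cfsg.Agent.SporadicA.GolayPerm Cfsg.Agent.SporadicA.GolayBase
open Cfsg.Agent.H729.M24Deg Cfsg.Agent.H729.MData Cfsg.Agent.H729.PairMathieu Cfsg.Agent.H463.TorM

universe u v

/-- `RealP` is invariant under isomorphisms -/
theorem realP_congr {T : Type u} {S : Type v} [Group T] [Group S] (e : T ≃* S) {k : ℕ} (h : RealP S k) : RealP T k := by
  obtain ⟨x, hx, hr⟩ := h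
  exact ⟨e.symm x, by rw [MulEquiv.orderOf_eq, hx], hr.map e.symm.toMonoidHom⟩

def f2 : ℕ := 984778471827487287740443818801498507

theorem okf : ok f2 = true := by decide +kernel
theorem of2 : (el f2) ^ 2 = 1 := el_pow_eq_one okf (by decide +kernel)
theorem oe2' : (el e2) ^ 2 = 1 := el_pow_eq_one ok2 (by decide +kernel)

theorem real3 : RealP M24 3 := by
  refine ⟨el e2 * el f2, ?_, IsReal.of_mul oe2' of2⟩
  rw [← el_pcomp ok2 okf]
  exact orderOf_el (by norm_num) (ok_pcomp ok2 okf) (by decide +kernel) 1 (by norm_num) (by decide +kernel)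

theorem norm11 {x : M24} (hx : orderOf x = 11) :
    Nat.card (normalizer ((zpowers x : Subgroup M24) : Set M24)) = 11 * (1 * 10) ∧ (Even 10 → IsReal x) := by
  refine norm_of_cent (n := 22256640) (c := 1) (e := 10) (by norm_num) ?_ (by norm_num) hx ?_ (by norm_num)
    (by norm_num)
  · rw [card_M24]
  · rw [card_cent_eleven hx]

/-- transport of the normalizer -/
theorem card_norm_congr {T : Type u} {S : Type v} [Group T] [Group S] (e : T ≃* S) (x : T) :
    Nat.card (normalizer ((zpowers x : Subgroup T) : Set T)) =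
      Nat.card (normalizer ((zpowers (e x) : Subgroup S) : Set S)) := by
  refine Nat.card_congr (Equiv.subtypeEquiv e.toEquiv fun y => ?_)
  show y ∈ normalizer ((zpowers x : Subgroup T) : Set T) ↔ e y ∈ normalizer ((zpowers (e x) : Subgroup S) : Set S)
  have hz : ∀ v : T, v ∈ zpowers x ↔ e v ∈ zpowers (e x) := by
    intro v
    rw [mem_zpowers_iff, mem_zpowers_iff]
    constructor
    · rintro ⟨j, rfl⟩
      exact ⟨j, (map_zpow e x j).symm⟩
    · rintro ⟨j, hj⟩
      exact ⟨j, e.injective (by rw [map_zpow, hj])⟩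
  rw [mem_normalizer_iff, mem_normalizer_iff]
  constructor
  · intro h w
    obtain ⟨v, rfl⟩ := e.surjective w
    have h1 := h v
    rw [hz, hz] at h1
    rw [← map_mul, ← map_inv, ← map_mul]
    exact h1
  · intro h v
    have h1 := h (e v)
    rw [← map_mul, ← map_inv, ← map_mul, ← hz, ← hz] at h1
    exact h1

/-- **The row of `M24`.** -/
theorem row (tab : OrderTable.{u}) (known : Known.{u}) {T : Type u} [Group T] (h : Spor.IsoM24 T) : Row T := by
  have : Finite T := by
    obtain ⟨e⟩ := h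
    exact Finite.of_equiv _ e.symm.toEquiv
  obtain ⟨e⟩ := h
  have hc : Nat.card T = 244823040 := by rw [Nat.card_congr e.toEquiv, card_M24]
  refine row_of_two tab known (r := 11) (nu := 10) (ss := [3])
    (l := [(2, 10), (3, 3), (5, 1), (7, 1), (11, 1), (23, 1)]) hc
    (by norm_num) (realP_congr e ⟨_, o11, (norm11 o11).2 (by decide)⟩) (fun x hx => ?_) ?_ (by decide +kernel)
  · rw [card_norm_congr e, (norm11 (by rw [MulEquiv.orderOf_eq, hx])).1]
  intro s hs
  rw [List.mem_singleton] at hs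
  subst hs
  exact ⟨by norm_num, realP_congr e real3,
    noOrd_congr e (noOrd_of_cent (by norm_num) (fun x hx => card_cent_eleven hx) (by norm_num) (by norm_num))⟩

end Cfsg.Agent.H463.OdmM24
end

-- part: H583/OdmRowM23
section
/-!
# TEAM ODDM (S4785): the row of `M23` (helper583)

The numeric elimination leaves `|R| = 5760, 1920, 40320, 443520`. By counting the orbits of `R` on the 23 points,
`35 ∤ |R|` and `R` has no element of order 15 (`OdmM23Orb`); for `|R| = 5760` the normalizer of a subgroup of order 5,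
for `|R| = 1920` the normalizer of a subgroup of order 3 shows that there is such an element.
-/

set_option autoImplicit false
set_option maxRecDepth 100000

namespace Cfsg.Agent.H583.OdmM23

open Subgroup Cfsg
open Cfsg.Agent.H453.OddM Cfsg.Agent.H217.Odm

universe u

/-! ### local data -/

theorem norm_p {p c nu : ℕ}
    (h : ∀ {R : Subgroup Spor.M23}, Nat.card R = p →
      Nat.card (centralizer (R : Set Spor.M23)) = c ∧ Nat.card (normalizer (R : Set Spor.M23)) = p * nu) (x : Spor.M23)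
    (hx : orderOf x = p) : Nat.card (normalizer ((zpowers x : Subgroup Spor.M23) : Set Spor.M23)) = p * nu :=
  (h (by rw [Nat.card_zpowers, hx])).2

theorem norm5 : ∀ x : Spor.M23, orderOf x = 5 →
    Nat.card (normalizer ((zpowers x : Subgroup Spor.M23) : Set Spor.M23)) = 5 * 12 :=
  norm_p (c := 15) fun h => H715.Fpr.MathData.cn23_5 h

theorem norm7 : ∀ x : Spor.M23, orderOf x = 7 →
    Nat.card (normalizer ((zpowers x : Subgroup Spor.M23) : Set Spor.M23)) = 7 * 6 :=
  norm_p (c := 14) fun h => H715.Fpr.MathData.cn23_7 h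

theorem norm11 : ∀ x : Spor.M23, orderOf x = 11 →
    Nat.card (normalizer ((zpowers x : Subgroup Spor.M23) : Set Spor.M23)) = 11 * 5 :=
  norm_p (c := 11) fun h => H715.Fpr.MathData.cn23_11 h

theorem norm23 : ∀ x : Spor.M23, orderOf x = 23 →
    Nat.card (normalizer ((zpowers x : Subgroup Spor.M23) : Set Spor.M23)) = 23 * 11 :=
  norm_p (c := 23) fun h => H715.Fpr.MathData.cn23_23 h

theorem real5 : RealP Spor.M23 5 := by
  have : Fact (Nat.Prime 5) := ⟨by norm_num⟩
  obtain ⟨x, hx⟩ := exists_prime_orderOf_dvd_card' (G := Spor.M23) 5 (by rw [card_M23]; norm_num)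
  have h := H715.Fpr.MathData.cn23_5 (R := zpowers x) (by rw [Nat.card_zpowers, hx])
  refine realP_of_norm (by norm_num) hx ?_
  rw [h.2, ← H858.OdmRowM22.cent_zpowers, h.1]
  norm_num

theorem real3 : RealP Spor.M23 3 := ⟨a3, orderOf_a3, isReal_a3⟩

/-! ### commuting elements -/

/-- `g` of prime order `q` normalizes `⟨x⟩`, `x` of prime order `p`, `q ∤ p - 1` -/
theorem commute_of_norm {G : Type*} [Group G] {x g : G} {p q : ℕ} (hp : p.Prime) (hq : q.Prime)
    (hx : orderOf x = p) (hg : orderOf g = q) (hn : g ∈ normalizer ((zpowers x : Subgroup G) : Set G))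
    (hqp : ¬ q ∣ p - 1) : x * g = g * x := by
  have := Fact.mk hp
  have hfin : IsOfFinOrder x := orderOf_pos_iff.1 (by rw [hx]; exact hp.pos)
  obtain ⟨k, hk⟩ := (hfin.mem_powers_iff_mem_zpowers (y := g * x * g⁻¹)).2
    ((mem_normalizer_iff.1 hn x).1 (mem_zpowers x))
  have hk' : g * x * g⁻¹ = x ^ k := hk.symm
  have hpow : ∀ j : ℕ, g ^ j * x * (g ^ j)⁻¹ = x ^ (k ^ j) := by
    intro j
    induction j with
    | zero => simp
    | succ j ih =>
      have h1 : g ^ (j + 1) * x * (g ^ (j + 1))⁻¹ = g * (g ^ j * x * (g ^ j)⁻¹) * g⁻¹ := by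
        rw [pow_succ' g]; group
      have h2 : g * x ^ (k ^ j) * g⁻¹ = (g * x * g⁻¹) ^ (k ^ j) :=
        (map_pow (MulAut.conj g).toMonoidHom x (k ^ j))
      rw [h1, ih, h2, hk', ← pow_mul, pow_succ' k]
  have h1 := hpow q
  rw [← hg, pow_orderOf_eq_one, one_mul, inv_one, mul_one, hg] at h1
  have h2 : (k : ZMod p) ^ q = 1 := by
    have h3 : x ^ (k ^ q) = x ^ 1 := by rw [← h1, pow_one]
    rw [pow_eq_pow_iff_modEq, hx] at h3
    have h4 := (ZMod.natCast_eq_natCast_iff _ _ _).2 h3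
    push_cast at h4
    exact h4
  have h3 : (k : ZMod p) ≠ 0 := by
    intro h0
    rw [h0, zero_pow hq.ne_zero] at h2
    exact zero_ne_one h2
  have h4 : (k : ZMod p) ^ (p - 1) = 1 := ZMod.pow_card_sub_one_eq_one h3
  have h5 : orderOf (k : ZMod p) = 1 := by
    rcases (Nat.dvd_prime hq).1 (orderOf_dvd_of_pow_eq_one h2) with h | h
    · exact h
    · exact absurd (h ▸ orderOf_dvd_of_pow_eq_one h4) hqp
  have h6 : (k : ZMod p) = 1 := orderOf_eq_one_iff.1 h5
  have h7 : x ^ k = x := by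
    have h8 : (k : ZMod p) = ((1 : ℕ) : ZMod p) := by rw [h6, Nat.cast_one]
    have h9 := (ZMod.natCast_eq_natCast_iff _ _ _).1 h8
    have h10 : x ^ k = x ^ 1 := by rw [pow_eq_pow_iff_modEq, hx]; exact h9
    rw [h10, pow_one]
  rw [h7] at hk'
  rw [← hk', inv_mul_cancel_right, hk']

/-- elements of order 3 and 5 commute if one normalizes the other -/
theorem exists_fifteen {R : Subgroup Spor.M23} {x : R} {p q : ℕ} (hp : p.Prime) (hq : q.Prime) (hx : orderOf x = p)
    (hd : q ∣ Nat.card (normalizer ((zpowers x : Subgroup R) : Set R))) (hqp : ¬ q ∣ p - 1) :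
    ∃ y z : Spor.M23, y ∈ R ∧ z ∈ R ∧ orderOf y = p ∧ orderOf z = q ∧ y * z = z * y := by
  have := Fact.mk hq
  obtain ⟨g, hg⟩ := exists_prime_orderOf_dvd_card' (G := normalizer ((zpowers x : Subgroup R) : Set R)) q hd
  rw [← Subgroup.orderOf_coe] at hg
  have h1 := commute_of_norm hp hq hx hg g.2 hqp
  exact ⟨x, ((g : R) : Spor.M23), x.2, (g : R).2, by rw [Subgroup.orderOf_coe, hx], by rw [Subgroup.orderOf_coe, hg],
    congrArg Subtype.val h1⟩

/-! ### the orders -/

theorem not_5760 {R : Subgroup Spor.M23} (hR : RO Spor.M23 R) (hc : Nat.card R = 5760) : False := by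
  have D := Pt.of_real hR (by norm_num) (by norm_num) real5 (by norm_num) norm5 true
  obtain ⟨x, a, hx, ha, had, hmod, h2⟩ := D.exists_a (by rw [hc]; norm_num) (by rw [hc]; norm_num)
  have h3 : a = 12 := by
    have h4 : 4 ∣ a := by
      have h5 : a.factorization 2 = 2 := by
        rw [h2 rfl, show (12 : ℕ) = 2 ^ 2 * 3 by norm_num, Nat.factorization_mul (by norm_num) (by norm_num),
          Nat.Prime.factorization_pow Nat.prime_two, Finsupp.add_apply, Finsupp.single_eq_same,
          Nat.factorization_eq_zero_of_not_dvd (by norm_num)]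
      have h6 := Nat.ordProj_dvd a 2
      rw [h5] at h6
      exact h6
    have h5 : a ≤ 12 := Nat.le_of_dvd (by norm_num) had
    rw [hc] at hmod
    obtain ⟨b, rfl⟩ := h4
    have h6 : b ≤ 3 := by omega
    interval_cases b <;> omega
  rw [h3] at ha
  obtain ⟨y, z, hy, hz, hy5, hz3, hyz⟩ := exists_fifteen (q := 3) (by norm_num) (by norm_num) hx
    (by rw [ha]; norm_num) (by norm_num)
  exact not_fifteen hR (by rw [hc]; norm_num) hy hz hy5 hz3 hyz

theorem not_1920 {R : Subgroup Spor.M23} (hR : RO Spor.M23 R) (hc : Nat.card R = 1920) : False := by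
  have D := Pt.of_real hR (by norm_num) (by norm_num) real3 (by norm_num) (fun x hx => card_norm_three hx) true
  obtain ⟨x, a, hx, ha, had, hmod, h2⟩ := D.exists_a (by rw [hc]; norm_num) (by rw [hc]; norm_num)
  have h3 : a = 40 := by
    have h4 : 8 ∣ a := by
      have h5 : a.factorization 2 = 3 := by
        rw [h2 rfl, show (120 : ℕ) = 2 ^ 3 * 15 by norm_num, Nat.factorization_mul (by norm_num) (by norm_num),
          Nat.Prime.factorization_pow Nat.prime_two, Finsupp.add_apply, Finsupp.single_eq_same,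
          Nat.factorization_eq_zero_of_not_dvd (by norm_num)]
      have h6 := Nat.ordProj_dvd a 2
      rw [h5] at h6
      exact h6
    have h5 : a ≤ 120 := Nat.le_of_dvd (by norm_num) had
    rw [hc] at hmod
    obtain ⟨b, rfl⟩ := h4
    have h6 : b ≤ 15 := by omega
    interval_cases b <;> omega
  rw [h3] at ha
  obtain ⟨y, z, hy, hz, hy5, hz3, hyz⟩ := exists_fifteen (q := 5) (by norm_num) (by norm_num) hx
    (by rw [ha]; norm_num) (by norm_num)
  exact not_fifteen hR (by rw [hc]; norm_num) hz hy hz3 hy5 hyz.symm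

/-- the numeric elimination -/
theorem left_m23 : ((left 10200960 [(2, 7), (3, 2), (5, 1), (7, 1), (11, 1), (23, 1)] 5 []
    [(5, 12, true), (7, 6, false), (11, 5, false), (23, 11, false)] []).all fun g =>
      Nat.beq g.2 5760 || (Nat.beq g.2 1920 || (Nat.beq g.2 40320 || Nat.beq g.2 443520))) = true := by decide +kernel

theorem not_card {R : Subgroup Spor.M23} (hR : RO Spor.M23 R)
    (hc : Nat.card R = 5760 ∨ Nat.card R = 1920 ∨ Nat.card R = 40320 ∨ Nat.card R = 443520) : False := by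
  rcases hc with hc | hc | hc | hc
  · exact not_5760 hR hc
  · exact not_1920 hR hc
  · exact not_five_seven hR (by rw [hc]; norm_num) (by rw [hc]; norm_num) (by rw [hc]; norm_num)
  · exact not_five_seven hR (by rw [hc]; norm_num) (by rw [hc]; norm_num) (by rw [hc]; norm_num)

/-- **The row of `M₂₃`.** -/
theorem row (tab : Cfsg.Agent.OrdDiv.OrderTable.{u}) (known : Cfsg.Agent.H257.El.Known.{u}) {T : Type u} [Group T]
    (h : Cfsg.Spor.IsoM23 T) : Cfsg.Agent.H453.OddM.Row T := by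
  obtain ⟨e⟩ := h
  have hc : Nat.card T = 10200960 := by rw [Nat.card_congr e.toEquiv, card_M23]
  have : Finite T := Nat.finite_of_card_ne_zero (by rw [hc]; norm_num)
  have hreal5 : RealP T 5 := realP_congr real5 e.symm
  have htr : ∀ {p nu : ℕ}, (∀ x : Spor.M23, orderOf x = p →
      Nat.card (normalizer ((zpowers x : Subgroup Spor.M23) : Set Spor.M23)) = p * nu) →
      ∀ x : T, orderOf x = p → Nat.card (normalizer ((zpowers x : Subgroup T) : Set T)) = p * nu := by
    intro p nu H x hx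
    rw [H463.OdmM24.card_norm_congr e, H (e x) (by rw [MulEquiv.orderOf_eq, hx])]
  intro R hR
  by_contra hne
  obtain ⟨O, hO, N, hT, g, hg, -, -⟩ := exists_left (n := 10200960)
    (l := [(2, 7), (3, 2), (5, 1), (7, 1), (11, 1), (23, 1)]) (r := 5) (ss := [])
    (aux := [(5, 12, true), (7, 6, false), (11, 5, false), (23, 11, false)]) (dv := []) tab known hc (by norm_num)
    (hR.cov.dvd hreal5) (fun s hs => absurd hs List.not_mem_nil) (by
      intro x hx
      simp only [List.mem_cons, List.not_mem_nil, or_false] at hx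
      rcases hx with rfl | rfl | rfl | rfl
      · exact Pt.of_real hR (by norm_num) (by norm_num) hreal5 (by norm_num) (htr norm5) _
      · exact Pt.of_norm (by norm_num) (by norm_num) (by norm_num) (htr norm7)
      · exact Pt.of_norm (by norm_num) (by norm_num) (by norm_num) (htr norm11)
      · exact Pt.of_norm (by norm_num) (by norm_num) (by norm_num) (htr norm23))
    (fun d hd => absurd hd List.not_mem_nil) (by decide +kernel) hR.odd_index hne
  have h1 := List.all_eq_true.1 left_m23 _ hg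
  simp only [Bool.or_eq_true, Nat.beq_eq] at h1
  have h2 : Nat.card (R.comap e.symm.toMonoidHom) = Nat.card R :=
    Nat.card_congr (e.symm.toEquiv.subtypeEquiv fun _ => Iff.rfl)
  exact not_card (hR.comap e.symm) (by rw [h2]; exact h1)

end Cfsg.Agent.H583.OdmM23
end

-- part: H143/OdmRowJ3
section
/-!
# TEAM ODDM (S4785): the third Janko group (helper143)
-/

set_option autoImplicit false

namespace Cfsg.Agent.H143.OdmRowJ3

open Cfsg Cfsg.Agent.H453.OddM Cfsg.Agent.H217.Odm Cfsg.Agent.H257.El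

universe u

theorem realP_five {T : Type u} [Group T] [Finite T] (h : Spor.IsoJ3 T) : RealP T 5 := by
  obtain ⟨x, hx⟩ := exists_prime_orderOf_dvd_card' (G := T) 2 (by rw [NotCT.Orders.j3 h]; norm_num)
  obtain ⟨ψ, hψ, hk, -⟩ := Cfsg.Agent.H315.JThreeFact.exists_psi h x hx
  obtain ⟨y, hy, hr⟩ := Cfsg.Agent.H143.OdmLift.realP_five ψ hψ.ge (by rw [hk]; norm_num)
  exact ⟨y, by rw [Subgroup.orderOf_coe, hy], hr.coe⟩

theorem row (tab : Cfsg.Agent.OrdDiv.OrderTable.{u}) (known : Cfsg.Agent.H257.El.Known.{u}) {T : Type u} [Group T]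
    (h : Cfsg.Spor.IsoJ3 T) : Cfsg.Agent.H453.OddM.Row T := by
  have hc := NotCT.Orders.j3 h
  have : Finite T := Nat.finite_of_card_ne_zero (by rw [hc]; norm_num)
  have hx17 : ∃ x : T, orderOf x = 17 := by
    have : Fact (Nat.Prime 17) := ⟨by norm_num⟩
    exact exists_prime_orderOf_dvd_card' (G := T) 17 (by rw [hc]; norm_num)
  obtain ⟨x, hx⟩ := hx17
  have hreal : RealP T 17 := ⟨x, hx, (norm_of_cent (c := 1) (e := 8) (n := 2954880) (by norm_num) (by rw [hc])
    (by norm_num) hx (by rw [(H898.J3Cent.seventeen h hx).1]) (by norm_num) (by norm_num)).2 (by decide)⟩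
  refine row_of_two tab known (r := 17) (nu := 8) (ss := [5]) (l := [(2, 7), (3, 5), (5, 1), (17, 1), (19, 1)]) hc
    (by norm_num) hreal (fun x hx => (H898.J3Cent.seventeen h hx).2) ?_ (by decide +kernel)
  intro s hs
  rw [List.mem_singleton] at hs
  subst hs
  exact ⟨by norm_num, realP_five h,
    noOrd_of_cent (by norm_num) (fun x hx => (H898.J3Cent.seventeen h hx).1) (by norm_num) (by norm_num)⟩

end Cfsg.Agent.H143.OdmRowJ3
end

-- part: H328/Mon/Lift
section
/-!
# The quotient `C(v) / ⟨v⟩`: lifting elements of order prime to the order of `v` (helper328)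

* `exists_lift` : elements of prime order of `XX v` lift to elements of the same order of `C(v)`;
* `comm_of_mk` : commuting images imply commuting elements (one of them of order prime to `|v|`);
* `orderOf_mk`, `card_cent`.
-/

set_option autoImplicit false

namespace Cfsg.Agent.H328.Mon

open Cfsg.Agent.LThreeMB
open Subgroup (centralizer zpowers mem_centralizer_singleton_iff)

variable {G : Type*} [Group G] {v : G}

theorem pow_comm' {a : G} (ha : a * v = v * a) (k : ℕ) : a ^ k * v = v * a ^ k :=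
  ((show Commute a v from ha).pow_left k)

theorem mk_pow {a : G} (ha : a * v = v * a) (k : ℕ) : (mk v ha) ^ k = mk v (pow_comm' ha k) := rfl

theorem orderOf_zpow_dvd' (x : G) (i : ℤ) : orderOf (x ^ i) ∣ orderOf x := by
  apply orderOf_dvd_of_pow_eq_one
  rw [← zpow_natCast, ← zpow_mul, mul_comm, zpow_mul, zpow_natCast, pow_orderOf_eq_one, one_zpow]

theorem exists_lift {p : ℕ} (hp : p.Prime) (hc : p.Coprime (orderOf v)) {u : XX v} (hu : orderOf u = p) :
    ∃ (a : G) (ha : a * v = v * a), orderOf a = p ∧ mk v ha = u := by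
  have hpf : Fact p.Prime := ⟨hp⟩
  obtain ⟨a, ha, rfl⟩ := exists_mk u
  obtain ⟨k, hk1, hk2⟩ := Nat.chineseRemainder hc 1 0
  have h1 : mk v (pow_comm' ha p) = 1 := by
    have h0 := pow_orderOf_eq_one (mk v ha)
    rwa [hu, mk_pow] at h0
  obtain ⟨i, hi⟩ := (mk_eq_one _).1 h1
  have h2 : mk v (pow_comm' ha k) = mk v ha := by
    have h0 : (mk v ha) ^ k = (mk v ha) ^ 1 := by
      rw [pow_eq_pow_iff_modEq, hu]
      exact hk1
    rwa [mk_pow, pow_one] at h0
  refine ⟨a ^ k, pow_comm' ha k, orderOf_eq_prime ?_ ?_, h2⟩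
  · rw [← pow_mul, mul_comm, pow_mul, ← hi]
    obtain ⟨j, rfl⟩ := Nat.modEq_zero_iff_dvd.1 hk2
    rw [← zpow_natCast, ← zpow_mul, mul_comm, Nat.cast_mul, mul_assoc, zpow_mul, zpow_natCast,
      pow_orderOf_eq_one, one_zpow]
  · intro h
    rw [← h2] at hu
    have h3 : mk v (pow_comm' ha k) = 1 := by
      rw [mk_congr (pow_comm' ha k) (by rw [one_mul, mul_one]) h]; rfl
    rw [h3, orderOf_one] at hu
    exact hp.one_lt.ne hu

theorem mk_comm {a b : G} (ha : a * v = v * a) (hb : b * v = v * b) (h : a * b = b * a) :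
    mk v ha * mk v hb = mk v hb * mk v ha := by
  have hab : (a * b) * v = v * (a * b) := by rw [mul_assoc, hb, ← mul_assoc, ha, mul_assoc]
  have hba : (b * a) * v = v * (b * a) := by rw [mul_assoc, ha, ← mul_assoc, hb, mul_assoc]
  have h1 : mk v hab = mk v hba := mk_congr hab hba h
  exact h1

theorem comm_of_mk {a b : G} (ha : a * v = v * a) (hb : b * v = v * b) (hc : (orderOf b).Coprime (orderOf v))
    (h : mk v ha * mk v hb = mk v hb * mk v ha) : a * b = b * a := by
  have hab : (a * b) * v = v * (a * b) := by rw [mul_assoc, hb, ← mul_assoc, ha, mul_assoc]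
  have hba : (b * a) * v = v * (b * a) := by rw [mul_assoc, ha, ← mul_assoc, hb, mul_assoc]
  have h1 : mk v hab = mk v hba := h
  obtain ⟨i, hi⟩ := (mk_eq_mk hab hba).1 h1
  have hcb : Commute b (v ^ i) := (show Commute b v from hb).zpow_right i
  have h2 : a * (b * v ^ i) * a⁻¹ = b := by rw [← mul_assoc a b, hi]; group
  have h3 : (b * v ^ i) ^ orderOf b = 1 := by
    have h4 : (a * (b * v ^ i) * a⁻¹) ^ orderOf b = 1 := by rw [h2, pow_orderOf_eq_one]
    rw [conj_pow] at h4
    have h5 := congrArg (fun t => a⁻¹ * t * a) h4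
    simpa only [mul_assoc, _root_.inv_mul_cancel_left, _root_.inv_mul_cancel, _root_.mul_one] using h5
  rw [hcb.mul_pow, pow_orderOf_eq_one, one_mul] at h3
  have h6 : orderOf (v ^ i) ∣ orderOf v := orderOf_zpow_dvd' v i
  have h7 : orderOf (v ^ i) ∣ Nat.gcd (orderOf b) (orderOf v) := Nat.dvd_gcd (orderOf_dvd_of_pow_eq_one h3) h6
  rw [hc, Nat.dvd_one, orderOf_eq_one_iff] at h7
  rw [← hi, h7, mul_one]

theorem orderOf_mk' {p : ℕ} (hp : p.Prime) {a : G} (ha : a * v = v * a) (hap : orderOf a = p)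
    (hc : p.Coprime (orderOf v)) : orderOf (mk v ha) = p := by
  have hpf : Fact p.Prime := ⟨hp⟩
  refine orderOf_eq_prime ?_ ?_
  · rw [mk_pow, mk_congr (pow_comm' ha p) (by rw [one_mul, mul_one]) (by rw [← hap, pow_orderOf_eq_one])]
    rfl
  · intro h
    obtain ⟨i, hi⟩ := (mk_eq_one ha).1 h
    have h1 : orderOf a ∣ orderOf v := by rw [← hi]; exact orderOf_zpow_dvd' v i
    rw [hap] at h1
    have h2 := Nat.dvd_gcd (dvd_refl p) h1
    rw [hc, Nat.dvd_one] at h2
    exact hp.one_lt.ne' h2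

theorem card_cent (v : G) : Nat.card ↥(centralizer ({v} : Set G)) = orderOf v * Nat.card (XX v) := by
  rw [Subgroup.card_eq_card_quotient_mul_card_subgroup (Zx v), mul_comm]
  congr 1
  rw [Zx, Nat.card_zpowers, self, Subgroup.orderOf_mk]

/-- conjugate subgroups of prime order, the prime exactly dividing the order of the group -/
theorem exists_conj [Finite G] {r : ℕ} (hr : r.Prime) (hr2 : ¬ r ^ 2 ∣ Nat.card G) {w : G} (hv : orderOf v = r)
    (hw : orderOf w = r) : ∃ g : G, ∀ c : G, c * w = w * c ↔ (g * c * g⁻¹) * v = v * (g * c * g⁻¹) := by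
  have : Fact r.Prime := ⟨hr⟩
  have key : ∀ w : G, orderOf w = r → ¬ r ∣ (zpowers w).index := by
    intro w hw h1
    apply hr2
    rw [← (zpowers w).card_mul_index, Nat.card_zpowers, hw, pow_two]
    exact Nat.mul_dvd_mul_left r h1
  have hpg : ∀ w : G, orderOf w = r → IsPGroup r ↥(zpowers w) := fun w hw =>
    IsPGroup.of_card (n := 1) (by rw [Nat.card_zpowers, hw, pow_one])
  obtain ⟨g, hg⟩ := MulAction.exists_smul_eq G ((hpg w hw).toSylow (key w hw)) ((hpg v hv).toSylow (key v hv))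
  have hg' : (zpowers w).map (MulAut.conj g).toMonoidHom = zpowers v := congrArg Sylow.toSubgroup hg
  obtain ⟨i, hi⟩ : ∃ i : ℤ, g * w ^ i * g⁻¹ = v := by
    have h2 : v ∈ (zpowers w).map (MulAut.conj g).toMonoidHom := by rw [hg']; exact Subgroup.mem_zpowers v
    obtain ⟨_, ⟨i, rfl⟩, h3⟩ := h2
    exact ⟨i, h3⟩
  obtain ⟨j, hj⟩ : ∃ j : ℤ, v ^ j = g * w * g⁻¹ := by
    have h2 : g * w * g⁻¹ ∈ zpowers v := by
      rw [← hg']
      exact ⟨w, Subgroup.mem_zpowers w, rfl⟩
    exact Subgroup.mem_zpowers_iff.1 h2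
  refine ⟨g, fun c => ⟨fun hc => ?_, fun hc => ?_⟩⟩
  · have h3 : Commute c (w ^ i) := (show Commute c w from hc).zpow_right i
    rw [← hi]
    calc g * c * g⁻¹ * (g * w ^ i * g⁻¹) = g * (c * w ^ i) * g⁻¹ := by group
      _ = g * (w ^ i * c) * g⁻¹ := by rw [h3.eq]
      _ = _ := by group
  · have h3 : Commute (g * c * g⁻¹) (v ^ j) := (show Commute (g * c * g⁻¹) v from hc).zpow_right j
    rw [hj] at h3
    have h4 := h3.eq
    calc c * w = g⁻¹ * ((g * c * g⁻¹) * (g * w * g⁻¹)) * g := by group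
      _ = g⁻¹ * ((g * w * g⁻¹) * (g * c * g⁻¹)) * g := by rw [h4]
      _ = _ := by group

end Cfsg.Agent.H328.Mon
end

-- part: H328/Mon/NineAbs
section
/-!
# The elements of order 19 of the Monster: the order of the centralizer, abstractly (helper328)

`Dat G` : the facts on `G`; `card_cent_nineteen` : `|C(v)| = 19 · 60` for the elements `v` of order 19.
-/

set_option autoImplicit false

namespace Cfsg.Agent.H328.Mon

open Cfsg Cfsg.Agent.LThreeMB Subgroup
open Cfsg.Agent.OrdDiv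

universe u

/-- in `J₁` an involution centralizes an element of order 3 -/
theorem jone (S : Type*) [Group S] (hS : Spor.IsoJ1 S) :
    ∃ g k : S, orderOf g = 3 ∧ g * k = k * g ∧ k ^ 3 ≠ 1 := by
  obtain ⟨e⟩ := hS
  refine ⟨e.symm H413.JOneLocal.b, e.symm H413.JOneLocal.u, ?_, ?_, ?_⟩
  · rw [MulEquiv.orderOf_eq]
    have : Fact (Nat.Prime 3) := ⟨Nat.prime_three⟩
    exact orderOf_eq_prime H413.JOneLocal.b_cu H413.JOneLocal.b_ne
  · rw [← map_mul, ← map_mul, H413.JOneLocal.bu]
  · rw [← map_pow, ne_eq, EmbeddingLike.map_eq_one_iff, pow_succ, H413.JOneLocal.u_sq, one_mul]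
    exact H413.JOneLocal.u_ne

/-- the facts -/
structure Dat (G : Type u) [Group G] : Prop where
  card : Nat.card G = 808017424794512875886459904961710757005754368000000000
  three : ∃ y v g : G, orderOf y = 3 ∧ orderOf v = 19 ∧ y * v = v * y ∧
    (∀ z, z * y = y * z → z * v = v * z → ∃ i j : ℤ, z = v ^ i * y ^ j) ∧ g * v * g⁻¹ = v ^ 2
  five : ∃ f v : G, orderOf f = 5 ∧ orderOf v = 19 ∧ f * v = v * f ∧
    ∀ s, orderOf s = 2 → s * f = f * s → s * v ≠ v * s
  four : ∃ v : G, orderOf v = 19 ∧ 4 ∣ Nat.card (centralizer ({v} : Set G))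
  rank : PRankLE 2 15 G

variable {G : Type u} [Group G] [Finite G]

/-- the automizer of `⟨v⟩`, `v` of order 19, is everything if `v` is conjugate to `v ^ 2` -/
theorem card_norm {v g : G} (hv : orderOf v = 19) (hg : g * v * g⁻¹ = v ^ 2) :
    Nat.card (normalizer ((zpowers v : Subgroup G) : Set G)) = 18 * Nat.card (centralizer ({v} : Set G)) := by
  set P : Subgroup G := zpowers v with hP
  have hr : Nat.Prime 19 := by norm_num
  have hPc : Nat.card P = 19 := by rw [hP, Nat.card_zpowers, hv]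
  have hCP : centralizer ({v} : Set G) = centralizer (P : Set G) := by
    rw [hP, zpowers_eq_closure, centralizer_closure]
  let φ : normalizer (P : Set G) →* MulAut P := P.normalizerMonoidHom
  have hker : Nat.card φ.ker = Nat.card (centralizer ({v} : Set G)) := by
    rw [show φ.ker = _ from P.normalizerMonoidHom_ker, hCP]
    exact Nat.card_congr (Subgroup.subgroupOfEquivOfLe (centralizer_le_normalizer _)).toEquiv
  have hcard : Nat.card (normalizer (P : Set G)) = Nat.card φ.range * Nat.card (centralizer ({v} : Set G)) := by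
    rw [← hker, ← Subgroup.card_mul_index φ.ker, Subgroup.index_ker, mul_comm]
  have hpf : Fact (Nat.Prime 19) := ⟨hr⟩
  have hcyc : IsCyclic P := isCyclic_of_prime_card hPc
  have haut : Nat.card (MulAut P) = 18 := by
    rw [IsCyclic.card_mulAut, hPc, Nat.totient_prime hr]
  have hd : Nat.card φ.range ∣ 18 := by rw [← haut]; exact Subgroup.card_subgroup_dvd_card _
  -- the element `g`
  have hgi : g⁻¹ * v * g ∈ P := by
    have h1 : (g⁻¹ * v * g) ^ 2 = v := by
      have h2 : (g⁻¹ * v * g) ^ 2 = g⁻¹ * v ^ 2 * g := by rw [pow_two, pow_two]; group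
      rw [h2, ← hg]; group
    have h3 : (g⁻¹ * v * g) ^ 19 = 1 := by
      have h4 : (g⁻¹ * v * g) ^ 19 = g⁻¹ * v ^ 19 * g := by
        have := conj_pow (i := 19) (a := g⁻¹) (b := v)
        rwa [inv_inv] at this
      rw [h4, ← hv, pow_orderOf_eq_one]; group
    have h5 : g⁻¹ * v * g = v ^ 10 := by
      calc g⁻¹ * v * g = (g⁻¹ * v * g) ^ 19 * (g⁻¹ * v * g) := by rw [h3, one_mul]
        _ = ((g⁻¹ * v * g) ^ 2) ^ 10 := by rw [← pow_succ, ← pow_mul]
        _ = v ^ 10 := by rw [h1]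
    rw [h5]
    exact npow_mem_zpowers v 10
  have hgN : g ∈ normalizer (P : Set G) := by
    rw [mem_normalizer_iff]
    intro h
    constructor
    · intro hh
      obtain ⟨k, rfl⟩ := mem_zpowers_iff.1 hh
      have h1 : g * v ^ k * g⁻¹ = (v ^ 2) ^ k := by rw [← conj_zpow, hg]
      rw [h1]
      exact zpow_mem (npow_mem_zpowers v 2) k
    · intro hh
      obtain ⟨k, hk⟩ := mem_zpowers_iff.1 hh
      have h1 : h = (g⁻¹ * v * g) ^ k := by
        have h2 : (g⁻¹ * v * g) ^ k = g⁻¹ * v ^ k * g := by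
          have := conj_zpow (i := k) (a := g⁻¹) (b := v)
          rwa [inv_inv] at this
        rw [h2, hk]; group
      rw [h1]
      exact zpow_mem hgi k
  have hpw : ∀ k : ℕ, g ^ k * v * (g ^ k)⁻¹ = v ^ (2 ^ k) := by
    intro k
    induction k with
    | zero => simp
    | succ k ih =>
      calc g ^ (k + 1) * v * (g ^ (k + 1))⁻¹ = g * (g ^ k * v * (g ^ k)⁻¹) * g⁻¹ := by rw [pow_succ' g]; group
        _ = (g * v * g⁻¹) ^ (2 ^ k) := by rw [ih, conj_pow]
        _ = _ := by rw [hg, ← pow_mul, pow_succ']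
  have hne : ∀ k : ℕ, ¬ 19 ∣ 2 ^ k - 1 → (φ ⟨g, hgN⟩) ^ k ≠ 1 := by
    intro k hk h1
    apply hk
    have h2 : ((φ ⟨g, hgN⟩) ^ k) ⟨v, mem_zpowers v⟩ = ⟨v, mem_zpowers v⟩ := by rw [h1]; rfl
    rw [← map_pow] at h2
    have h3 : g ^ k * v * (g ^ k)⁻¹ = v := congrArg Subtype.val h2
    rw [hpw] at h3
    rw [← hv]
    apply orderOf_dvd_of_pow_eq_one
    have h4 : v ^ (2 ^ k - 1) * v = 1 * v := by
      rw [← pow_succ, Nat.sub_add_cancel Nat.one_le_two_pow, h3, one_mul]
    exact mul_right_cancel h4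
  have ho : orderOf (φ ⟨g, hgN⟩) ∣ Nat.card φ.range := by
    have h1 := _root_.orderOf_dvd_natCard (⟨φ ⟨g, hgN⟩, ⟨_, rfl⟩⟩ : φ.range)
    rwa [← Subgroup.orderOf_coe] at h1
  have h18 : orderOf (φ ⟨g, hgN⟩) = 18 := by
    have h1 := ho.trans hd
    have h2 : orderOf (φ ⟨g, hgN⟩) ∈ Nat.divisors 18 := Nat.mem_divisors.2 ⟨h1, by norm_num⟩
    rw [show Nat.divisors 18 = {1, 2, 3, 6, 9, 18} by decide] at h2
    have h6 : ¬ orderOf (φ ⟨g, hgN⟩) ∣ 6 := fun h => hne 6 (by norm_num) (orderOf_dvd_iff_pow_eq_one.1 h)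
    have h9 : ¬ orderOf (φ ⟨g, hgN⟩) ∣ 9 := fun h => hne 9 (by norm_num) (orderOf_dvd_iff_pow_eq_one.1 h)
    simp only [Finset.mem_insert, Finset.mem_singleton] at h2
    rcases h2 with h | h | h | h | h | h
    · exact absurd (by rw [h]; norm_num) h6
    · exact absurd (by rw [h]; norm_num) h6
    · exact absurd (by rw [h]; norm_num) h6
    · exact absurd (by rw [h]) h6
    · exact absurd (by rw [h]) h9
    · exact h
  rw [hcard, Nat.dvd_antisymm hd (by rw [← h18]; exact ho)]

/-- **the order of the centralizer of an element of order 19** -/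
theorem card_cent_nineteen (tab : OrderTable.{u}) (known : H257.El.Known.{u}) (D : Dat G) {w : G} (hw : orderOf w = 19) :
    Nat.card (centralizer ({w} : Set G)) = 19 * 60 := by
  classical
  have h19 : Nat.Prime 19 := by norm_num
  have hsq : ¬ 19 ^ 2 ∣ Nat.card G := by rw [D.card]; norm_num
  obtain ⟨y, v, g, hy, hv, hyv, hyz, hg⟩ := D.three
  have hwv : Nat.card (centralizer ({w} : Set G)) = Nat.card (centralizer ({v} : Set G)) :=
    Nat.dvd_antisymm (H199.NSmAbs.card_cent_dvd h19 hsq hv hw) (H199.NSmAbs.card_cent_dvd h19 hsq hw hv)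
  rw [hwv]
  -- the quotient
  set c := Nat.card (XX v) with hc
  have hcc : Nat.card (centralizer ({v} : Set G)) = 19 * c := by rw [card_cent, hv]
  have hcop : ∀ p : ℕ, p.Prime → p ≠ 19 → p.Coprime (orderOf v) := fun p hp h => by
    rw [hv]; exact (Nat.coprime_primes hp h19).2 h
  -- the congruence
  have hmod : (18 * c) % 19 = 16 := by
    obtain ⟨m, -, hm2, hm3⟩ := H217.Odm.frattini_card h19 hsq ⊤ (zpowers v)
      (by rw [Nat.card_zpowers, hv]) le_top
    rw [Subgroup.card_top] at hm2 hm3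
    have hm4 : Nat.card (normalizer ((zpowers v : Subgroup G) : Set G)) = 19 * m :=
      (Nat.eq_of_mul_eq_mul_left Nat.card_pos hm3).symm
    rw [card_norm hv hg, hcc] at hm4
    have hm5 : m = 18 * c := by omega
    rw [← hm5, ← hm2, D.card]
  -- the element of order 5
  obtain ⟨f', v', hf', hv', hfv', hfs'⟩ := D.five
  obtain ⟨h, hh⟩ := exists_conj h19 hsq hv hv'
  obtain ⟨f, hf⟩ : ∃ f, f = h * f' * h⁻¹ := ⟨_, rfl⟩
  have hfo : orderOf f = 5 := by
    rw [hf, ← hf']
    exact orderOf_injective (MulAut.conj h).toMonoidHom (MulAut.conj h).injective f'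
  have hfv : f * v = v * f := by rw [hf]; exact (hh f').1 hfv'
  have hfs : ∀ s, orderOf s = 2 → s * f = f * s → s * v ≠ v * s := by
    intro s hs hsf hsv
    have hs' : h * (h⁻¹ * s * h) * h⁻¹ = s := by group
    refine hfs' (h⁻¹ * s * h) ?_ ?_ ?_
    · rw [← hs]
      have := orderOf_injective (MulAut.conj h).toMonoidHom (MulAut.conj h).injective (h⁻¹ * s * h)
      rw [← this]
      congr 1
    · rw [hf] at hsf
      calc h⁻¹ * s * h * f' = h⁻¹ * (s * (h * f' * h⁻¹)) * h := by group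
        _ = h⁻¹ * ((h * f' * h⁻¹) * s) * h := by rw [hsf]
        _ = _ := by group
    · exact (hh _).2 (by rw [hs']; exact hsv)
  have hf5 : orderOf (_root_.Cfsg.Agent.LThreeMB.mk v hfv) = 5 := orderOf_mk' (by norm_num) hfv hfo (hcop 5 (by norm_num) (by norm_num))
  have h5c : 5 ∣ c := by rw [← hf5]; exact _root_.orderOf_dvd_natCard _
  -- the 2-part
  have h4c : 4 ∣ c := by
    obtain ⟨v₂, hv₂, h4⟩ := D.four
    have h1 := h4.trans (H199.NSmAbs.card_cent_dvd h19 hsq hv hv₂)
    rw [hcc] at h1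
    exact (Nat.Coprime.dvd_of_dvd_mul_left (by norm_num) h1)
  -- the element of order 3
  have hy3 : orderOf (_root_.Cfsg.Agent.LThreeMB.mk v hyv) = 3 := orderOf_mk' Nat.prime_three hyv hy (hcop 3 Nat.prime_three (by norm_num))
  have hX : Nat.card (zpowers (_root_.Cfsg.Agent.LThreeMB.mk v hyv)) = 3 := by rw [Nat.card_zpowers, hy3]
  have hC : centralizer ((zpowers (_root_.Cfsg.Agent.LThreeMB.mk v hyv) : Subgroup (XX v)) : Set (XX v)) = zpowers (_root_.Cfsg.Agent.LThreeMB.mk v hyv) := by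
    apply le_antisymm
    · intro u hu
      obtain ⟨z, hz, rfl⟩ := exists_mk u
      have h1 : _root_.Cfsg.Agent.LThreeMB.mk v hz * _root_.Cfsg.Agent.LThreeMB.mk v hyv = _root_.Cfsg.Agent.LThreeMB.mk v hyv * _root_.Cfsg.Agent.LThreeMB.mk v hz :=
        (mem_centralizer_iff.1 hu _ (mem_zpowers _)).symm
      have h2 := comm_of_mk hz hyv (by rw [hy]; exact hcop 3 Nat.prime_three (by norm_num)) h1
      obtain ⟨i, j, hij⟩ := hyz z h2 hz
      refine mem_zpowers_iff.2 ⟨j, ?_⟩
      have h3 : (y ^ j) * v = v * y ^ j := ((show Commute y v from hyv).zpow_left j)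
      have h4 : (_root_.Cfsg.Agent.LThreeMB.mk v hyv) ^ j = _root_.Cfsg.Agent.LThreeMB.mk v h3 := rfl
      rw [h4]
      refine (mk_eq_mk h3 hz).2 ⟨i, ?_⟩
      rw [hij]
      exact ((show Commute v y from hyv.symm).zpow_zpow i j).symm.eq
    · exact le_centralizer (zpowers (_root_.Cfsg.Agent.LThreeMB.mk v hyv))
  rcases H341.SelfThree.main tab (fun S _ hS => jone S hS) (fun S _ _ _ => known S) (zpowers (_root_.Cfsg.Agent.LThreeMB.mk v hyv)) hX hC with
    ⟨N, hN, hnil, hN3, hq⟩ | ⟨N, hN, hcomm, hexp, ⟨e⟩⟩ | ⟨⟨e⟩⟩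
  · -- nilpotent
    exfalso
    have hidx : Nat.card (XX v ⧸ N) = 3 ∨ Nat.card (XX v ⧸ N) = 6 := by
      rcases hq with h1 | ⟨⟨e⟩⟩
      · exact Or.inl h1
      · right
        rw [Nat.card_congr e.toEquiv, Nat.card_eq_fintype_card, Fintype.card_perm, Fintype.card_fin]
        rfl
    have hcN : c = Nat.card (XX v ⧸ N) * Nat.card N := Subgroup.card_eq_card_quotient_mul_card_subgroup N
    have h2N : 2 ∣ Nat.card N := by
      rw [hcN] at h4c
      rcases hidx with h1 | h1 <;> rw [h1] at h4c <;> omega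
    have : Fact (Nat.Prime 2) := ⟨Nat.prime_two⟩
    obtain ⟨s, hs⟩ := exists_prime_orderOf_dvd_card' (G := N) 2 h2N
    have hs2 : orderOf (s : XX v) = 2 := by rw [Subgroup.orderOf_coe, hs]
    have hfN : _root_.Cfsg.Agent.LThreeMB.mk v hfv ∈ N := by
      rw [← QuotientGroup.eq_one_iff]
      have h1 : orderOf (QuotientGroup.mk (_root_.Cfsg.Agent.LThreeMB.mk v hfv) : XX v ⧸ N) ∣ 5 := by
        rw [← hf5]; exact orderOf_map_dvd (QuotientGroup.mk' N) _
      have h2 := _root_.orderOf_dvd_natCard (QuotientGroup.mk (_root_.Cfsg.Agent.LThreeMB.mk v hfv) : XX v ⧸ N)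
      have h3 := Nat.dvd_gcd h1 h2
      have h4 : Nat.gcd 5 (Nat.card (XX v ⧸ N)) = 1 := by
        rcases hidx with h | h <;> rw [h] <;> norm_num
      rw [h4, Nat.dvd_one, orderOf_eq_one_iff] at h3
      exact h3
    have hsf : (s : XX v) * _root_.Cfsg.Agent.LThreeMB.mk v hfv = _root_.Cfsg.Agent.LThreeMB.mk v hfv * s :=
      (OddOrderLocal.FittingHall.commute_of_mem_of_coprime_orderOf hnil s.2 hfN (by rw [hs2, hf5]; norm_num)).eq
    obtain ⟨a, ha, hao, has⟩ := exists_lift Nat.prime_two (hcop 2 Nat.prime_two (by norm_num)) hs2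
    refine hfs a hao ?_ ha
    refine comm_of_mk ha hfv (by rw [hfo]; exact hcop 5 (by norm_num) (by norm_num)) ?_
    rw [has]
    exact hsf
  · -- `A₅`
    have hcN : c = Nat.card (XX v ⧸ N) * Nat.card N := Subgroup.card_eq_card_quotient_mul_card_subgroup N
    have h60 : Nat.card (XX v ⧸ N) = 60 := by
      rw [Nat.card_congr e.toEquiv, nat_card_alternatingGroup, Nat.card_eq_fintype_card (α := Fin 5), Fintype.card_fin]
      rfl
    have : Fact (Nat.Prime 2) := ⟨Nat.prime_two⟩
    have hN2 : IsPGroup 2 N := fun n => ⟨1, by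
      rw [pow_one]; exact Subtype.ext (hexp n n.2)⟩
    obtain ⟨k, hk⟩ := IsPGroup.iff_card.1 hN2
    -- a subgroup of `G` isomorphic to `N`
    let C := centralizer ({v} : Set G)
    let M : Subgroup C := N.comap (QuotientGroup.mk' (Zx v))
    let ρ : M →* N := (QuotientGroup.mk' (Zx v)).subgroupComap N
    have hρ : Function.Surjective ρ := by
      rintro ⟨n, hn⟩
      obtain ⟨m, rfl⟩ := QuotientGroup.mk'_surjective (Zx v) n
      exact ⟨⟨m, hn⟩, rfl⟩
    have hρk : Nat.card ρ.ker ∣ 19 := by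
      have h1 : Nat.card ρ.ker ∣ Nat.card (Zx v) := by
        let j : ρ.ker →* Zx v :=
          { toFun := fun m => ⟨(m.1.1 : C), by
              have h2 := congrArg Subtype.val (MonoidHom.mem_ker.1 m.2)
              exact (QuotientGroup.eq_one_iff _).1 h2⟩
            map_one' := rfl
            map_mul' := fun _ _ => rfl }
        refine Subgroup.card_dvd_of_injective j fun a b hab => ?_
        have := congrArg Subtype.val hab
        exact Subtype.ext (Subtype.ext this)
      have h2 : Nat.card (Zx v) = 19 := by rw [Zx, Nat.card_zpowers, self, Subgroup.orderOf_mk, hv]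
      rwa [h2] at h1
    obtain ⟨S⟩ : Nonempty (Sylow 2 M) := inferInstance
    have hinj : Function.Injective (ρ.comp ((S : Subgroup M).subtype :)) := by
      rw [injective_iff_map_eq_one]
      intro a ha
      have h1 : orderOf (a : M) ∣ 19 := by
        refine dvd_trans ?_ hρk
        have h2 := _root_.orderOf_dvd_natCard (⟨(a : M), MonoidHom.mem_ker.2 ha⟩ : ρ.ker)
        rwa [Subgroup.orderOf_mk] at h2
      obtain ⟨i, hi⟩ := IsPGroup.iff_orderOf.1 S.isPGroup' a
      rw [← Subgroup.orderOf_coe] at hi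
      rw [hi] at h1
      have h3 : i = 0 := by
        rcases (Nat.dvd_prime h19).1 h1 with h2 | h2
        · rcases Nat.eq_zero_or_pos i with h4 | h4
          · exact h4
          · have := Nat.one_lt_pow h4.ne' (by norm_num : 1 < 2)
            omega
        · have h5 : 2 ∣ 19 ∨ i = 0 := by
            rcases Nat.eq_zero_or_pos i with h4 | h4
            · exact Or.inr h4
            · left; rw [← h2]; exact dvd_pow_self 2 h4.ne'
          rcases h5 with h5 | h5
          · omega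
          · exact h5
      rw [h3, pow_zero, orderOf_eq_one_iff] at hi
      exact Subtype.ext hi
    have hScard : 2 ^ k ∣ Nat.card S := by
      rw [S.card_eq_multiplicity]
      apply pow_dvd_pow
      apply (Nat.prime_two.pow_dvd_iff_le_factorization Nat.card_pos.ne').1
      rw [← hk]
      exact Subgroup.card_dvd_of_surjective ρ hρ
    have hk15 : k ≤ 15 := by
      have hr := D.rank ((((S : Subgroup M).map M.subtype).map C.subtype :)) ?_ ?_
      · rw [Subgroup.card_map_of_injective C.subtype_injective, Subgroup.card_map_of_injective M.subtype_injective] at hr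
        have h1 := Nat.le_of_dvd Nat.card_pos hScard
        exact (Nat.pow_le_pow_iff_right (by norm_num : 1 < 2)).1 (h1.trans hr)
      · have hSc : ∀ a b : (S : Subgroup M), a * b = b * a := by
          intro a b
          apply hinj
          rw [map_mul, map_mul]
          exact hcomm.is_comm.comm _ _
        refine ⟨⟨?_⟩⟩
        rintro ⟨_, ⟨_, ⟨a, ha, rfl⟩, rfl⟩⟩ ⟨_, ⟨_, ⟨b, hb, rfl⟩, rfl⟩⟩
        have h1 := congrArg (fun t : (S : Subgroup M) => (((t : M) : C) : G)) (hSc ⟨a, ha⟩ ⟨b, hb⟩)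
        exact Subtype.ext h1
      · rintro _ ⟨_, ⟨a, ha, rfl⟩, rfl⟩
        have h1 : (⟨a, ha⟩ : (S : Subgroup M)) ^ 2 = 1 := by
          apply hinj
          rw [map_pow, map_one]
          exact Subtype.ext (hexp _ (ρ a).2)
        exact congrArg (fun t : (S : Subgroup M) => (((t : M) : C) : G)) h1
    rw [hcc]
    rw [hcN, h60, hk] at hmod ⊢
    have hk0 : k = 0 := by
      by_contra hne
      interval_cases k <;> first | exact hne rfl | (revert hmod; decide)
    rw [hk0]
    norm_num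
  · -- `L₂(7)`
    exfalso
    have hfact : Fact (Nat.Prime 7) := ⟨by norm_num⟩
    have h := ClassicalGeometry.PSL2Basic.card_PSL2_odd (ZMod 7) (by rw [ZMod.card]; decide)
    rw [ZMod.card] at h
    have h168 : c = 168 := by rw [hc, Nat.card_congr e.toEquiv]; omega
    rw [h168] at h5c
    omega

end Cfsg.Agent.H328.Mon
end

-- part: H328/Mon/NineMod
section
/-!
# The elements of order 19 of the Monster (helper328)

`dat : Spor.IsoM T → Dat T`, `realP_thirteen`.
-/

set_option autoImplicit false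

namespace Cfsg.Agent.H328.Mon

open Cfsg Cfsg.Agent.LThreeMB Subgroup
open Cfsg.Agent.H453.OddM

universe u v

/-! ### the Thompson group -/

/-- an element of order 19 is conjugate to its square, if the automizer is everything -/
theorem exists_sq {G : Type*} [Group G] [Finite G] {w : G} (hw : orderOf w = 19)
    (hN : Nat.card (normalizer ((zpowers w : Subgroup G) : Set G)) = 19 * 18)
    (hC : Nat.card (centralizer ({w} : Set G)) = 19) : ∃ h : G, h * w * h⁻¹ = w ^ 2 := by
  set P : Subgroup G := zpowers w with hP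
  have hr : Nat.Prime 19 := by norm_num
  have hPc : Nat.card P = 19 := by rw [hP, Nat.card_zpowers, hw]
  have hCP : centralizer ({w} : Set G) = centralizer (P : Set G) := by
    rw [hP, zpowers_eq_closure, centralizer_closure]
  let φ : normalizer (P : Set G) →* MulAut P := P.normalizerMonoidHom
  have hker : Nat.card φ.ker = 19 := by
    rw [show φ.ker = _ from P.normalizerMonoidHom_ker, ← hC, hCP]
    exact Nat.card_congr (Subgroup.subgroupOfEquivOfLe (centralizer_le_normalizer _)).toEquiv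
  have hcard : Nat.card φ.range = 18 := by
    have h1 : Nat.card φ.ker * Nat.card φ.range = 19 * 18 := by
      rw [← hN, ← Subgroup.card_mul_index φ.ker, Subgroup.index_ker]
    rw [hker] at h1
    omega
  let f : φ.range → {x : P // x ≠ 1} := fun α => ⟨α.1 ⟨w, mem_zpowers w⟩, by
    intro h
    have h1 : (⟨w, mem_zpowers w⟩ : P) = 1 := by
      apply α.1.injective
      rw [h, map_one]
    have h2 : w = 1 := congrArg Subtype.val h1
    rw [h2, orderOf_one] at hw
    exact absurd hw (by norm_num)⟩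
  have hf : Function.Injective f := by
    rintro ⟨α, hα⟩ ⟨β, hβ⟩ h
    have h1 : α ⟨w, mem_zpowers w⟩ = β ⟨w, mem_zpowers w⟩ := congrArg Subtype.val h
    apply Subtype.ext
    apply MulEquiv.ext
    rintro ⟨x, hx⟩
    obtain ⟨k, rfl⟩ := mem_zpowers_iff.1 hx
    have h2 : (⟨w ^ k, hx⟩ : P) = ⟨w, mem_zpowers w⟩ ^ k := rfl
    show α _ = β _
    rw [h2, map_zpow, map_zpow, h1]
  have hc : Nat.card {x : P // x ≠ 1} = 18 := by
    classical
    have : Fintype P := Fintype.ofFinite P
    rw [Nat.card_eq_fintype_card, Fintype.card_subtype_compl, Fintype.card_subtype_eq, ← Nat.card_eq_fintype_card, hPc]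
  have hbij := hf.bijective_of_nat_card_le (by rw [hc, hcard])
  obtain ⟨⟨_, ⟨n, rfl⟩⟩, hn⟩ := hbij.2 ⟨⟨w ^ 2, npow_mem_zpowers w 2⟩, by
    intro h
    have h2 : w ^ 2 = 1 := congrArg Subtype.val h
    have h3 := orderOf_dvd_of_pow_eq_one h2
    rw [hw] at h3
    exact absurd h3 (by norm_num)⟩
  exact ⟨n, congrArg (fun x : {x : P // x ≠ 1} => ((x.1 : P) : G)) hn⟩

theorem card_th {X : Type*} [Group X] (h : Spor.IsoTh X) : Nat.card X = 90745943887872000 := by
  obtain ⟨e⟩ := h
  rw [Nat.card_congr e.toEquiv]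
  exact Cfsg.Agent.S1700.result.2

theorem th_facts {X : Type*} [Group X] (h : Spor.IsoTh X) : ∃ u k : X, orderOf u = 19 ∧
    Nat.card (centralizer ({u} : Set X)) = 19 ∧ k * u * k⁻¹ = u ^ 2 := by
  have hc := card_th h
  have : Finite X := Nat.finite_of_card_ne_zero (by rw [hc]; norm_num)
  have : Fact (Nat.Prime 19) := ⟨by norm_num⟩
  obtain ⟨e⟩ := h
  have hsc : H537.Cop.SC 19 X := H981.SCTh.sc_th.congr e
  obtain ⟨u, hu⟩ := exists_prime_orderOf_dvd_card' (G := X) 19 (by rw [hc]; norm_num)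
  have h1 := (H217.Odm.norm_of_cent (G := X) (r := 19) (n := 4776102309888000) (x := u) (c := 1) (e := 18) (by norm_num)
    (by rw [hc]) (by norm_num) hu (by rw [hsc u hu]) (by norm_num) (by norm_num)).1
  obtain ⟨k, hk⟩ := exists_sq hu h1 (hsc u hu)
  exact ⟨u, k, hu, hsc u hu, hk⟩

/-! ### the model -/

/-- the first field of `Dat` -/
def Three (G : Type u) [Group G] : Prop :=
  ∃ y v g : G, orderOf y = 3 ∧ orderOf v = 19 ∧ y * v = v * y ∧
    (∀ z, z * y = y * z → z * v = v * z → ∃ i j : ℤ, z = v ^ i * y ^ j) ∧ g * v * g⁻¹ = v ^ 2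

def Five (G : Type u) [Group G] : Prop :=
  ∃ f v : G, orderOf f = 5 ∧ orderOf v = 19 ∧ f * v = v * f ∧
    ∀ s, orderOf s = 2 → s * f = f * s → s * v ≠ v * s

theorem three_of {G : Type*} [Group G] {y : G} (hy : orderOf y = 3) (h : Spor.IsoTh (XX y)) : Three G := by
  obtain ⟨u, k, hu, hsc, hk⟩ := th_facts h
  have h19 : Nat.Prime 19 := by norm_num
  have hcop : (19 : ℕ).Coprime (orderOf y) := by rw [hy]; norm_num
  obtain ⟨v, hv, hvo, hvu⟩ := exists_lift h19 hcop hu
  obtain ⟨g, hg, hgk⟩ := exists_mk k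
  refine ⟨y, v, g, hy, hvo, hv.symm, ?_, ?_⟩
  · intro z hzy hzv
    have h1 : _root_.Cfsg.Agent.LThreeMB.mk y hzy ∈ centralizer ({u} : Set (XX y)) := by
      rw [mem_centralizer_singleton_iff, ← hvu]
      exact mk_comm hzy hv hzv
    have h2 : centralizer ({u} : Set (XX y)) = zpowers u := by
      symm
      have hfin : Finite (centralizer ({u} : Set (XX y))) := Nat.finite_of_card_ne_zero (by rw [hsc]; norm_num)
      apply Subgroup.eq_of_le_of_card_ge
      · rw [zpowers_le, mem_centralizer_singleton_iff]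
      · rw [hsc, Nat.card_zpowers, hu]
    rw [h2] at h1
    obtain ⟨i, hi⟩ := mem_zpowers_iff.1 h1
    have h3 : (v ^ i) * y = y * v ^ i := ((show Commute v y from hv).zpow_left i)
    have h4 : _root_.Cfsg.Agent.LThreeMB.mk y h3 = _root_.Cfsg.Agent.LThreeMB.mk y hzy := by
      rw [← hi, ← hvu]; rfl
    obtain ⟨j, hj⟩ := (mk_eq_mk h3 hzy).1 h4
    exact ⟨i, j, hj.symm⟩
  · have h1 : (g * v * g⁻¹) * y = y * (g * v * g⁻¹) := conj_comm hg hv
    have h2 : (v ^ 2) * y = y * v ^ 2 := ((show Commute v y from hv).pow_left 2)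
    have h3 : _root_.Cfsg.Agent.LThreeMB.mk y h1 = _root_.Cfsg.Agent.LThreeMB.mk y h2 := by
      have h4 : _root_.Cfsg.Agent.LThreeMB.mk y h1 = _root_.Cfsg.Agent.LThreeMB.mk y hg * _root_.Cfsg.Agent.LThreeMB.mk y hv * (_root_.Cfsg.Agent.LThreeMB.mk y hg)⁻¹ := rfl
      have h5 : _root_.Cfsg.Agent.LThreeMB.mk y h2 = (_root_.Cfsg.Agent.LThreeMB.mk y hv) ^ 2 := rfl
      rw [h4, h5, hvu, hgk, hk]
    obtain ⟨i, hi⟩ := (mk_eq_mk h1 h2).1 h3
    have hcy : Commute (g * v * g⁻¹) (y ^ i) := (show Commute (g * v * g⁻¹) y from h1).zpow_right i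
    have h6 : ((g * v * g⁻¹) * y ^ i) ^ 19 = 1 := by
      rw [hi, ← pow_mul, mul_comm, pow_mul, ← hvo, pow_orderOf_eq_one, one_pow]
    rw [hcy.mul_pow, conj_pow] at h6
    have h7 : v ^ 19 = 1 := by rw [← hvo, pow_orderOf_eq_one]
    rw [h7, mul_one, mul_inv_cancel, one_mul] at h6
    have h8 : orderOf (y ^ i) ∣ Nat.gcd 19 3 :=
      Nat.dvd_gcd (orderOf_dvd_of_pow_eq_one h6) (by rw [← hy]; exact orderOf_zpow_dvd' y i)
    rw [show Nat.gcd 19 3 = 1 by norm_num, Nat.dvd_one, orderOf_eq_one_iff] at h8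
    rw [← hi, h8, mul_one]

theorem five_of {G : Type*} [Group G] {f : G} (hf : orderOf f = 5) (h : Spor.IsoHN (XX f)) : Five G := by
  have hc := H573.Spor.Monster.card_HN h
  have hfin : Finite (XX f) := Nat.finite_of_card_ne_zero (by rw [hc]; norm_num)
  have h19 : Nat.Prime 19 := by norm_num
  have : Fact (Nat.Prime 19) := ⟨h19⟩
  have hcop : (19 : ℕ).Coprime (orderOf f) := by rw [hf]; norm_num
  obtain ⟨u, hu⟩ := exists_prime_orderOf_dvd_card' (G := XX f) 19 (by rw [hc]; norm_num)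
  obtain ⟨v, hv, hvo, hvu⟩ := exists_lift h19 hcop hu
  refine ⟨f, v, hf, hvo, hv.symm, ?_⟩
  intro s hs hsf hsv
  have h1 : orderOf (_root_.Cfsg.Agent.LThreeMB.mk f hsf) = 2 := orderOf_mk' Nat.prime_two hsf hs (by rw [hf]; norm_num)
  exact H393.Iso.na_hn h _ _ hu h1 (by rw [← hvu]; exact mk_comm hv hsf hsv.symm)

/-! ### transport -/

theorem Three.congr {G : Type u} {H : Type v} [Group G] [Group H] (e : G ≃* H) (h : Three H) : Three G := by
  obtain ⟨y, v, g, hy, hv, hyv, hz, hg⟩ := h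
  refine ⟨e.symm y, e.symm v, e.symm g, by rw [MulEquiv.orderOf_eq, hy], by rw [MulEquiv.orderOf_eq, hv],
    by rw [← map_mul, hyv, map_mul], ?_, by rw [← map_mul, ← map_inv, ← map_mul, hg, map_pow]⟩
  intro z hzy hzv
  have h1 := congrArg e hzy
  have h2 := congrArg e hzv
  simp only [map_mul, MulEquiv.apply_symm_apply] at h1 h2
  obtain ⟨i, j, hij⟩ := hz (e z) h1 h2
  refine ⟨i, j, ?_⟩
  rw [← map_zpow, ← map_zpow, ← map_mul, ← hij, e.symm_apply_apply]

theorem Five.congr {G : Type u} {H : Type v} [Group G] [Group H] (e : G ≃* H) (h : Five H) : Five G := by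
  obtain ⟨f, v, hf, hv, hfv, hs⟩ := h
  refine ⟨e.symm f, e.symm v, by rw [MulEquiv.orderOf_eq, hf], by rw [MulEquiv.orderOf_eq, hv],
    by rw [← map_mul, hfv, map_mul], ?_⟩
  intro s ho h1 h2
  have h3 := congrArg e h1
  have h4 := congrArg e h2
  simp only [map_mul, MulEquiv.apply_symm_apply] at h3 h4
  exact hs (e s) (by rw [MulEquiv.orderOf_eq, ho]) h3 h4

theorem card_centralizer_congr {G : Type u} {H : Type v} [Group G] [Group H] (e : G ≃* H) (y : H) :
    Nat.card (centralizer ({e.symm y} : Set G)) = Nat.card (centralizer ({y} : Set H)) := by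
  have h1 : centralizer ({y} : Set H) = (centralizer ({e.symm y} : Set G)).map e.toMonoidHom := by
    ext v
    rw [mem_centralizer_singleton_iff]
    constructor
    · intro hv
      refine ⟨e.symm v, ?_, by simp⟩
      rw [SetLike.mem_coe, mem_centralizer_singleton_iff, ← map_mul, hv, map_mul]
    · rintro ⟨u, hu, rfl⟩
      rw [SetLike.mem_coe, mem_centralizer_singleton_iff] at hu
      change e u * y = y * e u
      have h2 := congrArg e hu
      rw [map_mul, map_mul, e.apply_symm_apply] at h2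
      exact h2
  rw [h1, Subgroup.card_map_of_injective e.injective]

theorem rank_congr {G : Type u} {H : Type v} [Group G] [Group H] (e : G ≃* H) {p k : ℕ} (h : PRankLE p k H) :
    PRankLE p k G := by
  intro A hA ha
  have h1 := h (A.map e.toMonoidHom) ?_ ?_
  · rwa [Subgroup.card_map_of_injective e.injective] at h1
  · refine ⟨⟨?_⟩⟩
    rintro ⟨_, a, ha, rfl⟩ ⟨_, b, hb, rfl⟩
    have h2 : a * b = b * a := congrArg Subtype.val (hA.is_comm.comm ⟨a, ha⟩ ⟨b, hb⟩)
    apply Subtype.ext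
    show e a * e b = e b * e a
    rw [← map_mul, h2, map_mul]
  · rintro _ ⟨a, ha', rfl⟩
    show (e a) ^ p = 1
    rw [← map_pow, ha a ha', map_one]

/-! ### the four-group -/

theorem dvd_tE6 {F : Type} [Field F] [Fintype F] (hF : Fintype.card F = 4) : 19 ∣ Nat.card ↥(Cfsg.Lie.twistedE6 F 2) := by
  have h1 := Cfsg.Agent.S1066.result (K := F) (q := 2) Nat.prime_two.isPrimePow (by rw [hF]; norm_num)
  have e3 : Nat.gcd 3 (2 + 1) = 3 := by decide
  rw [e3] at h1
  have h2 : 19 ∣ 3 * Nat.card ↥(Cfsg.Lie.twistedE6 F 2) := by rw [h1]; norm_num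
  exact Nat.Coprime.dvd_of_dvd_mul_left (by norm_num) h2

theorem four : ∃ v : Spor.Monster, orderOf v = 19 ∧ 4 ∣ Nat.card (centralizer ({v} : Set Spor.Monster)) := by
  obtain ⟨E, N, K, hE, hN, hEK, ⟨F, _, _, hF, hn1, ⟨e⟩⟩, -, -⟩ := Cfsg.Agent.S5533.result
  have hcM : Nat.card Spor.Monster = 808017424794512875886459904961710757005754368000000000 :=
    NotCT.Orders.m ⟨MulEquiv.refl _⟩
  have : Finite Spor.Monster := Nat.finite_of_card_ne_zero (by rw [hcM]; norm_num)
  have : Fact (Nat.Prime 19) := ⟨by norm_num⟩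
  have h19 : 19 ∣ Nat.card N := by
    have h1 : 19 ∣ Nat.card K := by
      rw [Subgroup.card_eq_card_quotient_mul_card_subgroup ((E.subgroupOf N).subgroupOf K), Nat.card_congr e.toEquiv]
      exact (dvd_tE6 hF).mul_right _
    exact h1.trans (Subgroup.card_subgroup_dvd_card K)
  obtain ⟨v, hv⟩ := exists_prime_orderOf_dvd_card' (G := N) 19 h19
  have hE4 : Nat.card E = 4 := hE.card_four
  have hvN : (v : Spor.Monster) ∈ normalizer (E : Set Spor.Monster) := by rw [← hN]; exact v.2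
  have hvo : orderOf (v : Spor.Monster) = 19 := by rw [Subgroup.orderOf_coe, hv]
  refine ⟨v, hvo, ?_⟩
  rw [← hE4]
  apply Subgroup.card_dvd_of_le
  -- `v` acts trivially on `E`
  let ψ : normalizer (E : Set Spor.Monster) →* MulAut E := E.normalizerMonoidHom
  let τ : MulAut E →* Equiv.Perm E := MulAction.toPermHom (MulAut E) E
  have h1 : orderOf (τ (ψ ⟨v, hvN⟩)) ∣ 19 := by
    have h2 : orderOf (⟨v, hvN⟩ : normalizer (E : Set Spor.Monster)) = 19 := by rw [Subgroup.orderOf_mk, hvo]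
    rw [← h2]
    exact (orderOf_map_dvd (τ.comp ψ) _)
  have h3 : orderOf (τ (ψ ⟨v, hvN⟩)) ∣ 24 := by
    have h4 : Nat.card (Equiv.Perm E) = 24 := by
      classical
      have : Fintype E := Fintype.ofFinite E
      rw [Nat.card_eq_fintype_card, Fintype.card_perm, ← Nat.card_eq_fintype_card, hE4]
      rfl
    rw [← h4]
    exact _root_.orderOf_dvd_natCard _
  have h5 := Nat.dvd_gcd h1 h3
  rw [show Nat.gcd 19 24 = 1 by norm_num, Nat.dvd_one, orderOf_eq_one_iff] at h5
  intro x hx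
  rw [mem_centralizer_singleton_iff]
  have h6 : (τ (ψ ⟨v, hvN⟩)) ⟨x, hx⟩ = ⟨x, hx⟩ := by rw [h5]; rfl
  have h7 : (v : Spor.Monster) * x * (v : Spor.Monster)⁻¹ = x := congrArg Subtype.val h6
  exact (mul_inv_eq_iff_eq_mul.1 h7).symm

theorem dat {T : Type u} [Group T] (h : Spor.IsoM T) : Dat T := by
  have hc := NotCT.Orders.m h
  obtain ⟨e⟩ := h
  obtain ⟨f⟩ := Cfsg.Agent.MonsterP.Equiv.equiv
  obtain ⟨-, y, -, hy, -, -, hTh⟩ := H149.Sp.exists_seven_three
  obtain ⟨x, hx, hHN⟩ := H573.Spor.Monster.exists_five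
  refine ⟨hc, (three_of hy hTh).congr (e.trans f), (five_of hx hHN).congr (e.trans f), ?_,
    rank_congr e Cfsg.Agent.H332.MonUpper.monster_le⟩
  obtain ⟨v, hv, h4⟩ := four
  exact ⟨e.symm v, by rw [MulEquiv.orderOf_eq, hv], by rw [card_centralizer_congr]; exact h4⟩

theorem realP_thirteen {T : Type u} [Group T] (h : Spor.IsoM T) : RealP T 13 := by
  obtain ⟨e⟩ := h
  obtain ⟨f⟩ := Cfsg.Agent.MonsterP.Equiv.equiv
  obtain ⟨x, t, hx, -, ht⟩ := H181.MonMod.exists_dihedral
  have h1 : IsReal (x : H181.MonMod.Gm) := IsReal.coe ⟨t, ht⟩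
  exact ⟨(e.trans f).symm x, by rw [MulEquiv.orderOf_eq, Subgroup.orderOf_coe, hx], h1.map (e.trans f).symm.toMonoidHom⟩

end Cfsg.Agent.H328.Mon
end

-- part: H328/Mon/OdmRowM
section
/-!
# TEAM ODDM (S4785): the row of the Monster (helper328)

`r = 19`, `|C(v)| = 19 · 60`, `|N(⟨v⟩)| = 19 · 1080`; `s = 13`.
-/

set_option autoImplicit false

namespace Cfsg.Agent.H328.Mon.OdmRowM

open Cfsg Subgroup
open Cfsg.Agent.H453.OddM Cfsg.Agent.H217.Odm

universe u

theorem chk : chkTwoPart 808017424794512875886459904961710757005754368000000000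
    [(2, 46), (3, 20), (5, 9), (7, 6), (11, 2), (13, 3), (17, 1), (19, 1), (23, 1), (29, 1), (31, 1), (41, 1), (47, 1),
      (59, 1), (71, 1)] 19 1080 [13] = true := by decide +kernel

/-- the normalizer of an element of order 19 of the Monster; these elements are real -/
theorem nineteen (tab : Cfsg.Agent.OrdDiv.OrderTable.{u}) (known : Cfsg.Agent.H257.El.Known.{u}) {T : Type u}
    [Group T] (h : Cfsg.Spor.IsoM T) {v : T} (hv : orderOf v = 19) :
    Nat.card (centralizer ({v} : Set T)) = 19 * 60 ∧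
      Nat.card (normalizer ((zpowers v : Subgroup T) : Set T)) = 19 * 1080 ∧ IsReal v := by
  have hc := NotCT.Orders.m h
  have : Finite T := Nat.finite_of_card_ne_zero (by rw [hc]; norm_num)
  have h1 := card_cent_nineteen tab known (dat h) hv
  obtain ⟨h2, h3⟩ := norm_of_cent (G := T) (r := 19) (n := 42527232883921730309813679208511092473987072000000000) (x := v)
    (c := 60) (e := 18) (by norm_num) (by rw [hc]) (by norm_num) hv h1 (by norm_num) (by norm_num)
  exact ⟨h1, by rw [h2], h3 (by decide)⟩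

/-- **The row of the Monster.** -/
theorem row (tab : Cfsg.Agent.OrdDiv.OrderTable.{u}) (known : Cfsg.Agent.H257.El.Known.{u}) {T : Type u} [Group T]
    (h : Cfsg.Spor.IsoM T) : Cfsg.Agent.H453.OddM.Row T := by
  have hc := NotCT.Orders.m h
  have : Finite T := Nat.finite_of_card_ne_zero (by rw [hc]; norm_num)
  have : Fact (Nat.Prime 19) := ⟨by norm_num⟩
  obtain ⟨v, hv⟩ := exists_prime_orderOf_dvd_card' (G := T) 19 (by rw [hc]; norm_num)
  refine row_of_two tab known hc (by norm_num) ⟨v, hv, (nineteen tab known h hv).2.2⟩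
    (fun x hx => (nineteen tab known h hx).2.1) (fun s hs => ?_) chk
  rw [List.mem_singleton] at hs
  subst hs
  refine ⟨by norm_num, realP_thirteen h, fun z hz => ?_⟩
  have h1 : orderOf (z ^ 13) = 19 := by
    rw [orderOf_pow, hz]
    norm_num
  have h2 : z ∈ centralizer ({z ^ 13} : Set T) := by
    rw [mem_centralizer_singleton_iff, ← pow_succ, ← pow_succ']
  have h3 := _root_.orderOf_dvd_natCard (⟨z, h2⟩ : centralizer ({z ^ 13} : Set T))
  rw [Subgroup.orderOf_mk, hz, (nineteen tab known h h1).1] at h3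
  exact absurd h3 (by norm_num)

end Cfsg.Agent.H328.Mon.OdmRowM
end

private theorem dce_df7ebf2fc4b1 : _root_.True := by
  try have : _root_.True := by simp only [_root_.Cfsg.Agent.H269.LQ.fib.eq_1]
  try have : _root_.True := by simp only [_root_.Cfsg.Agent.LThreeMB.self.eq_1]
  try have : _root_.True := by simp only [_root_.Cfsg.Agent.H269.LQ.Cs.eq_1]
  try have : _root_.True := by simp only [_root_.Cfsg.Agent.H269.LQ.Fn.congr_simp]
  exact _root_.True.intro
end

-- part: H453/OddM/RowPSU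
section
set_option linter.all false
open scoped Cfsg.Agent.FastGrp

/-!
# S4785: the rows `PSU_n(q)`, `q` odd
-/

set_option autoImplicit false
open Cfsg

namespace Cfsg.Agent.H453.OddM

open Cfsg.Agent.OrdDiv Cfsg.Agent.H436

universe u

theorem mainU (n q : ℕ) (F : Type) [Field F] [Fintype F] : Un.MainU q n F := fun _ D =>
  Un.main_of D (fun _ _ _ _ hab hc hd ha hb => H976.OddM.UnC.good D hab hc hd ha hb)
    (fun hall _ _ _ hx hy hz hdet => H551.OddUnE.full D hall hx hy hz hdet)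

/-- **U-RES**: no subgroup of the residual class of `PSU_n(q)`, `n ≥ 3`, `q` odd, is `Cov` -/
theorem no_res_psu {F : Type} [Field F] [Fintype F] {n q : ℕ} (hF : Fintype.card F = q ^ 2)
    (h2 : (2 : F) ≠ 0) (hn : 3 ≤ n) {M : Subgroup (PSU n F q)} (hM : M ≠ ⊤) (hc : Cov (PSU n F q) M) :
    ¬ Geo.InUnitaryResidualClass (H251.GeoU.pre M) := by
  rintro ⟨P, hP, -⟩
  exact Un.res_psu hF h2 hn (mainU n q F) hM hc hP

/-- **`PSU_n(q)`, `n ≥ 4`, `q` odd** -/
theorem rowC_psu {F : Type} [Field F] [Fintype F] {n q : ℕ} (hF : Fintype.card F = q ^ 2)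
    (h2 : (2 : F) ≠ 0) (hn : 4 ≤ n) : RowC (PSU n F q) := fun _ hM hc =>
  no_res_psu hF h2 (by omega) hM.1 hc (H260.OddM.geoU_cov hF h2 hn
    (fun _ _ hv hk hkn h => realP_psu hF h2 hk hkn hv h) hM.1 hc)

/-- **The rows `PSU_n(q)`, `q` odd.** -/
theorem row_psu (n q : ℕ) (hq : ¬ 2 ∣ q) : RowN.{u} (.psu n q) := by
  intro T _ _ _ hT
  obtain ⟨F, _, _, hF, ⟨e⟩⟩ := hT.real
  obtain ⟨hn, h3, hpp⟩ := hT.cond
  rcases hn.eq_or_lt with rfl | hn4
  · exact H746.OddM.ThreeU.row_psu_three q hq T hT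
  have h2 : (2 : F) ≠ 0 := by
    intro h0
    apply hq
    have h4 := (CharP.cast_eq_zero_iff F (ringChar F) 2).1 (by exact_mod_cast h0)
    have h5 : ringChar F = 2 := by
      rcases (Nat.dvd_prime Nat.prime_two).1 h4 with h | h
      · exact absurd h (CharP.ringChar_ne_one)
      · exact h
    have h6 : (2 : ℕ) ∣ Fintype.card F := by
      have h7 : ((Fintype.card F : ℕ) : F) = 0 := FiniteField.cast_card_eq_zero F
      have h8 := (CharP.cast_eq_zero_iff F (ringChar F) _).1 h7
      rwa [h5] at h8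
    rw [hF] at h6
    exact Nat.prime_two.dvd_of_dvd_pow h6
  have hfin : Finite (PSU n F q) := Quotient.finite _
  exact Row8.congr e.symm (Row.row8 (RowC.row (rowC_psu hF h2 hn4)))

end Cfsg.Agent.H453.OddM
end

-- part: H217/Odm/AsmN
section
set_option linter.all false
open scoped Cfsg.Agent.FastGrp

-- part: H217/Odm/RowTits
section
/-!
# TEAM ODDM (S4785): the Tits group (helper897)

`r = 13` (self-centralizing, `|N| = 13 * 6`), `s = 5` (one class of elements of order `5`).
-/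

set_option autoImplicit false

namespace Cfsg.Agent.H217.OdmRowTits

open Cfsg Subgroup Cfsg.Agent.OrdDiv Cfsg.Agent.H453.OddM Cfsg.Agent.H217.Odm

universe u

/-- the normalizers of the subgroups of order `13`, and reality -/
theorem thirteen {T : Type u} [Group T] [Finite T] (h : Lie.IsoTits T) {x : T} (hx : orderOf x = 13) :
    Nat.card (normalizer ((zpowers x : Subgroup T) : Set T)) = 13 * 6 ∧ IsReal x := by
  have hs := H180.ElS.simple_tits h
  have h1 := norm_of_cent (G := T) (r := 13) (n := 1382400) (c := 1) (e := 6) (by norm_num)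
    (by rw [NotCT.Orders.tits h]) (by norm_num) hx
    (by rw [H547.SelfCent.tits h hs (H393.Iso.na_tits h) hx]) (by norm_num) (by norm_num)
  exact ⟨h1.1, h1.2 (by decide)⟩

/-- **the row of the Tits group** -/
theorem row (tab : OrderTable.{u}) (known : Cfsg.Agent.H257.El.Known.{u}) {T : Type u} [Group T]
    (h : Lie.IsoTits T) : Row T := by
  have hc := NotCT.Orders.tits h
  have : Finite T := Nat.finite_of_card_ne_zero (by rw [hc]; norm_num)
  have hs := H180.ElS.simple_tits h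
  have f13 : Fact (Nat.Prime 13) := ⟨by norm_num⟩
  have f5 : Fact (Nat.Prime 5) := ⟨by norm_num⟩
  obtain ⟨x, hx⟩ := exists_prime_orderOf_dvd_card' (G := T) 13 (by rw [hc]; norm_num)
  obtain ⟨y, hy⟩ := exists_prime_orderOf_dvd_card' (G := T) 5 (by rw [hc]; norm_num)
  refine row_of_two (n := 17971200) (l := [(2, 11), (3, 3), (5, 2), (13, 1)]) (r := 13) (nu := 6) (ss := [5])
    tab known hc f13.out ⟨x, hx, (thirteen h hx).2⟩ (fun x hx => (thirteen h hx).1) ?_ (by decide +kernel)
  intro s hs'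
  rw [List.mem_singleton] at hs'
  rw [hs']
  refine ⟨f5.out, ⟨y, hy, H800.Sp.TitsFive.oneClass h y y⁻¹ hy (by rw [orderOf_inv, hy])⟩, ?_⟩
  exact H180.ElS.noOrd_tits h hs f5.out (by norm_num)

end Cfsg.Agent.H217.OdmRowTits
end

-- part: H984/Odm/OdmRowJ1
section
/-!
# S4785: the row of `J₁` (helper984)
-/

set_option autoImplicit false

namespace Cfsg.Agent.H984.Odm.RowJ1

open Cfsg Cfsg.Agent.OrdDiv Cfsg.Agent.H257.El Cfsg.Agent.H453.OddM Cfsg.Agent.H217.Odm

universe u

theorem row (tab : Cfsg.Agent.OrdDiv.OrderTable.{u}) (known : Cfsg.Agent.H257.El.Known.{u}) {T : Type u} [Group T]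
    (h : Cfsg.Spor.IsoJ1 T) : Cfsg.Agent.H453.OddM.Row T := by
  have hc := NotCT.Orders.j1 h
  have : Finite T := Nat.finite_of_card_ne_zero (by rw [hc]; norm_num)
  obtain ⟨e⟩ := h
  obtain ⟨hs, hcJ⟩ := Cfsg.Agent.SporadicB.J1.Main.isJ1
  have : Finite Spor.J1 := Nat.finite_of_card_ne_zero (by rw [hcJ]; norm_num)
  have hreal : ∀ p : ℕ, p.Prime → p ∣ Nat.card T → RealP T p := by
    intro p hp hd
    have := Fact.mk hp
    obtain ⟨x, hx⟩ := exists_prime_orderOf_dvd_card' (G := T) p hd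
    refine ⟨x, hx, ?_⟩
    have h1 : IsReal (e x) := Cfsg.Agent.H1.J1Real.real (e x)
    have h2 := h1.map e.symm.toMonoidHom
    have h3 : e.symm.toMonoidHom (e x) = x := e.symm_apply_apply x
    rwa [h3] at h2
  refine row_of_empty (n := 175560) (l := [(2, 3), (3, 1), (5, 1), (7, 1), (11, 1), (19, 1)]) (r := 19) (ss := [11])
    tab known hc (by norm_num) (hreal 19 (by norm_num) (by rw [hc]; norm_num)) ?_ (by decide +kernel)
  intro s hs
  rw [List.mem_singleton] at hs
  subst hs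
  exact ⟨by norm_num, hreal 11 (by norm_num) (by rw [hc]; norm_num),
    noOrd_congr (by exact e) (noOrd_of_cent (by norm_num)
      (fun x hx => OddCyclic.EmpE.Kill.card_cent H413.JOneLocal.isLocal hcJ hx) (by norm_num) (by norm_num))⟩

end Cfsg.Agent.H984.Odm.RowJ1
end

-- part: H234/Odm/OdmRowJ4
section
/-!
# TEAM ODDM (S4785): the fourth Janko group (helper234, task 3118)
-/

set_option autoImplicit false

namespace Cfsg.Agent.H234.OdmJ4

open Cfsg Subgroup Cfsg.Agent.OrdDiv Cfsg.Agent.H278.El Cfsg.Agent.H453.OddM Cfsg.Agent.H217.Odm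

universe u

theorem row (tab : Cfsg.Agent.OrdDiv.OrderTable.{u}) (known : Cfsg.Agent.H257.El.Known.{u}) {T : Type u} [Group T]
    (h : Cfsg.Spor.IsoJ4 T) : Cfsg.Agent.H453.OddM.Row T := by
  have hc := NotCT.Orders.j4 h
  have hJ := H337.isOfJankoFourType_of_isoJ4 h
  obtain ⟨e⟩ := h
  have : Finite T := Nat.finite_of_card_ne_zero (by rw [hc]; norm_num)
  have hs : IsSimpleGroup T := e.isSimpleGroup_congr.2 Cfsg.Agent.S1703.result.1
  have hna : ¬ IsMulCommutative T := by
    intro hm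
    let _ : CommGroup T := { (inferInstance : Group T) with mul_comm := fun a b => hm.is_comm.comm a b }
    have h1 : (Nat.card T).Prime := IsSimpleGroup.prime_card
    rw [hc] at h1
    exact absurd h1 (by norm_num)
  have h43 := (S5577.result hna hJ).2.2.2.2
  have h37 := (S5577.result hna hJ).2.2.2.1
  have : Fact (Nat.Prime 43) := ⟨by norm_num⟩
  have : Fact (Nat.Prime 37) := ⟨by norm_num⟩
  have hc43 : ∀ x : T, orderOf x = 43 → Nat.card (centralizer ({x} : Set T)) = 43 := fun x hx =>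
    H257.El.Row.card_cent_of_sylow (by rw [hc]; norm_num) (by rw [hc]; norm_num) (fun U => (h43 U).1) hx
  have hc37 : ∀ x : T, orderOf x = 37 → Nat.card (centralizer ({x} : Set T)) = 37 := fun x hx =>
    H257.El.Row.card_cent_of_sylow (by rw [hc]; norm_num) (by rw [hc]; norm_num) (fun U => (h37 U).1) hx
  have r43 : RealP T 43 := by
    obtain ⟨x, hx⟩ := exists_prime_orderOf_dvd_card' (G := T) 43 (by rw [hc]; norm_num)
    exact ⟨x, hx, (norm_of_cent (r := 43) (n := 86775571046077562880 / 43) (c := 1) (e := 14) (by norm_num)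
      (by rw [hc]) (by norm_num) hx (by rw [hc43 x hx]) (by norm_num) (by norm_num)).2 (by decide)⟩
  have r37 : RealP T 37 := by
    obtain ⟨x, hx⟩ := exists_prime_orderOf_dvd_card' (G := T) 37 (by rw [hc]; norm_num)
    exact ⟨x, hx, (norm_of_cent (r := 37) (n := 86775571046077562880 / 37) (c := 1) (e := 12) (by norm_num)
      (by rw [hc]) (by norm_num) hx (by rw [hc37 x hx]) (by norm_num) (by norm_num)).2 (by decide)⟩
  refine row_of_empty (r := 43) (ss := [37])
    (l := [(2, 21), (3, 3), (5, 1), (7, 1), (11, 3), (23, 1), (29, 1), (31, 1), (37, 1), (43, 1)]) tab known hc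
    (by norm_num) r43 ?_ (by decide +kernel)
  intro s hs
  rw [List.mem_singleton] at hs
  subst hs
  exact ⟨by norm_num, r37, H257.El.noOrd_of_cent (by norm_num) hc43 (by norm_num) (by norm_num)⟩

end Cfsg.Agent.H234.OdmJ4
end

-- part: H461/OdmRowHS
section
/-!
# TEAM ODDM (S4785): the row of the Higman–Sims group (helper461)

`r = 7`, `|N(⟨x⟩)| = 42`; a real element of order 5 : a product of two involutions of `M22`, checked by the kernel.
-/

set_option autoImplicit false
set_option maxRecDepth 100000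

namespace Cfsg.Agent.H461.OdmRowHS

open Subgroup Cfsg Cfsg.Agent.SporadicA Cfsg.Agent.SporadicStructure.Co0Matrix Cfsg.Agent.CoOneType.CoEval
open Cfsg.Agent.LThreeCo1.Ev Cfsg.Agent.LThreeMB.Fix Cfsg.Agent.H573.Spor.Co0
open Cfsg.Agent.H453.OddM Cfsg.Agent.H217.Odm

universe u

def nS : ℕ := 0xc421084210842108421084210842108421084210842108421084210843108421084210842188421084210842108421884210842108421084210842108421084210842108431084210842108421086210842108421084210842108421084210842108421084218842108421084210842108621084210842108421084210c4210842108421084210842108421086210842108421084210842108421084210c4210842108421084310842108421084210842108421084210842108431084210842108421084210842188421084210842108421084210c4210842108421084210842108421084210842108421884210842108421084210842108421084210862108421084210842108421084310842108421084210842108421086210842108421084310842108421084210842108421084210842108421084210c421084210842108421084210c421084210862108421084210842108421084210842108421084210842108421084218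
def nT : ℕ := 0xc4210842108421084210842108421084210842188421084210842108421084210842108421084310842108421084210c4210842108421084210842108421884210842108421084210842108421086210842108421084210842108421084210862108421084210842108621084210842108421084210842108421084210c42108421084210842108421084310842108421084210842108421084210842108421084210c421084210842108421884210842108421084210842108421084210842108621084210842108421086210842108421084310842108421084210842108421084210842108421084210842108431084210842108421084210c421084210842108421084210842108621084210842108421084210842108421884210842108421084210842108431084210842108421084310842108421084210842108421084210c42108421084210842108421084210842188421084210842108421084210842108421084218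

theorem okS : okN nS = true := by exact Cfsg.Agent.CoOneType.CoQ.okz_of (by decide +kernel)
theorem okT : okN nT = true := by exact Cfsg.Agent.CoOneType.CoQ.okz_of (by decide +kernel)

def gS : Co0 := _root_.Cfsg.Agent.SporadicStructure.Co0Matrix.mk (ok_of_okN okS)
theorem repS : _root_.Cfsg.Agent.CoOneType.CoEval.Rep gS (dec nS) := rep_mk _
def gT : Co0 := _root_.Cfsg.Agent.SporadicStructure.Co0Matrix.mk (ok_of_okN okT)
theorem repT : _root_.Cfsg.Agent.CoOneType.CoEval.Rep gT (dec nT) := rep_mk _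

/-- the elements -/
def e : ℕ → Co0
  | 0 => gS
  | _ => gT

/-- their matrices -/
def Ms : ℕ → List (List ℤ)
  | 0 => dec nS
  | _ => dec nT

theorem hM : ∀ i, _root_.Cfsg.Agent.CoOneType.CoEval.Rep (e i) (Ms i)
  | 0 => repS
  | _ + 1 => repT

theorem s_sq : gS ^ 2 = 1 := by
  have h := eq_of_eqB hM (w := [0, 0]) (w' := []) (by (delta Cfsg.Agent.LThreeCo1.Ev.eqB; rewrite [Cfsg.Agent.CoOneType.CoW.of_eq Cfsg.Agent.LThreeCo1.Ev.foldZ_eq]; decide +kernel))
  simpa only [e, pow_succ, mul_assoc, _root_.pow_zero, _root_.one_mul, _root_.List.map_cons, _root_.List.map_nil, _root_.List.prod_cons, _root_.List.prod_nil, _root_.mul_one] using h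
theorem t_sq : gT ^ 2 = 1 := by
  have h := eq_of_eqB hM (w := [1, 1]) (w' := []) (by (delta Cfsg.Agent.LThreeCo1.Ev.eqB; rewrite [Cfsg.Agent.CoOneType.CoW.of_eq Cfsg.Agent.LThreeCo1.Ev.foldZ_eq]; decide +kernel))
  simpa only [e, pow_succ, mul_assoc, _root_.pow_zero, _root_.one_mul, _root_.List.map_cons, _root_.List.map_nil, _root_.List.prod_cons, _root_.List.prod_nil, _root_.mul_one] using h
theorem st_pow : (gS * gT) ^ 5 = 1 := by
  have h := eq_of_eqB hM (w := [0, 1, 0, 1, 0, 1, 0, 1, 0, 1]) (w' := []) (by (delta Cfsg.Agent.LThreeCo1.Ev.eqB; rewrite [Cfsg.Agent.CoOneType.CoW.of_eq Cfsg.Agent.LThreeCo1.Ev.foldZ_eq]; decide +kernel))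
  simpa only [e, pow_succ, mul_assoc, _root_.pow_zero, _root_.one_mul, _root_.List.map_cons, _root_.List.map_nil, _root_.List.prod_cons, _root_.List.prod_nil, _root_.mul_one] using h
theorem st_ne : gS * gT ≠ 1 := by
  have h := ne_of_neB' hM (w := [0, 1]) (w' := []) (by (delta Cfsg.Agent.LThreeCo1.Ev.neB'; rewrite [Cfsg.Agent.CoOneType.CoW.of_eq Cfsg.Agent.LThreeCo1.Ev.foldZ_eq]; decide +kernel))
  simpa only [e, pow_succ, mul_assoc, _root_.ne_eq, _root_.List.map_cons, _root_.List.map_nil, _root_.List.prod_cons, _root_.List.prod_nil, _root_.mul_one] using h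

theorem memS : gS.1 ∈ Spor.HS := mem_HS repS (by (rewrite [Cfsg.Agent.CoOneType.CoAp.ap_F]; decide +kernel)) (by (rewrite [Cfsg.Agent.CoOneType.CoAp.ap_F]; decide +kernel))
theorem memT : gT.1 ∈ Spor.HS := mem_HS repT (by (rewrite [Cfsg.Agent.CoOneType.CoAp.ap_F]; decide +kernel)) (by (rewrite [Cfsg.Agent.CoOneType.CoAp.ap_F]; decide +kernel))

/-- a real element of order 5 -/
theorem realP_five : RealP Spor.HS 5 := by
  have hX : Spor.HS ≤ Co0 := fun _ h => h.1.1
  have inj : Function.Injective (Subgroup.inclusion hX) := Subgroup.inclusion_injective hX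
  have hs : (⟨gS.1, memS⟩ : Spor.HS) ^ 2 = 1 := inj (by rw [map_pow, map_one]; exact s_sq)
  have ht : (⟨gT.1, memT⟩ : Spor.HS) ^ 2 = 1 := inj (by rw [map_pow, map_one]; exact t_sq)
  refine ⟨(⟨gS.1, memS⟩ : Spor.HS) * ⟨gT.1, memT⟩, ?_, IsReal.of_mul hs ht⟩
  have h5 : Fact (Nat.Prime 5) := ⟨by norm_num⟩
  refine orderOf_eq_prime (inj ?_) fun hcon => st_ne ?_
  · rw [map_pow, map_mul, map_one]; exact st_pow
  · have h1 := congrArg (Subgroup.inclusion hX) hcon
    rw [map_mul, map_one] at h1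
    exact h1

/-- **The row of `HS`.** -/
theorem row (tab : Cfsg.Agent.OrdDiv.OrderTable.{u}) (known : Cfsg.Agent.H257.El.Known.{u}) {T : Type u} [Group T]
    (h : Cfsg.Spor.IsoHS T) : Cfsg.Agent.H453.OddM.Row T := by
  have hc := NotCT.Orders.hs h
  have : Finite T := Nat.finite_of_card_ne_zero (by rw [hc]; norm_num)
  have h7 : Fact (Nat.Prime 7) := ⟨by norm_num⟩
  have hcent : ∀ x : T, orderOf x = 7 → Nat.card (centralizer ({x} : Set T)) = 7 := fun x hx =>
    (H846.PB.hs_seven h hx).1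
  have hreal : RealP T 7 := by
    obtain ⟨x, hx⟩ := exists_prime_orderOf_dvd_card' (G := T) 7 (by rw [hc]; norm_num)
    exact ⟨x, hx, isConj_iff.1 (H846.PB.hs_seven h hx).2⟩
  have hno : ∀ z : T, orderOf z ≠ 7 * 5 :=
    H257.El.noOrd_of_cent (by norm_num) hcent (by norm_num) (by norm_num)
  have h5 : RealP T 5 := by
    obtain ⟨f⟩ := h
    obtain ⟨x, hx, hr⟩ := realP_five
    exact ⟨f.symm x, by rw [MulEquiv.orderOf_eq, hx], hr.symm_map f⟩
  refine row_of_two tab known (l := [(2, 9), (3, 2), (5, 3), (7, 1), (11, 1)]) (r := 7) (nu := 6) (ss := [5]) hc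
    (by norm_num) hreal (fun x hx => ?_) (fun s hs => ?_) (by decide +kernel)
  · exact (H846.PB.hs_seven' h (zpowers x) (by rw [Nat.card_zpowers, hx])).2
  · obtain rfl : s = 5 := by simpa using hs
    exact ⟨by norm_num, h5, hno⟩

end Cfsg.Agent.H461.OdmRowHS
end

-- part: H311/OdmRowSuz
section
/-!
# S4785 (TEAM ODDM): the row of `Suz` (helper311)
-/

set_option autoImplicit false

namespace Cfsg.Agent.H311.OdmRowSuz

open Cfsg Subgroup
open Cfsg.Agent.H453.OddM Cfsg.Agent.H217.Odm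

universe u

theorem row (tab : Cfsg.Agent.OrdDiv.OrderTable.{u}) (known : Cfsg.Agent.H257.El.Known.{u}) {T : Type u}
    [Group T] (h : Cfsg.Spor.IsoSuz T) : Cfsg.Agent.H453.OddM.Row T := by
  have hc := NotCT.Orders.suz h
  have hfin : Finite T := Nat.finite_of_card_ne_zero (by rw [hc]; norm_num)
  obtain ⟨e⟩ := h
  have h13 : Nat.card T = 13 * 34488115200 := by rw [hc]
  have h11 : Nat.card T = 11 * 40758681600 := by rw [hc]
  obtain ⟨x, hx, hcx⟩ := Cfsg.Agent.H474.Suz13.suz_thirteen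
  obtain ⟨y, hy, hcy⟩ := Cfsg.Agent.H348.PPD.RowSuz.cent11
  have cx : ∀ z : T, orderOf z = 13 → Nat.card (centralizer ({z} : Set T)) = 13 * 1 := by
    intro z hz
    rw [OdmTools.card_cent_eq (x := e.symm x) (by norm_num) h13 (by norm_num) (by rw [MulEquiv.orderOf_eq, hx]) hz,
      OdmTools.card_cent_map, hcx]
  have cy : ∀ z : T, orderOf z = 11 → Nat.card (centralizer ({z} : Set T)) = 11 * 1 := by
    intro z hz
    rw [OdmTools.card_cent_eq (x := e.symm y) (by norm_num) h11 (by norm_num) (by rw [MulEquiv.orderOf_eq, hy]) hz,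
      OdmTools.card_cent_map, hcy]
  have N13 : ∀ z : T, orderOf z = 13 → _ := fun z hz =>
    norm_of_cent (e := 6) (by norm_num) h13 (by norm_num) hz (cx z hz) (by norm_num) (by norm_num)
  have N11 : ∀ z : T, orderOf z = 11 → _ := fun z hz =>
    norm_of_cent (e := 10) (by norm_num) h11 (by norm_num) hz (cy z hz) (by norm_num) (by norm_num)
  refine row_of_two (n := 448345497600) (l := [(2, 13), (3, 7), (5, 2), (7, 1), (11, 1), (13, 1)]) (r := 13)
    (nu := 6) (ss := [11]) tab known hc (by norm_num) ?_ ?_ ?_ (by decide +kernel)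
  · have ho : orderOf (e.symm x) = 13 := by rw [MulEquiv.orderOf_eq, hx]
    exact ⟨e.symm x, ho, (N13 _ ho).2 (by decide)⟩
  · intro z hz
    exact (N13 z hz).1
  · intro s hs
    simp only [List.mem_singleton] at hs
    subst hs
    refine ⟨by norm_num, ?_, OdmTools.no_mul (by norm_num) (by norm_num) fun z hz => by rw [cx z hz]; norm_num⟩
    have ho : orderOf (e.symm y) = 11 := by rw [MulEquiv.orderOf_eq, hy]
    exact ⟨e.symm y, ho, (N11 _ ho).2 (by decide)⟩

end Cfsg.Agent.H311.OdmRowSuz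
end

-- part: H623/OdmRowON
section
/-!
# TEAM ODDM (S4785), the O'Nan group (helper623)

The elements of order 19 and 11 are self-centralizing and real (`|N(⟨x⟩)| = 19 * 6`, `11 * 10`).
-/

set_option autoImplicit false

namespace Cfsg.Agent.H623.OdmRowON

open Subgroup
open Cfsg.Agent.H453.OddM
open Cfsg.Agent.H217.Odm

universe u

theorem card_cent_congr {G H : Type*} [Group G] [Group H] (e : G ≃* H) (x : G) :
    Nat.card (centralizer ({x} : Set G)) = Nat.card (centralizer ({e x} : Set H)) := by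
  refine Nat.card_congr ⟨fun a => ⟨e a, ?_⟩, fun a => ⟨e.symm a, ?_⟩, fun a => ?_, fun a => ?_⟩
  · rw [mem_centralizer_singleton_iff, ← map_mul, mem_centralizer_singleton_iff.1 a.2, map_mul]
  · rw [mem_centralizer_singleton_iff]
    apply e.injective
    rw [map_mul, map_mul, e.apply_symm_apply]
    exact mem_centralizer_singleton_iff.1 a.2
  · exact Subtype.ext (e.symm_apply_apply _)
  · exact Subtype.ext (e.apply_symm_apply _)

/-- **row `O'N`** -/
theorem row (tab : Cfsg.Agent.OrdDiv.OrderTable.{u}) (known : Cfsg.Agent.H257.El.Known.{u}) {T : Type u} [Group T]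
    (h : Cfsg.Spor.IsoON T) : Cfsg.Agent.H453.OddM.Row T := by
  have hc := NotCT.Orders.on h
  have : Finite T := Nat.finite_of_card_ne_zero (by rw [hc]; norm_num)
  obtain ⟨e⟩ := h
  have c19 : ∀ x : T, orderOf x = 19 → Nat.card (centralizer ({x} : Set T)) = 19 := fun x hx => by
    rw [card_cent_congr e, H210.On7.card_cent_nineteen (by rw [MulEquiv.orderOf_eq, hx])]
  have c11 : ∀ x : T, orderOf x = 11 → Nat.card (centralizer ({x} : Set T)) = 11 := fun x hx => by
    rw [card_cent_congr e, H474.ONC.card_cent_eleven (by rw [MulEquiv.orderOf_eq, hx])]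
  have n19 : ∀ x : T, orderOf x = 19 →
      Nat.card (normalizer ((zpowers x : Subgroup T) : Set T)) = 19 * (1 * 6) ∧ (Even 6 → IsReal x) := fun x hx =>
    norm_of_cent (n := 24253447680) (by norm_num) (by rw [hc]) (by norm_num) hx (by rw [c19 x hx]) (by norm_num)
      (by norm_num)
  have n11 : ∀ x : T, orderOf x = 11 →
      Nat.card (normalizer ((zpowers x : Subgroup T) : Set T)) = 11 * (1 * 10) ∧ (Even 10 → IsReal x) := fun x hx =>
    norm_of_cent (n := 41892318720) (by norm_num) (by rw [hc]) (by norm_num) hx (by rw [c11 x hx]) (by norm_num)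
      (by norm_num)
  have r19 : RealP T 19 := by
    have : Fact (Nat.Prime 19) := ⟨by norm_num⟩
    obtain ⟨x, hx⟩ := exists_prime_orderOf_dvd_card' (G := T) 19 (by rw [hc]; norm_num)
    exact ⟨x, hx, (n19 x hx).2 (by decide)⟩
  have r11 : RealP T 11 := by
    have : Fact (Nat.Prime 11) := ⟨by norm_num⟩
    obtain ⟨x, hx⟩ := exists_prime_orderOf_dvd_card' (G := T) 11 (by rw [hc]; norm_num)
    exact ⟨x, hx, (n11 x hx).2 (by decide)⟩
  refine row_of_two (n := 460815505920) (l := [(2, 9), (3, 4), (5, 1), (7, 3), (11, 1), (19, 1), (31, 1)]) (r := 19)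
    (nu := 6) (ss := [11]) tab known hc (by norm_num) r19 (fun x hx => (n19 x hx).1) ?_ (by decide +kernel)
  intro s hs
  rw [List.mem_singleton] at hs
  subst hs
  exact ⟨by norm_num, r11, fun z => H257.El.noOrd_of_cent (by norm_num) c19 (by norm_num) (by norm_num) z⟩

end Cfsg.Agent.H623.OdmRowON
end

-- part: H87/Odm/RowLy
section
/-!
# TEAM ODDM (S4785), the row of the Lyons group (helper87)

The elements of orders 67 and 37 are self-centralizing and real.
-/

set_option autoImplicit false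

namespace Cfsg.Agent.H87.OdmRowLy

open Subgroup
open Cfsg.Agent.H453.OddM
open Cfsg.Agent.H217.Odm

universe u

theorem row (tab : Cfsg.Agent.OrdDiv.OrderTable.{u}) (known : Cfsg.Agent.H257.El.Known.{u}) {T : Type u} [Group T]
    (h : Cfsg.Spor.IsoLy T) : Cfsg.Agent.H453.OddM.Row T := by
  have hcard : Nat.card T = 51765179004000000 := NotCT.Orders.ly h
  have hfin : Finite T := Nat.finite_of_card_ne_zero (by rw [hcard]; norm_num)
  have h67 : Nat.Prime 67 := by norm_num
  have h37 : Nat.Prime 37 := by norm_num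
  have c67 : ∀ x : T, orderOf x = 67 → Nat.card (centralizer ({x} : Set T)) = 67 := fun x hx =>
    H655.LySixtySeven.card_centralizer known h hx
  have c37 : ∀ x : T, orderOf x = 37 → Nat.card (centralizer ({x} : Set T)) = 37 := fun x hx =>
    H215.CC.LyThirtySeven.card_centralizer known h hx
  have r67 : RealP T 67 := by
    have hf : Fact (Nat.Prime 67) := ⟨h67⟩
    obtain ⟨x, hx⟩ := exists_prime_orderOf_dvd_card' (G := T) 67 (by rw [hcard]; norm_num)
    exact ⟨x, hx, (norm_of_cent (r := 67) (n := 772614612000000) (c := 1) (e := 22) h67 (by rw [hcard]) (by norm_num) hx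
      (by rw [c67 x hx]) (by norm_num) (by norm_num)).2 (by decide)⟩
  have r37 : RealP T 37 := by
    have hf : Fact (Nat.Prime 37) := ⟨h37⟩
    obtain ⟨x, hx⟩ := exists_prime_orderOf_dvd_card' (G := T) 37 (by rw [hcard]; norm_num)
    exact ⟨x, hx, (norm_of_cent (r := 37) (n := 1399058892000000) (c := 1) (e := 18) h37 (by rw [hcard]) (by norm_num) hx
      (by rw [c37 x hx]) (by norm_num) (by norm_num)).2 (by decide)⟩
  refine row_of_empty (n := 51765179004000000)
    (l := [(2, 8), (3, 7), (5, 6), (7, 1), (11, 1), (31, 1), (37, 1), (67, 1)]) (r := 67) (ss := [37]) tab known hcard h67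
    r67 ?_ (by decide +kernel)
  intro s hs
  rw [List.mem_singleton] at hs
  subst hs
  refine ⟨h37, r37, fun z hz => ?_⟩
  have h1 : orderOf (z ^ 37) = 67 := by
    rw [orderOf_pow, hz]
    norm_num
  have h2 := c67 _ h1
  have h3 : z ∈ centralizer ({z ^ 37} : Set T) := by
    rw [mem_centralizer_singleton_iff]
    exact ((Commute.refl z).pow_right 37).eq
  have h4 := Subgroup.orderOf_dvd_natCard _ h3
  rw [h2, hz] at h4
  exact absurd h4 (by norm_num)

end Cfsg.Agent.H87.OdmRowLy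
end

-- part: H293/Odm/OdmRowFi23
section
/-!
# TEAM ODDM (S4785): `Fi23` (helper293)

`r = 17`, `|N(⟨x⟩)| = 17 · 16`, `s = 7` (a product of two involutions of the parabolic subgroup `S₇` on the nodes
`a, b, c, d, h, i`).
-/

set_option autoImplicit false
set_option maxRecDepth 100000

universe u

namespace Cfsg.Agent.H293.Odm

open Cfsg Subgroup Cfsg.Agent.OrdDiv Cfsg.Agent.H453.OddM Cfsg.Agent.H217.Odm
open Cfsg.Agent.LThreeFi23 Cfsg.Agent.Lib.PermNet
open Cfsg.Spor (Fi23)


/-- `(a c h)(b d i)` -/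
def v7 : List Lt := [.a, .c, .h, .b, .d, .i]

theorem chk_v7 : checkEq 15 (ntw (wrep v7 7)) [] = true := by decide +kernel
theorem chk_s : checkEq 15 (ntw (wrep [.a, .c, .h] 2)) [] = true := by decide +kernel
theorem chk_t : checkEq 15 (ntw (wrep [.b, .d, .i] 2)) [] = true := by decide +kernel

theorem pow_of_chk {y : List Lt} {m : ℕ} (h : checkEq 15 (ntw (wrep y m)) [] = true) : elw y ^ m = 1 := by
  rw [← elw_wrep, elw_eq_of_checkEq (l' := []) h, elw_nil]

theorem v7_ne : elw v7 ≠ 1 := ne_one_of_pt (p := 7) (by decide +kernel)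

theorem real_seven : RealP Fi23 7 := by
  have : Fact (Nat.Prime 7) := ⟨by norm_num⟩
  refine ⟨elw v7, orderOf_eq_prime (pow_of_chk chk_v7) v7_ne, ?_⟩
  have h1 : elw v7 = elw [.a, .c, .h] * elw [.b, .d, .i] := by rw [← elw_append]; rfl
  rw [h1]
  exact IsReal.of_mul (pow_of_chk chk_s) (pow_of_chk chk_t)

theorem realP_congr {T S : Type*} [Group T] [Group S] (e : T ≃* S) {v : ℕ} (h : RealP T v) : RealP S v := by
  obtain ⟨x, hx, hr⟩ := h
  exact ⟨e x, by rw [MulEquiv.orderOf_eq, hx], hr.map e.toMonoidHom⟩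

theorem row_fi23 (tab : OrderTable.{u}) (known : H257.El.Known.{u}) {T : Type u} [Group T] (h : Spor.IsoFi23 T) : Row T := by
  have hc := NotCT.Orders.fi23 h
  have : Finite T := Nat.finite_of_card_ne_zero (by rw [hc]; norm_num)
  obtain ⟨e⟩ := h
  have hsc : ∀ x : T, orderOf x = 17 → H839.Fi23.SC (17 * 16) (zpowers x) := fun x hx =>
    H839.Fi23.SC.map_all e.symm H839.Fi23.seventeen_main (zpowers x) (by rw [Nat.card_zpowers, hx])
  have hcent : ∀ x : T, orderOf x = 17 → Nat.card (centralizer ({x} : Set T)) = 17 := by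
    intro x hx
    obtain ⟨-, h2⟩ := hsc x hx
    rw [H729.PairBase.centralizer_zpowers_eq] at h2
    rw [h2, Nat.card_zpowers, hx]
  refine row_of_two (n := 4089470473293004800) (r := 17) (nu := 16) (ss := [7])
    (l := [(2, 18), (3, 13), (5, 2), (7, 1), (11, 1), (13, 1), (17, 1), (23, 1)]) tab known hc (by norm_num) ?_
    (fun x hx => (hsc x hx).1) ?_ (by decide +kernel)
  · have : Fact (Nat.Prime 17) := ⟨by norm_num⟩
    obtain ⟨x, hx⟩ := exists_prime_orderOf_dvd_card' (G := T) 17 (by rw [hc]; norm_num)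
    refine ⟨x, hx, ?_⟩
    have h1 := norm_of_cent (G := T) (r := 17) (n := 4089470473293004800 / 17) (c := 1) (e := 16) (by norm_num)
      (by rw [hc]) (by norm_num) hx (by rw [hcent x hx]) (by norm_num) (by norm_num)
    exact h1.2 (by decide)
  · intro s hs
    rw [List.mem_singleton] at hs
    subst hs
    refine ⟨by norm_num, realP_congr e.symm real_seven, ?_⟩
    exact H257.El.noOrd_of_cent (by norm_num) hcent (by norm_num) (by norm_num)

end Cfsg.Agent.H293.Odm

namespace Cfsg.Agent.H293.OdmRowFi23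

theorem row (tab : Cfsg.Agent.OrdDiv.OrderTable.{u}) (known : Cfsg.Agent.H257.El.Known.{u}) {T : Type u} [Group T]
    (h : Cfsg.Spor.IsoFi23 T) : Cfsg.Agent.H453.OddM.Row T := Cfsg.Agent.H293.Odm.row_fi23 tab known h

end Cfsg.Agent.H293.OdmRowFi23
end

-- part: H322/Odm/OdmRowB
section
/-!
# S4785: the row of the Baby Monster (helper322, task 3130)

`r = 19`: the base check puts `7` into the simple group at the top, non-adjacency of `7` and `13` the prime `13`; the
survivors of order divisible by `7`, `13`, `19` have a wrong `2`-part, as `32` does not divide `|N(⟨x⟩)|`, `x` of order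
19.
-/

set_option autoImplicit false
set_option maxRecDepth 100000

open Subgroup

namespace Cfsg.Agent.H322.Odm

open Cfsg Cfsg.Agent.OrdDiv Cfsg.Agent.H453.OddM Cfsg.Agent.H257.El Cfsg.Agent.H217.Odm

universe u

/-- the order of the Baby Monster -/
abbrev nB : ℕ := 4154781481226426191177580544000000

/-- its prime factors -/
abbrev lB : List (ℕ × ℕ) :=
  [(2, 41), (3, 13), (5, 6), (7, 2), (11, 1), (13, 1), (17, 1), (19, 1), (23, 1), (31, 1), (47, 1)]

theorem chkB : chkBase nB lB 19 [7] = true := by decide +kernel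

theorem chkSB : chkS nB lB 19 4 [7, 13] = true := by decide +kernel

theorem nB_lt : nB < 2 ^ 300 :=
  (show nB < 2 ^ 200 by norm_num).trans_le (Nat.pow_le_pow_right (by norm_num) (by norm_num))

theorem card_norm_congr {G H : Type*} [Group G] [Group H] (e : G ≃* H) (x : G) :
    Nat.card (normalizer ((zpowers x : Subgroup G) : Set G)) =
      Nat.card (normalizer ((zpowers (e x) : Subgroup H) : Set H)) := by
  have h1 : zpowers (e x) = (zpowers x).map e.toMonoidHom := (MonoidHom.map_zpowers e.toMonoidHom x).symm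
  rw [h1, ← Subgroup.map_equiv_normalizer_eq, Subgroup.card_map_of_injective e.injective]

theorem real_congr {G H : Type*} [Group G] [Group H] (f : G →* H) (hf : Function.Injective f) {v : ℕ}
    (h : RealP G v) : RealP H v := by
  obtain ⟨x, hx, hr⟩ := h
  exact ⟨f x, by rw [orderOf_injective f hf, hx], hr.map f⟩

theorem real13 : RealP Spor.BabyMonster 13 := by
  obtain ⟨⟨x, hx⟩, hc, -⟩ := H648.Loc.b_main
  obtain ⟨g, hg⟩ := isConj_iff.1 (hc x x⁻¹ hx (by rw [orderOf_inv, hx]))
  exact ⟨x, hx, g, hg⟩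

theorem real19 : RealP Spor.BabyMonster 19 := by
  obtain ⟨S, ⟨e⟩⟩ := H800.Sp.B.exists_th_B
  have h1 : H729.RealTh.ev H729.RealTh.v1 ^ 2 = 1 := by
    rw [pow_two]; exact H729.RealTh.ev_eq_one H729.RealTh.v1_sq
  have h2 : H729.RealTh.ev H729.RealTh.v2 ^ 2 = 1 := by
    rw [pow_two]; exact H729.RealTh.ev_eq_one H729.RealTh.v2_sq
  have h3 : orderOf (H729.RealTh.ev H729.RealTh.v1 * H729.RealTh.ev H729.RealTh.v2) = 19 :=
    (Cfsg.Agent.Th.Simple19.order19 Cfsg.Agent.Th.Main1700.rho_injective H729.RealTh.v_19 H729.RealTh.v_ne :)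
  have h4 : RealP Spor.Th 19 := ⟨_, h3, IsReal.of_mul h1 h2⟩
  exact real_congr (S.subtype.comp e.symm.toMonoidHom) (S.subtype_injective.comp e.symm.injective) h4

theorem real7 : RealP Spor.BabyMonster 7 := by
  obtain ⟨x, g, hx, hg⟩ := H800.Sp.B.hasReal (G := Spor.BabyMonster) ⟨MulEquiv.refl _⟩
  exact ⟨x, hx, g, hg⟩

/-- **The row of the Baby Monster** -/
theorem row (tab : Cfsg.Agent.OrdDiv.OrderTable.{u}) (known : Cfsg.Agent.H257.El.Known.{u}) {T : Type u} [Group T]
    (h : Cfsg.Spor.IsoB T) : Cfsg.Agent.H453.OddM.Row T := by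
  have hc := NotCT.Orders.b h
  have : Finite T := Nat.finite_of_card_ne_zero (by rw [hc]; norm_num)
  have hno : ∀ q ∈ [11, 13, 19, 23, 31, 47], q.Prime → ∀ z : T, orderOf z ≠ q * 7 := fun q hq hqp =>
    noOrd_of_noComm hqp (by norm_num) fun x y hx hy hxy => H979.OddB.nadj7 h hq hy hx hxy.symm
  obtain ⟨e⟩ := h
  have hr : ∀ v, RealP Spor.BabyMonster v → RealP T v := fun v =>
    real_congr e.symm.toMonoidHom e.symm.injective
  refine row_of_bound (r := 19) (s₁ := 7) (s₂ := 13) (k := 4) (l := lB) tab known (n := nB) hc nB_lt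
    (by norm_num) (by norm_num) (hr _ real19) (fun x hx => ?_) (by norm_num) (hr _ real7)
    (hno 19 (by simp) (by norm_num)) (by norm_num) (hr _ real13) (by norm_num) (hno 13 (by simp) (by norm_num))
    (by norm_num) (fun b hb hb' => ?_) chkB chkSB
  · rw [card_norm_congr e x]
    exact not_dvd_norm (by rw [MulEquiv.orderOf_eq, hx])
  · have h2 : b ≤ 2 := by
      by_contra hcon
      have h3 := (pow_dvd_pow 7 (show 3 ≤ b by omega)).trans hb'
      norm_num at h3
    interval_cases b <;> norm_num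

end Cfsg.Agent.H322.Odm
end

-- part: H217/Odm/AsmN
section
/-!
# TEAM ODDM (S4785): the rows of the sporadic groups and of the Tits group (helper217)

`row_tits (known) : RowN .tits`, `row_m11 (known) : RowN .m11`, ..., `row_m (known) : RowN .m`.
-/

set_option autoImplicit false
open Cfsg

namespace Cfsg.Agent.H217.Odm.AsmN

open Cfsg.Agent.H453.OddM Cfsg.Agent.OrdDiv Cfsg.Agent.H257.El

universe u

theorem row_tits (known : Known.{u}) : RowN.{u} .tits := fun _ _ _ _ h =>
  (Cfsg.Agent.H217.OdmRowTits.row table known h.real).row8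

theorem row_m11 (known : Known.{u}) : RowN.{u} .m11 := fun _ _ _ _ h =>
  (Cfsg.Agent.H454.Odm.row table known h.real).row8

theorem row_m12 (known : Known.{u}) : RowN.{u} .m12 := fun _ _ _ _ h =>
  (Cfsg.Agent.H795.Odm.row table known h.real).row8

theorem row_m22 (known : Known.{u}) : RowN.{u} .m22 := fun _ _ _ _ h =>
  (Cfsg.Agent.H858.OdmRowM22.row table known h.real).row8

theorem row_m23 (known : Known.{u}) : RowN.{u} .m23 := fun _ _ _ _ h =>
  (Cfsg.Agent.H583.OdmM23.row table known h.real).row8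

theorem row_m24 (known : Known.{u}) : RowN.{u} .m24 := fun _ _ _ _ h =>
  (Cfsg.Agent.H463.OdmM24.row table known h.real).row8

theorem row_j1 (known : Known.{u}) : RowN.{u} .j1 := fun _ _ _ _ h =>
  (Cfsg.Agent.H984.Odm.RowJ1.row table known h.real).row8

theorem row_j2 (known : Known.{u}) : RowN.{u} .j2 := fun _ _ _ _ h =>
  (Cfsg.Agent.H89.OdmRowJ2.row table known h.real).row8

theorem row_j3 (known : Known.{u}) : RowN.{u} .j3 := fun _ _ _ _ h =>
  (Cfsg.Agent.H143.OdmRowJ3.row table known h.real).row8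

theorem row_j4 (known : Known.{u}) : RowN.{u} .j4 := fun _ _ _ _ h =>
  (Cfsg.Agent.H234.OdmJ4.row table known h.real).row8

theorem row_co1 (known : Known.{u}) : RowN.{u} .co1 := fun _ _ _ _ h =>
  (Cfsg.Agent.H311.OdmRowCo1.row table known h.real).row8

theorem row_co2 (known : Known.{u}) : RowN.{u} .co2 := fun _ _ _ _ h =>
  (Cfsg.Agent.H306.OdmRowCo2.row table known h.real).row8

theorem row_co3 (known : Known.{u}) : RowN.{u} .co3 := fun _ _ _ _ h =>
  (Cfsg.Agent.H936.OdmRowCo3.row table known h.real).row8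

theorem row_mcl (known : Known.{u}) : RowN.{u} .mcl := fun _ _ _ _ h =>
  (Cfsg.Agent.H217.OdmRowMcL.row table known h.real).row8

theorem row_hs (known : Known.{u}) : RowN.{u} .hs := fun _ _ _ _ h =>
  (Cfsg.Agent.H461.OdmRowHS.row table known h.real).row8

theorem row_suz (known : Known.{u}) : RowN.{u} .suz := fun _ _ _ _ h =>
  (Cfsg.Agent.H311.OdmRowSuz.row table known h.real).row8

theorem row_he (known : Known.{u}) : RowN.{u} .he := fun _ _ _ _ h =>
  (Cfsg.Agent.H463.OdmHe.row table known h.real).row8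

theorem row_ru (known : Known.{u}) : RowN.{u} .ru := fun _ _ _ _ h =>
  (Cfsg.Agent.H315.OdmRowRu.row table known h.real).row8

theorem row_on (known : Known.{u}) : RowN.{u} .on := fun _ _ _ _ h =>
  (Cfsg.Agent.H623.OdmRowON.row table known h.real).row8

theorem row_ly (known : Known.{u}) : RowN.{u} .ly := fun _ _ _ _ h =>
  (Cfsg.Agent.H87.OdmRowLy.row table known h.real).row8

theorem row_fi22 (known : Known.{u}) : RowN.{u} .fi22 := fun _ _ _ _ h =>
  (Cfsg.Agent.H729.OdmRowFi22.row table known h.real).row8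

theorem row_fi23 (known : Known.{u}) : RowN.{u} .fi23 := fun _ _ _ _ h =>
  (Cfsg.Agent.H293.OdmRowFi23.row table known h.real).row8

theorem row_fi24 (known : Known.{u}) : RowN.{u} .fi24 := fun _ _ _ _ h =>
  (Cfsg.Agent.H52.OdmRowFi24.row table known h.real).row8

theorem row_hn (known : Known.{u}) : RowN.{u} .hn := fun _ _ _ _ h =>
  (Cfsg.Agent.H219.OdmRowHN.row table known h.real).row8

theorem row_th (known : Known.{u}) : RowN.{u} .th := fun _ _ _ _ h =>
  (Cfsg.Agent.H835.OdmRowTh.row table known h.real).row8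

theorem row_b (known : Known.{u}) : RowN.{u} .b := fun _ _ _ _ h =>
  (Cfsg.Agent.H322.Odm.row table known h.real).row8

theorem row_m (known : Known.{u}) : RowN.{u} .m := fun _ _ _ _ h =>
  (Cfsg.Agent.H328.Mon.OdmRowM.row table known h.real).row8

end Cfsg.Agent.H217.Odm.AsmN
end

private theorem dce_1f6a4e728330 : _root_.True := by
  try have : _root_.True := by simp only [_root_.Cfsg.Agent.H461.OdmRowHS.e.eq_1]
  try have : _root_.True := by simp only [_root_.Cfsg.Agent.H461.OdmRowHS.e.eq_2]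
  exact _root_.True.intro
end

-- part: H551/OddTwoNames_mg
section
prune_inst 0x35007144744012000000001240001e27aa000100000b8001eda30a0406896d0280002720be301201508a220440380040000000c0020000000a200400011900a0808040040300a10406009f000080000000000000000000000000000000000004000000000
set_option linter.all false
open scoped Cfsg.Agent.FastGrp

-- part: H551/OddTwoRows
section
/-!
# S4785, characteristic two: the rows (helper551)

* `row_of_splitT`, `row_of_rgdt` : `Row G` from a split (B,N)-pair (root group datum) of type `M` and `EvenPar M`;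
* `row_of_typ` : all groups of Lie type in characteristic two except the Suzuki groups and `²F₄`, from `EvenPar` for the
  types `A_n` (`n ≥ 2`), `D_n` (`n` odd) and `E₆`.
-/

set_option autoImplicit false

namespace Cfsg.Agent.H551.OddTwo

open Cfsg Cfsg.Agent.H453.OddM Cfsg.Agent.FixBN Cfsg.Agent.Tits.Core
open Cfsg.Agent.Omega.ML.Ex.Typ Cfsg.Agent.LieRecognition.BNCox
open Cfsg.Agent

theorem finite_of_splitT {G : Type*} [Group G] [Finite G] {I : Type*} {M : CoxeterMatrix I}
    {P : Cfsg.BNPair G} {e : I ≃ P.S} (hM : BNType P M e) : Finite M.Group := by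
  obtain ⟨hN, cs, -⟩ := hM
  have : Finite (P.N ⧸ (P.B ⊓ P.N).subgroupOf P.N) := inferInstance
  exact Finite.of_equiv _ cs.mulEquiv.toEquiv

theorem row_of_splitT {G : Type*} [Group G] [Finite G] [IsSimpleGroup G] {I : Type*} [Nonempty I]
    {M : CoxeterMatrix I} (hG : HasSplitT 2 M G) (hE : Finite M.Group → EvenPar M) : Row G := by
  obtain ⟨P, U, e, hS, hM⟩ := hG
  exact row_of_type hS hM (hE (finite_of_splitT hM))

theorem row_of_rgdt {G : Type*} [Group G] [Finite G] [IsSimpleGroup G] {l : ℕ} (hl : 0 < l)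
    {M : CoxeterMatrix (Fin l)} (hG : HasRGDT 2 M G) (hE : Finite M.Group → EvenPar M) : Row G := by
  have : Nonempty (Fin l) := ⟨⟨0, hl⟩⟩
  exact row_of_splitT (hG.hasSplitT Nat.prime_two hl) hE

section

variable {G : Type*} [Group G] [Finite G] [IsSimpleGroup G]

theorem row_B {l : ℕ} (hl : 0 < l) (hG : HasRGDT 2 (CoxeterMatrix.B l) G) : Row G :=
  row_of_rgdt hl hG fun _ => evenPar_B

theorem row_D {l : ℕ} (hl : Even l) (hG : HasRGDT 2 (Nodes.TypeD.M l) G) : Row G :=
  row_of_rgdt (by omega) hG fun _ => evenPar_D hl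

theorem row_E7 (hG : HasRGDT 2 CoxeterMatrix.E₇ G) : Row G := row_of_rgdt (by omega) hG fun _ => evenPar_E7

theorem row_E8 (hG : HasRGDT 2 CoxeterMatrix.E₈ G) : Row G := row_of_rgdt (by omega) hG fun _ => evenPar_E8

theorem row_F4 (hG : HasRGDT 2 CoxeterMatrix.F₄ G) : Row G := row_of_rgdt (by omega) hG fun _ => evenPar_F4

theorem row_G2 (hG : HasRGDT 2 CoxeterMatrix.G₂ G) : Row G := row_of_rgdt (by omega) hG fun _ => evenPar_G2

theorem row_rank_one {M : CoxeterMatrix (Fin 1)} (hG : HasRGDT 2 M G) : Row G :=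
  row_of_rgdt one_pos hG fun _ => evenPar_one M

end

/-- the dihedral group of order `16` -/
theorem evenPar_eight (M : CoxeterMatrix (Fin 2)) (h8 : M 0 1 = 8) [Finite M.Group] : EvenPar M := by
  set cs := M.toCoxeterSystem with hcs
  set s := cs.simple 0 with hs
  set t := cs.simple 1 with ht
  have hord : orderOf (s * t) = 8 := by
    rw [← h8]; exact Cfsg.Agent.Tits.Generic.orderOf_eq (cs := cs) 0 1
  have hs1 : s * s = 1 := cs.simple_mul_simple_self 0
  have ht1 : t * t = 1 := cs.simple_mul_simple_self 1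
  have hsi : s⁻¹ = s := (eq_inv_of_mul_eq_one_left hs1).symm
  have hti : t⁻¹ = t := (eq_inv_of_mul_eq_one_left ht1).symm
  have h81 : (s * t) ^ 8 = 1 := by rw [← hord]; exact pow_orderOf_eq_one _
  set z := (s * t) ^ 4 with hz
  have hzz : z * z = 1 := by rw [hz, ← pow_add]; exact h81
  have hzi : z⁻¹ = z := (eq_inv_of_mul_eq_one_left hzz).symm
  have hzs : s * z * s⁻¹ = z := by
    have h1 : s * z * s⁻¹ = (s * (s * t) * s⁻¹) ^ 4 := by rw [conj_pow]
    have h2 : s * (s * t) * s⁻¹ = (s * t)⁻¹ := by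
      rw [mul_inv_rev, hti, ← mul_assoc, hs1, one_mul]
    rw [h1, h2, inv_pow, ← hz, hzi]
  have hzt : t * z * t⁻¹ = z := by
    have h1 : t * z * t⁻¹ = (t * (s * t) * t⁻¹) ^ 4 := by rw [conj_pow]
    have h2 : t * (s * t) * t⁻¹ = (s * t)⁻¹ := by
      rw [mul_inv_rev, hti, hsi, mul_assoc, mul_assoc, ht1, mul_one]
    rw [h1, h2, inv_pow, ← hz, hzi]
  have hsim : ∀ i : Fin 2, cs.simple i = s ∨ cs.simple i = t := by
    intro i
    fin_cases i
    · exact Or.inl rfl
    · exact Or.inr rfl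
  have hc : ∀ w : M.Group, z * w = w * z := by
    intro w
    induction w using cs.simple_induction_left with
    | one => rw [mul_one, one_mul]
    | mul_simple_left w i ih =>
      have h1 : cs.simple i * z = z * cs.simple i := by
        rcases hsim i with h2 | h2
        · rw [h2]; exact mul_inv_eq_iff_eq_mul.1 hzs
        · rw [h2]; exact mul_inv_eq_iff_eq_mul.1 hzt
      rw [← mul_assoc, ← h1, mul_assoc, ih, mul_assoc]
  have hz1 : z ≠ 1 := by
    intro h
    have h1 := Nat.le_of_dvd (by norm_num) (orderOf_dvd_of_pow_eq_one h)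
    omega
  refine evenPar_of_central z hzz hc fun J hJ hzJ => ?_
  obtain ⟨k, hk⟩ : ∃ k, k ∉ J := by
    by_contra hcon
    push Not at hcon
    exact hJ (Set.eq_univ_of_forall hcon)
  obtain ⟨i, hi⟩ := (by decide : ∀ k : Fin 2, ∃ i : Fin 2, ∀ j, j ≠ k → j = i) k
  have hle : WJ cs J ≤ Subgroup.zpowers (cs.simple i) := by
    unfold WJ
    rw [Subgroup.closure_le]
    rintro _ ⟨j, hj, rfl⟩
    rw [hi j (by rintro rfl; exact hk hj)]
    exact Subgroup.mem_zpowers _
  obtain ⟨m, hm⟩ := Subgroup.mem_zpowers_iff.1 (hle hzJ)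
  have hsq : cs.simple i ^ (2 : ℤ) = 1 := by
    rw [zpow_ofNat, sq]; exact cs.simple_mul_simple_self i
  have hcase : z = 1 ∨ z = cs.simple i := by
    rcases Int.even_or_odd' m with ⟨r, hr | hr⟩
    · left
      rw [← hm, hr, zpow_mul, hsq, one_zpow]
    · right
      rw [← hm, hr, zpow_add, zpow_mul, hsq, one_zpow, one_mul, zpow_one]
  rcases hcase with h1 | h1
  · exact hz1 h1
  · have h2 : s * t = t * s := by
      rcases hsim i with h3 | h3
      · rw [h3] at h1; rw [← h1]; exact hc t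
      · rw [h3] at h1; rw [← h1]; exact (hc s).symm
    have h3 : (s * t) ^ 2 = 1 := by
      rw [sq]
      calc s * t * (s * t) = s * (t * s) * t := by group
        _ = s * (s * t) * t := by rw [h2]
        _ = (s * s) * (t * t) := by group
        _ = 1 := by rw [hs1, ht1, one_mul]
    have h4 := Nat.le_of_dvd (by norm_num) (orderOf_dvd_of_pow_eq_one h3)
    omega

/-- **All the groups of Lie type in characteristic two except the Suzuki groups and `²F₄`.** -/
theorem row_of_typ (hA : ∀ n, 2 ≤ n → Finite (cA n).Group → EvenPar (cA n))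
    (hD : ∀ n, 1 ≤ n → Odd n → Finite (Nodes.TypeD.M n).Group → EvenPar (Nodes.TypeD.M n))
    (hE6 : Finite CoxeterMatrix.E₆.Group → EvenPar CoxeterMatrix.E₆)
    {G : Type*} [Group G] [Finite G] [IsSimpleGroup G]
    (hSz : Lie.IsoSuzuki G → Row G) (hTw : Lie.Iso2F4 G → Row G) (hG : IsLieTypeChar 2 G) : Row G := by
  have : Fact (Nat.Prime 2) := ⟨Nat.prime_two⟩
  rcases hG with h | h | h | h | h | h | h | h | h | h | h
  · obtain ⟨n, hn, h⟩ := typ_of_PSL h
    rcases Nat.lt_or_ge n 2 with h2 | h2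
    · obtain rfl : n = 1 := by omega
      exact row_rank_one h
    · exact row_of_rgdt (by omega) h (hA n h2)
  · obtain ⟨F, _, _, _, m, hm, -, ⟨e⟩⟩ := h
    exact row_B (by omega) ((typ_PSp (by omega)).of_equiv e.symm)
  · obtain ⟨F, _, _, _, n, q, hF, hn, -, ⟨e⟩⟩ := h
    obtain ⟨m, hm, h⟩ := typ_PSU (p := 2) hF hn
    exact row_B (by omega) (h.of_equiv e.symm)
  · exfalso
    obtain ⟨F, _, _, _, m, hm, hodd, ⟨e⟩⟩ := h
    obtain ⟨k, -, hk⟩ := FiniteField.card F 2
    rw [hk] at hodd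
    exact absurd hodd (by
      rw [Nat.not_odd_iff_even]
      exact (even_two).pow_of_ne_zero k.ne_zero)
  · obtain ⟨F, _, _, _, m, hm, ⟨e⟩⟩ := h
    obtain ⟨n, rfl⟩ : ∃ n, m = n + 3 := ⟨m - 3, by omega⟩
    have h1 : HasRGDT 2 (Nodes.TypeD.M (n + 1)) G := (typ_PO_plus n).of_equiv e.symm
    rcases Nat.even_or_odd (n + 1) with h2 | h2
    · exact row_D h2 h1
    · exact row_of_rgdt (by omega) h1 (hD (n + 1) (by omega) h2)
  · obtain ⟨F, _, _, _, m, a, b, hm, hab, ⟨e⟩⟩ := h
    exact row_B (by omega) ((typ_PO_minus hab (by omega)).of_equiv e.symm)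
  · rcases typ_of_exc h with h | h | h | h | h
    · exact row_G2 h
    · exact row_F4 h
    · exact row_of_rgdt (by omega) h hE6
    · exact row_E7 h
    · exact row_E8 h
  · obtain ⟨K, _, _, _, q, hq, ⟨hK, ⟨e⟩⟩ | ⟨hK, ⟨e⟩⟩⟩ := h
    · exact row_F4 ((typ_twE6 hq hK 2).of_equiv e.symm)
    · exact row_G2 ((typ_twD4 hq hK 2).of_equiv e.symm)
  · exact hSz h.2
  · exact hTw h.2
  · omega

end Cfsg.Agent.H551.OddTwo
end

-- part: H551/OddTwoSz
section
/-!
# S4785, characteristic two: the Suzuki groups and `²F₄` (helper551)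

* `row_sz`, `row_twF4`;
* `row_of_lie` : all groups of Lie type in characteristic two, from `EvenPar` for the types `A_n` (`n ≥ 2`),
  `D_n` (`n` odd) and `E₆`.
-/

set_option autoImplicit false

namespace Cfsg.Agent.H551.OddTwo

open Cfsg Cfsg.Agent.H453.OddM Cfsg.Agent.FixBN Cfsg.Agent.Tits.Core
open Cfsg.Agent.Omega.ML.Ex.Typ Cfsg.Agent.LieRecognition.BNCox
open Cfsg.Agent

universe u

theorem row_sz {G : Type u} [Group G] [Finite G] [IsSimpleGroup G] (h : Lie.IsoSuzuki G) : Row G := by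
  obtain ⟨K, i1, i2, m, hm, hK, ⟨e⟩⟩ := h
  have H := Cfsg.Agent.LieRecognition.SzMatrix.good hK
  have hsimple : IsSimpleGroup ↥(Cfsg.Lie.Sz K (2 ^ (m + 1))) := Cfsg.Agent.S1162.result hm hK
  have hT : HasSplitT 2 (CoxeterMatrix.B 1) G :=
    Cfsg.Agent.H892.HerSz.splitT_of_equiv e.symm (Cfsg.Agent.Omega.ML.LieRow.SzSplit.bnPair H) H.unip (s := H.w) rfl
      (Cfsg.Agent.Omega.ML.LieRow.SzSplit.split hm hK H hsimple)
  exact row_of_splitT hT fun _ => evenPar_B

theorem row_twF4 {G : Type u} [Group G] [Finite G] [IsSimpleGroup G] (h : Lie.Iso2F4 G) : Row G := by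
  obtain ⟨K, i1, i2, m, hm, hK, ⟨e⟩⟩ := h
  obtain ⟨M, hM, hT⟩ := Cfsg.Agent.H60.HerTwF4.hasSplitT hm hK e.symm
  exact row_of_splitT hT fun _ => evenPar_eight M hM

/-- **All the groups of Lie type in characteristic two.** -/
theorem row_of_lie (hA : ∀ n, 2 ≤ n → Finite (cA n).Group → EvenPar (cA n))
    (hD : ∀ n, 1 ≤ n → Odd n → Finite (Nodes.TypeD.M n).Group → EvenPar (Nodes.TypeD.M n))
    (hE6 : Finite CoxeterMatrix.E₆.Group → EvenPar CoxeterMatrix.E₆)
    {G : Type u} [Group G] [Finite G] [IsSimpleGroup G] (hG : IsLieTypeChar 2 G) : Row G :=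
  row_of_typ hA hD hE6 row_sz row_twF4 hG

end Cfsg.Agent.H551.OddTwo
end

-- part: H551/OddTwoNames
section
/-!
# S4785, characteristic two: the rows by names (helper551)

* `row_char2` : `Row G` for all groups of Lie type in characteristic two;
* `row_psl2`, ..., `row_td42`, `row_sz'`, `row_tf4` : the rows `RowN`.
-/

set_option autoImplicit false

namespace Cfsg.Agent.H551.OddTwo

open Cfsg Cfsg.Agent.H453.OddM Cfsg.Agent.OrdDiv Cfsg.Agent.H436

universe u

/-- **Characteristic two.** -/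
theorem row_char2 {G : Type u} [Group G] [Finite G] [IsSimpleGroup G] (hG : IsLieTypeChar 2 G) : Row G :=
  row_of_lie (fun n _ _ => Cfsg.Agent.H976.OddM.ParA.evenPar_A n)
    (fun _ h1 _ _ => evenPar_TypeD h1) Cfsg.Agent.H976.OddM.ParE6.evenPar_E6 hG

theorem charP_of_card {F : Type} [Field F] [Fintype F] {q k : ℕ} (hF : Fintype.card F = q ^ k) (hk : k ≠ 0)
    (h2 : 2 ∣ q) : CharP F 2 := by
  obtain ⟨p, hp⟩ := CharP.exists F
  have hpp : p.Prime := CharP.char_is_prime F p
  have := Fact.mk hpp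
  obtain ⟨n, -, hn⟩ := FiniteField.card F p
  have h3 : 2 ∣ p ^ (n : ℕ) := by
    rw [← hn, hF]
    exact dvd_pow h2 hk
  have h4 : 2 ∣ p := Nat.Prime.dvd_of_dvd_pow Nat.prime_two h3
  have h5 : p = 2 := ((Nat.prime_dvd_prime_iff_eq Nat.prime_two hpp).1 h4).symm
  rwa [h5] at hp

theorem row_psl2 (n q : ℕ) (h2 : 2 ∣ q) : RowN.{u} (.psl n q) := by
  intro T _ _ _ h
  obtain ⟨F, i1, i2, hF, ⟨e⟩⟩ := h.real
  obtain ⟨h3, h4, -⟩ := h.cond
  have := charP_of_card (q := q) (k := 1) (by rw [hF, pow_one]) one_ne_zero h2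
  exact (row_char2 (Or.inl ⟨F, i1, i2, this, n, h3, by rwa [hF], ⟨e⟩⟩)).row8

theorem row_psp2 (n q : ℕ) (h2 : 2 ∣ q) : RowN.{u} (.psp n q) := by
  intro T _ _ _ h
  obtain ⟨F, i1, i2, hF, ⟨e⟩⟩ := h.real
  obtain ⟨h3, h4, -⟩ := h.cond
  have := charP_of_card (q := q) (k := 1) (by rw [hF, pow_one]) one_ne_zero h2
  exact (row_char2 (Or.inr (Or.inl ⟨F, i1, i2, this, n, h3, by rwa [hF], ⟨e⟩⟩))).row8

theorem row_psu2 (n q : ℕ) (h2 : 2 ∣ q) : RowN.{u} (.psu n q) := by
  intro T _ _ _ h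
  obtain ⟨F, i1, i2, hF, ⟨e⟩⟩ := h.real
  obtain ⟨h3, h4, -⟩ := h.cond
  have := charP_of_card (q := q) (k := 2) hF two_ne_zero h2
  exact (row_char2 (Or.inr (Or.inr (Or.inl ⟨F, i1, i2, this, n, q, hF, h3, h4, ⟨e⟩⟩)))).row8

theorem row_oplus2 (n q : ℕ) (h2 : 2 ∣ q) : RowN.{u} (.oplus n q) := by
  intro T _ _ _ h
  obtain ⟨F, i1, i2, hF, ⟨e⟩⟩ := h.real
  obtain ⟨h3, -⟩ := h.cond
  have := charP_of_card (q := q) (k := 1) (by rw [hF, pow_one]) one_ne_zero h2
  exact (row_char2 (Or.inr (Or.inr (Or.inr (Or.inr (Or.inl ⟨F, i1, i2, this, n, h3, ⟨e⟩⟩)))))).row8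

theorem row_ominus2 (n q : ℕ) (h2 : 2 ∣ q) : RowN.{u} (.ominus n q) := by
  intro T _ _ _ h
  obtain ⟨F, i1, i2, a, b, hF, hab, ⟨e⟩⟩ := h.real
  obtain ⟨h3, -⟩ := h.cond
  have := charP_of_card (q := q) (k := 1) (by rw [hF, pow_one]) one_ne_zero h2
  exact (row_char2 (Or.inr (Or.inr (Or.inr (Or.inr (Or.inr (Or.inl
    ⟨F, i1, i2, this, n, a, b, h3, hab, ⟨e⟩⟩))))))).row8

theorem lie_of_exc {G : Type u} [Group G] (h : IsExceptionalChevChar 2 G) : IsLieTypeChar 2 G :=
  Or.inr (Or.inr (Or.inr (Or.inr (Or.inr (Or.inr (Or.inl h))))))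

theorem lie_of_tw {G : Type u} [Group G] (h : IsTwistedE6D4Char 2 G) : IsLieTypeChar 2 G :=
  Or.inr (Or.inr (Or.inr (Or.inr (Or.inr (Or.inr (Or.inr (Or.inl h)))))))

theorem row_g22 (q : ℕ) (h2 : 2 ∣ q) : RowN.{u} (.g2 q) := by
  intro T _ _ _ h
  obtain ⟨F, i1, i2, hF, ⟨e⟩⟩ := h.real
  obtain ⟨h3, -⟩ := h.cond
  have := charP_of_card (q := q) (k := 1) (by rw [hF, pow_one]) one_ne_zero h2
  exact (row_char2 (lie_of_exc ⟨F, i1, i2, this, Or.inl ⟨by rwa [hF], ⟨e⟩⟩⟩)).row8

theorem row_f42 (q : ℕ) (h2 : 2 ∣ q) : RowN.{u} (.f4 q) := by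
  intro T _ _ _ h
  obtain ⟨F, i1, i2, hF, ⟨e⟩⟩ := h.real
  have := charP_of_card (q := q) (k := 1) (by rw [hF, pow_one]) one_ne_zero h2
  exact (row_char2 (lie_of_exc ⟨F, i1, i2, this, Or.inr (Or.inl ⟨e⟩)⟩)).row8

theorem row_e62 (q : ℕ) (h2 : 2 ∣ q) : RowN.{u} (.e6 q) := by
  intro T _ _ _ h
  obtain ⟨F, i1, i2, hF, ⟨e⟩⟩ := h.real
  have := charP_of_card (q := q) (k := 1) (by rw [hF, pow_one]) one_ne_zero h2
  exact (row_char2 (lie_of_exc ⟨F, i1, i2, this, Or.inr (Or.inr (Or.inl ⟨e⟩))⟩)).row8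

theorem row_e72 (q : ℕ) (h2 : 2 ∣ q) : RowN.{u} (.e7 q) := by
  intro T _ _ _ h
  obtain ⟨F, i1, i2, hF, ⟨e⟩⟩ := h.real
  have := charP_of_card (q := q) (k := 1) (by rw [hF, pow_one]) one_ne_zero h2
  exact (row_char2 (lie_of_exc ⟨F, i1, i2, this, Or.inr (Or.inr (Or.inr (Or.inl ⟨e⟩)))⟩)).row8

theorem row_e82 (q : ℕ) (h2 : 2 ∣ q) : RowN.{u} (.e8 q) := by
  intro T _ _ _ h
  obtain ⟨F, i1, i2, hF, ⟨e⟩⟩ := h.real
  have := charP_of_card (q := q) (k := 1) (by rw [hF, pow_one]) one_ne_zero h2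
  exact (row_char2 (lie_of_exc ⟨F, i1, i2, this, Or.inr (Or.inr (Or.inr (Or.inr ⟨e⟩)))⟩)).row8

theorem row_te62 (q : ℕ) (h2 : 2 ∣ q) : RowN.{u} (.te6 q) := by
  intro T _ _ _ h
  obtain ⟨F, i1, i2, hF, ⟨e⟩⟩ := h.real
  have hq : IsPrimePow q := h.cond
  have := charP_of_card (q := q) (k := 2) hF two_ne_zero h2
  exact (row_char2 (lie_of_tw ⟨F, i1, i2, this, q, hq, Or.inl ⟨hF, ⟨e⟩⟩⟩)).row8

theorem row_td42 (q : ℕ) (h2 : 2 ∣ q) : RowN.{u} (.td4 q) := by
  intro T _ _ _ h
  obtain ⟨F, i1, i2, hF, ⟨e⟩⟩ := h.real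
  have hq : IsPrimePow q := h.cond
  have := charP_of_card (q := q) (k := 3) hF three_ne_zero h2
  exact (row_char2 (lie_of_tw ⟨F, i1, i2, this, q, hq, Or.inr ⟨hF, ⟨e⟩⟩⟩)).row8

theorem rowN_sz (q : ℕ) : RowN.{u} (.sz q) := by
  intro T _ _ _ h
  obtain ⟨F, i1, i2, m, hm, hF, hq, ⟨e⟩⟩ := h.real
  exact (row_sz ⟨F, i1, i2, m, hm, by rw [hF, hq], ⟨e⟩⟩).row8

theorem rowN_tf4 (q : ℕ) : RowN.{u} (.tf4 q) := by
  intro T _ _ _ h
  obtain ⟨F, i1, i2, m, hm, hF, hq, ⟨e⟩⟩ := h.real
  exact (row_twF4 ⟨F, i1, i2, m, hm, by rw [hF, hq], ⟨e⟩⟩).row8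

end Cfsg.Agent.H551.OddTwo
end

-- part: H517/OddM/PspReal
section
/-!
# Every prime dividing `|PSp(2n, q)|` is real, `q` odd, `n ≥ 2` (TEAM ODDM, S4785, helper517)

* `realP_psp_char` : the characteristic: `(1 1; 0 1) ⊕ (1 -1; 0 1)` is inverted by the exchange of the two blocks
* `realP_psp_of_dvd` : every prime divisor of `|PSp(2n, q)|`
-/

set_option autoImplicit false

namespace Cfsg.Agent.H517.OddM

open Matrix Cfsg Cfsg.Agent.H453.OddM

section

variable {F : Type*} [Field F] {n : ℕ}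

/-- `(1 B; 0 1)` for a diagonal matrix `B` -/
def sieg (b : Fin n → F) : symplecticGroup (Fin n) F :=
  ⟨Matrix.fromBlocks 1 (Matrix.diagonal b) 0 1, by
    rw [SymplecticGroup.mem_iff, Matrix.J, Matrix.fromBlocks_transpose, Matrix.fromBlocks_multiply,
      Matrix.fromBlocks_multiply]
    simp⟩

theorem sieg_coe (b : Fin n → F) : (sieg b : Matrix (Fin n ⊕ Fin n) (Fin n ⊕ Fin n) F) =
    Matrix.fromBlocks 1 (Matrix.diagonal b) 0 1 := rfl

theorem sieg_mul (b c : Fin n → F) : sieg b * sieg c = sieg (b + c) := by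
  apply Subtype.ext
  change Matrix.fromBlocks 1 (Matrix.diagonal b) 0 1 * Matrix.fromBlocks 1 (Matrix.diagonal c) 0 1 =
    Matrix.fromBlocks 1 (Matrix.diagonal (b + c)) 0 1
  rw [Matrix.fromBlocks_multiply]
  simp only [mul_one, one_mul, mul_zero, zero_mul, add_zero, zero_add]
  rw [Matrix.diagonal_add, add_comm b c]
  rfl

theorem sieg_zero : sieg (0 : Fin n → F) = 1 := by
  apply Subtype.ext
  change Matrix.fromBlocks 1 (Matrix.diagonal (0 : Fin n → F)) 0 1 = 1
  rw [Matrix.diagonal_zero', Matrix.fromBlocks_one]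

theorem sieg_pow (b : Fin n → F) (k : ℕ) : sieg b ^ k = sieg (k • b) := by
  induction k with
  | zero => rw [pow_zero, zero_smul, sieg_zero]
  | succ k ih => rw [pow_succ, ih, sieg_mul, succ_nsmul]

theorem sieg_inv (b : Fin n → F) : (sieg b)⁻¹ = sieg (-b) := by
  rw [inv_eq_iff_mul_eq_one, sieg_mul, add_neg_cancel, sieg_zero]

theorem sieg_injective : Function.Injective (sieg : (Fin n → F) → symplecticGroup (Fin n) F) := by
  intro b c h
  have h1 := congrArg (fun z : symplecticGroup (Fin n) F => (z : Matrix (Fin n ⊕ Fin n) (Fin n ⊕ Fin n) F)) h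
  simp only [sieg_coe, Matrix.fromBlocks_inj] at h1
  exact Matrix.diagonal_injective h1.2.1

/-- the permutation of the hyperbolic planes -/
def permSp (σ : Equiv.Perm (Fin n)) : symplecticGroup (Fin n) F :=
  ⟨Matrix.fromBlocks (σ.permMatrix F) 0 0 (σ.permMatrix F), by
    rw [SymplecticGroup.mem_iff, Matrix.J, Matrix.fromBlocks_transpose, Matrix.fromBlocks_multiply,
      Matrix.fromBlocks_multiply]
    have h1 : σ.permMatrix F * (σ.permMatrix F)ᵀ = 1 := by
      rw [Matrix.transpose_permMatrix, ← Matrix.permMatrix_mul, inv_mul_cancel, Matrix.permMatrix_one]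
    simp only [Matrix.transpose_zero, mul_zero, zero_mul, mul_one, add_zero, zero_add, mul_neg, neg_mul, h1,
      neg_zero]⟩

theorem perm_diag (σ : Equiv.Perm (Fin n)) (b : Fin n → F) :
    σ.permMatrix F * Matrix.diagonal b = Matrix.diagonal (b ∘ σ) * σ.permMatrix F := by
  ext i j
  rw [Matrix.mul_diagonal, Matrix.diagonal_mul]
  change (σ.toPEquiv.toMatrix : Matrix (Fin n) (Fin n) F) i j * b j =
    b (σ i) * (σ.toPEquiv.toMatrix : Matrix (Fin n) (Fin n) F) i j
  rw [PEquiv.toMatrix_toPEquiv_apply]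
  by_cases h : σ i = j
  · subst h
    rw [mul_comm]
  · rw [Pi.single_eq_of_ne (Ne.symm h), zero_mul, mul_zero]

theorem permSp_conj (σ : Equiv.Perm (Fin n)) (b : Fin n → F) :
    permSp σ * sieg b * (permSp σ)⁻¹ = sieg (b ∘ σ) := by
  rw [mul_inv_eq_iff_eq_mul]
  apply Subtype.ext
  change Matrix.fromBlocks (σ.permMatrix F) 0 0 (σ.permMatrix F) * Matrix.fromBlocks 1 (Matrix.diagonal b) 0 1 =
    Matrix.fromBlocks 1 (Matrix.diagonal (b ∘ σ)) 0 1 * Matrix.fromBlocks (σ.permMatrix F) 0 0 (σ.permMatrix F)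
  rw [Matrix.fromBlocks_multiply, Matrix.fromBlocks_multiply]
  simp only [mul_one, one_mul, mul_zero, zero_mul, add_zero, zero_add]
  rw [perm_diag]

/-- `(1 1; 0 1) ⊕ (1 -1; 0 1)` -/
def vec (n : ℕ) (F : Type*) [Field F] : Fin n → F := fun i => if (i : ℕ) = 0 then 1 else if (i : ℕ) = 1 then -1 else 0

theorem vec_swap (hn : 2 ≤ n) : vec n F ∘ Equiv.swap (⟨0, by omega⟩ : Fin n) ⟨1, by omega⟩ = - vec n F := by
  funext i
  rw [Function.comp_apply, Pi.neg_apply]
  by_cases h0 : i = ⟨0, by omega⟩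
  · subst h0
    rw [Equiv.swap_apply_left]
    simp [vec]
  · by_cases h1 : i = ⟨1, by omega⟩
    · subst h1
      rw [Equiv.swap_apply_right]
      simp [vec]
    · rw [Equiv.swap_apply_of_ne_of_ne h0 h1]
      have h2 : (i : ℕ) ≠ 0 := fun h => h0 (Fin.ext h)
      have h3 : (i : ℕ) ≠ 1 := fun h => h1 (Fin.ext h)
      simp [vec, h2, h3]

theorem isReal_sieg (hn : 2 ≤ n) : IsReal (sieg (vec n F)) :=
  ⟨permSp (Equiv.swap ⟨0, by omega⟩ ⟨1, by omega⟩), by rw [permSp_conj, vec_swap hn, sieg_inv]⟩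

theorem orderOf_sieg {p : ℕ} [CharP F p] (hp : p.Prime) (hn : 1 ≤ n) : orderOf (sieg (vec n F)) = p := by
  have := Fact.mk hp
  refine orderOf_eq_prime ?_ ?_
  · rw [sieg_pow, ← sieg_zero]
    congr 1
    funext i
    rw [Pi.smul_apply, nsmul_eq_mul, CharP.cast_eq_zero, zero_mul, Pi.zero_apply]
  · intro h
    rw [← sieg_zero] at h
    have h1 := congrFun (sieg_injective h) ⟨0, by omega⟩
    simp [vec] at h1

/-- **The characteristic is a real prime.** -/
theorem realP_psp_char {p : ℕ} [CharP F p] (hp : p.Prime) (hp2 : p ≠ 2) (hn : 2 ≤ n) : RealP (PSp n F) p :=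
  realP_quot_center (hp.odd_of_ne_two hp2) ⟨sieg (vec n F), orderOf_sieg hp (by omega), isReal_sieg hn⟩

end

/-- **Every prime divisor of `|PSp(2n, q)|` is real**, `q` odd, `n ≥ 2`. -/
theorem realP_psp_of_dvd {F : Type*} [Field F] [Fintype F] {n : ℕ} (h2 : (2 : F) ≠ 0) (hn : 2 ≤ n) {r : ℕ}
    (hr : r.Prime) (hd : r ∣ Nat.card (PSp n F)) : RealP (PSp n F) r := by
  have hfin : Finite (PSp n F) := Quotient.finite _
  by_cases hr2 : r = 2
  · subst hr2
    exact realP_two hd
  have h1 : r ∣ Nat.card (symplecticGroup (Fin n) F) := hd.trans (Subgroup.card_quotient_dvd_card _)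
  rw [S0245.result (F := F) rfl n] at h1
  rcases hr.dvd_mul.1 h1 with h3 | h3
  · obtain ⟨p, hp⟩ := CharP.exists F
    obtain ⟨k, hpp, hk⟩ := FiniteField.card F p
    have h4 := hr.dvd_of_dvd_pow h3
    rw [hk] at h4
    have h5 : r = p := (Nat.prime_dvd_prime_iff_eq hr hpp).1 (hr.dvd_of_dvd_pow h4)
    subst h5
    exact realP_psp_char hr hr2 hn
  · obtain ⟨i, hi, h4⟩ := (hr.prime.dvd_finsetProd_iff _).1 h3
    rw [Finset.mem_range] at hi
    have h5 := realP_psp_pow (F := F) (m := n) (e := 2 * (i + 1)) (a := 1) h2 hr hr2 (by omega)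
      (Or.inl ⟨even_two_mul _, by omega⟩) (by rwa [pow_one])
    rwa [pow_one] at h5

end Cfsg.Agent.H517.OddM
end

-- part: H517/OddM/Psp
section
/-!
# S4785 (TEAM ODDM): the row `PSp(2n, q)`, `n ≥ 3`, `q` odd (helper517)

* `hker_psp`     : the kernel of `Sp → PSp`
* `two_contra`   : the 2-parts of `|PSp(2n, q)|` and of `|Aut(PΩ^-(2n, q))|`, `n` even
* `rowC_psp`     : no maximal subgroup of `PSp(2n, q)` is `Cov`
* `row_psp_of`   : the row, from the order table and the classification in `Type`.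
-/

set_option autoImplicit false

namespace Cfsg.Agent.H517.OddM

open Cfsg Cfsg.Geo Cfsg.Agent.OrdDiv Cfsg.Agent.H436 Cfsg.Agent.H264.FKS Cfsg.Agent.H915.GN Cfsg.Agent.H264.GN
open Cfsg.Agent.H453.OddM (RealP Cov RowC RowN not_cov_of_prime)
open Cfsg.Agent.H876 (spToGL)
open scoped MatrixGroups

universe u

/-! ### Arithmetic -/

theorem two_pow_dvd {p : ℕ} (hp : Odd p) (j : ℕ) : 2 ^ (j + 3) ∣ p ^ (2 * 2 ^ j) - 1 := by
  have hp1 : 1 ≤ p := hp.pos
  induction j with
  | zero =>
    rw [zero_add, pow_zero, mul_one]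
    obtain ⟨k, rfl⟩ := hp
    have h1 : (2 * k + 1) ^ 2 - 1 = 4 * (k * (k + 1)) := by
      have : (2 * k + 1) ^ 2 = 4 * (k * (k + 1)) + 1 := by ring
      omega
    rw [h1]
    obtain ⟨c, hc⟩ := (Nat.even_mul_succ_self k).two_dvd
    exact ⟨c, by rw [hc]; ring⟩
  | succ j ih =>
    have h1 : p ^ (2 * 2 ^ (j + 1)) - 1 = (p ^ (2 * 2 ^ j) + 1) * (p ^ (2 * 2 ^ j) - 1) := by
      have := Nat.sq_sub_sq (p ^ (2 * 2 ^ j)) 1
      rw [one_pow] at this
      rw [← this, ← pow_mul, pow_succ, mul_assoc]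
    rw [h1, show j + 1 + 3 = (j + 3) + 1 by ring, pow_succ']
    refine Nat.mul_dvd_mul ?_ ih
    exact (hp.pow.add_one).two_dvd

theorem two_pow_dvd' {p f n : ℕ} (hp : Odd p) (he : n % 2 = 0) {j : ℕ} (hj : 2 ^ j ∣ f) :
    2 ^ (j + 3) ∣ (p ^ f) ^ n - 1 := by
  obtain ⟨c, rfl⟩ := hj
  obtain ⟨m, rfl⟩ : ∃ m, n = 2 * m := ⟨n / 2, by omega⟩
  refine (two_pow_dvd hp j).trans ?_
  have h1 : (p ^ (2 ^ j * c)) ^ (2 * m) = (p ^ (2 * 2 ^ j)) ^ (c * m) := by
    rw [← pow_mul, ← pow_mul]
    congr 1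
    ring
  rw [h1]
  exact Nat.sub_one_dvd_pow_sub_one _ _

/-- the comparison of the 2-parts -/
theorem two_contra {t a f X Q Q' D : ℕ} (hX : X ≠ 0) (hf : f ≠ 0) (h1 : 2 * t = Q * X * D)
    (hD : ∀ j, 2 ^ j ∣ f → 2 ^ (j + 3) ∣ D) (h2 : a = 2 * f * (Q' * X)) (hQ' : Odd Q')
    (h : ∀ k, 2 ^ k ∣ t → 2 ^ k ∣ a) : False := by
  obtain ⟨x, X', hX', rfl⟩ := Nat.exists_eq_pow_mul_and_not_dvd hX 2 (by norm_num)
  obtain ⟨j, f', hf', rfl⟩ := Nat.exists_eq_pow_mul_and_not_dvd hf 2 (by norm_num)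
  obtain ⟨d, rfl⟩ := hD j (Dvd.intro _ rfl)
  have h3 : 2 ^ (x + j + 2) ∣ t := by
    refine Nat.dvd_of_mul_dvd_mul_left (show 0 < 2 by norm_num) ?_
    rw [h1]
    exact ⟨Q * X' * d, by ring⟩
  have h4 := h _ h3
  rw [h2, show 2 * (2 ^ j * f') * (Q' * (2 ^ x * X')) = 2 ^ (x + j + 1) * (f' * Q' * X') by ring,
    show x + j + 2 = (x + j + 1) + 1 by ring, pow_succ] at h4
  have h5 := Nat.dvd_of_mul_dvd_mul_left (by positivity) h4
  rcases Nat.prime_two.dvd_mul.1 h5 with h6 | h6
  · rcases Nat.prime_two.dvd_mul.1 h6 with h7 | h7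
    · exact hf' h7
    · exact (Nat.not_even_iff_odd.2 hQ') (even_iff_two_dvd.2 h7)
  · exact hX' h6

theorem gcd_four {Q : ℕ} (h : Q % 4 = 1) : Nat.gcd 4 (Q + 1) = 2 := by
  have h1 : Nat.gcd 4 (Q + 1) ∣ 4 := Nat.gcd_dvd_left _ _
  have h2 : 2 ∣ Nat.gcd 4 (Q + 1) := Nat.dvd_gcd (by norm_num) (by omega)
  have h3 : Nat.gcd 4 (Q + 1) ≠ 4 := fun h3 => by
    have h4 : 4 ∣ Q + 1 := h3 ▸ Nat.gcd_dvd_right 4 (Q + 1)
    omega
  have h5 : Nat.gcd 4 (Q + 1) ≤ 4 := Nat.le_of_dvd (by norm_num) h1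
  obtain ⟨c, hc⟩ := h2
  interval_cases hg : Nat.gcd 4 (Q + 1) <;> omega

theorem prB_succ (q n : ℕ) (hn : 1 ≤ n) : prB q n = prB q (n - 1) * (q ^ (2 * n) - 1) := by
  obtain ⟨k, rfl⟩ : ∃ k, n = k + 1 := ⟨n - 1, by omega⟩
  rw [prB_eq, prB_eq, Finset.prod_range_succ, Nat.add_sub_cancel]

/-! ### The kernel of `Sp → PSp` -/

theorem hker_psp {F : Type*} [Field F] {m : ℕ} (x : Matrix.symplecticGroup (Fin m) F) :
    QuotientGroup.mk' (Subgroup.center (Matrix.symplecticGroup (Fin m) F)) x = 1 ↔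
      spToGL m F x ∈ scalars (Fin m ⊕ Fin m) F := by
  rw [show QuotientGroup.mk' (Subgroup.center (Matrix.symplecticGroup (Fin m) F)) x = 1 ↔
    x ∈ Subgroup.center (Matrix.symplecticGroup (Fin m) F) from QuotientGroup.eq_one_iff x]
  constructor
  · intro h
    obtain ⟨a, ha⟩ := (LieClassical.SympCenter.mem_center_iff m x).1 h
    rcases isEmpty_or_nonempty (Fin m ⊕ Fin m) with hι | ⟨⟨i⟩⟩
    · have : spToGL m F x = 1 := Units.ext (by ext i; exact (hι.false i).elim)
      rw [this]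
      exact Subgroup.one_mem _
    · have ha0 : a ≠ 0 := by
        rintro rfl
        rw [zero_smul] at ha
        have h3 : (0 : Matrix (Fin m ⊕ Fin m) (Fin m ⊕ Fin m) F) = 1 := by
          have h1 : x.1 * (x⁻¹).1 = 1 := congrArg Subtype.val (mul_inv_cancel x)
          rw [ha, zero_mul] at h1
          exact h1
        have h4 := congrFun (congrFun h3 i) i
        rw [Matrix.zero_apply, Matrix.one_apply_eq] at h4
        exact zero_ne_one h4
      refine ⟨Units.mk0 a ha0, Units.ext ?_⟩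
      ext i j
      have h5 := congrFun (congrFun ha i) j
      change (Matrix.scalar (Fin m ⊕ Fin m) a) i j = x.1 i j
      rw [h5, Matrix.scalar_apply, Matrix.smul_apply, Matrix.diagonal_apply, Matrix.one_apply]
      split_ifs <;> simp
  · rintro ⟨u, hu⟩
    refine (LieClassical.SympCenter.mem_center_iff m x).2 ⟨(u : F), ?_⟩
    have h1 := congrArg Units.val hu
    ext i j
    have h5 := congrFun (congrFun h1 i) j
    change (Matrix.scalar (Fin m ⊕ Fin m) (u : F)) i j = x.1 i j at h5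
    rw [← h5, Matrix.scalar_apply, Matrix.smul_apply, Matrix.diagonal_apply, Matrix.one_apply]
    split_ifs <;> simp

/-! ### The last socle: `PΩ^-(2n, q)`, `n` even -/

section

variable {T : Type u} [Group T] [Finite T] {R : Subgroup T} {p f n : ℕ}

/-- `|Aut(PΩ^-(2n, q))|`, `q` odd, `n` even -/
theorem card_aut_ominus {S : Type u} [Group S] (hS : IsNamed (.ominus n (p ^ f)) S) (hp : p.Prime) (hp2 : p ≠ 2)
    (hf : 1 ≤ f) (he : n % 2 = 0) :
    Nat.card (MulAut S) = 2 * f * ((p ^ f) ^ (n * (n - 1)) * (((p ^ f) ^ n + 1) * prB (p ^ f) (n - 1))) := by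
  have hcond := hS.cond.1
  have heq : Nat.gcd 4 ((p ^ f) ^ n + 1) * Nat.card S =
      (p ^ f) ^ (n * (n - 1)) * (((p ^ f) ^ n + 1) * prB (p ^ f) (n - 1)) := hS.eq
  obtain ⟨F, _, _, a, b, hF, hab, ⟨e⟩⟩ := hS.real
  have := Fact.mk hp
  have h1 := S0818.result p f hf hF n hcond a b hab
  have hodd : Odd (p ^ f) := (hp.odd_of_ne_two hp2).pow
  obtain ⟨m, rfl⟩ : ∃ m, n = 2 * m := ⟨n / 2, by omega⟩
  obtain ⟨k, hk⟩ := hodd
  have h2 : 2 * m * (p ^ f - 1) / 2 = m * (2 * k) := by
    rw [hk, Nat.add_sub_cancel, mul_assoc, Nat.mul_div_cancel_left _ (by norm_num)]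
  rw [if_neg hp2, if_pos (by rw [h2]; exact ⟨m * k, by ring⟩)] at h1
  have h3 : Nat.card (MulAut S) = 4 * f * Nat.card S := by
    rw [Nat.card_congr (MulAut.congr e).toEquiv, h1, Nat.card_congr e.toEquiv]
  have h4 : (p ^ f) ^ (2 * m) % 4 = 1 := by
    have h5 := two_pow_dvd' (p := p) (f := f) (n := 2 * m) (hp.odd_of_ne_two hp2) (by omega) (j := 0) (one_dvd _)
    have h6 : 1 ≤ (p ^ f) ^ (2 * m) := Nat.one_le_pow _ _ (pow_pos hp.pos _)
    obtain ⟨c, hc⟩ := h5
    norm_num at hc
    omega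
  rw [gcd_four h4] at heq
  rw [h3, ← heq]
  ring

theorem not_ominus (hT : IsNamed (.psp n (p ^ f)) T) (hp : p.Prime) (hp2 : p ≠ 2) (hf : 1 ≤ f) (he : n % 2 = 0)
    (hc : Cov T R) (S : Subgroup R) [S.Normal] (hC : Subgroup.centralizer (S : Set R) = ⊥)
    (hS : IsNamed (.ominus n (p ^ f)) S) : False := by
  have hn : 2 ≤ n := hT.cond.1
  have hodd : Odd (p ^ f) := (hp.odd_of_ne_two hp2).pow
  have hq : 1 ≤ p ^ f := pow_pos hp.pos _
  have h1 : Nat.gcd 2 (p ^ f - 1) * Nat.card T = (p ^ f) ^ (n ^ 2) * prB (p ^ f) n := hT.eq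
  have h2 : Nat.gcd 2 (p ^ f - 1) = 2 := Nat.gcd_eq_left (by
    obtain ⟨k, hk⟩ := hodd
    exact ⟨k, by omega⟩)
  rw [h2, prB_succ _ _ (by omega)] at h1
  have h3 : (p ^ f) ^ (2 * n) - 1 = ((p ^ f) ^ n + 1) * ((p ^ f) ^ n - 1) := by
    have := Nat.sq_sub_sq ((p ^ f) ^ n) 1
    rw [one_pow] at this
    rw [← this, mul_comm 2 n, pow_mul (p ^ f) n 2]
  have h4 := card_aut_ominus hS hp hp2 hf he
  have hX : ((p ^ f) ^ n + 1) * prB (p ^ f) (n - 1) ≠ 0 := by
    intro h0
    have h5 : 2 * Nat.card T = 0 := by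
      have h6 : (p ^ f) ^ (n ^ 2) * (prB (p ^ f) (n - 1) * (((p ^ f) ^ n + 1) * ((p ^ f) ^ n - 1))) =
          (p ^ f) ^ (n ^ 2) * ((p ^ f) ^ n - 1) * (((p ^ f) ^ n + 1) * prB (p ^ f) (n - 1)) := by ring
      rw [h1, h3, h6, h0, mul_zero]
    have := Nat.card_pos (α := T)
    omega
  refine two_contra (t := Nat.card T) (a := Nat.card (MulAut S)) (f := f) (Q := (p ^ f) ^ (n ^ 2))
    (D := (p ^ f) ^ n - 1) hX (by omega) ?_ (fun j hj => two_pow_dvd' (hp.odd_of_ne_two hp2) he hj) h4 hodd.pow ?_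
  · rw [h1, h3]
    ring
  · intro k hk
    exact (hc.two_part.1 hk).trans (dvd_aut S hC)

end

/-! ### The row -/

/-- **No maximal subgroup of `PSp(2n, q)`, `q` odd, `n ≥ 3`, is `Cov`.** -/
theorem rowC_psp (tab : OrderTable.{0}) (hK : ∀ (X : Type) [Group X] [Finite X] [IsSimpleGroup X],
    Cfsg.IsKnownSimple' X) {F : Type} [Field F] [Fintype F] {p f n : ℕ} (hp : p.Prime) (hp2 : p ≠ 2) (hf : 1 ≤ f)
    (hF : Fintype.card F = p ^ f) (hn : 3 ≤ n) : RowC (PSp n F) := by
  intro M hM hc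
  have hfin : Finite (PSp n F) := Quotient.finite _
  have hchar : CharP F p := Cfsg.Agent.H364.OutLie.charP_of_card hp hf hF
  have h2 : (2 : F) ≠ 0 := by
    intro h0
    have h1 : p ∣ 2 := (CharP.cast_eq_zero_iff F p 2).1 (by exact_mod_cast h0)
    exact hp2 ((Nat.prime_dvd_prime_iff_eq hp Nat.prime_two).1 h1)
  have hp3 : 3 ≤ p := by have := hp.two_le; omega
  have hq3 : 3 ≤ Fintype.card F := by
    rw [hF]
    exact hp3.trans (Nat.le_self_pow (by omega) _)
  have hpF : p ∣ Fintype.card F := by rw [hF]; exact dvd_pow_self p (by omega)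
  have hT : IsNamed (.psp n (Fintype.card F)) (PSp n F) :=
    .mk' ⟨F, inferInstance, inferInstance, rfl, ⟨MulEquiv.refl _⟩⟩
      ⟨by omega, by omega, Fintype.isPrimePow_card_of_field⟩ (psp_eq (by omega))
  have hmiss : ¬ ∃ r : ℕ, r.Prime ∧ r ∣ Nat.card (PSp n F) ∧ ¬ r ∣ Nat.card M := by
    rintro ⟨r, hr, hd, hnd⟩
    exact not_cov_of_prime (realP_psp_of_dvd h2 (by omega) hr hd) hnd hc
  rcases H262.El.psp_miss (m := n) (by omega) (by omega) (by omega) (by omega) hM.1 with h | ⟨P, hP, -⟩ | h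
  · exact hmiss h
  · obtain ⟨S, hSn, hSs, hna, hC, ⟨e⟩⟩ := exists_socle
      (spToGL n F) H262.El.spToGL_injective _ (QuotientGroup.mk'_surjective _) hker_psp hP
    obtain ⟨g, hg⟩ := exists_named tab (hK S) fun h => hna ⟨⟨h⟩⟩
    refine H278.El.Asm.res_kill (p := p) (Q := False) hT trivial ?_ ?_ S hC hg e ?_ hmiss ?_ ?_
    · simp only [H278.El.AltNum.surv, List.mem_cons, Grp.psp.injEq, reduceCtorEq, or_false, false_or, List.not_mem_nil,
        not_or]
      exact ⟨by omega, by omega, by omega, by omega⟩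
    · intro g' hg'
      simp only [H278.El.SporNum.exc, List.mem_cons, Prod.mk.injEq, reduceCtorEq, and_false, or_false,
        List.not_mem_nil] at hg'
    · rw [Fintype.card_sum, Fintype.card_fin]
      exact (two_mul n).symm
    · intro hch
      rw [hF] at hT
      have hfull : Full (PSp n F) M := by
        intro r hr hd
        by_contra h1
        exact hmiss ⟨r, hr, hd, h1⟩
      obtain ⟨he, hg'⟩ := full_psp hT hp hf hn (by omega) (by omega) hM.1 hfull S hna hC hg hch
      subst hg'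
      exact not_ominus hT hp hp2 hf he hc S hC hg
    · intro s hs hsp hch
      rcases H884.Cx.cross_row hp hT trivial ⟨f, hF⟩ (by
        rw [Fintype.card_sum, Fintype.card_fin]; exact (two_mul n).symm) S hna hC hP.perfect e hs hsp hg hch with h | h
      · exact hmiss h
      · simp only [H884.Cx.excP, List.mem_cons, Prod.mk.injEq, Grp.psp.injEq, reduceCtorEq, and_false, or_false,
          false_or, List.not_mem_nil] at h
        omega
  · rcases h with ⟨-, he, -⟩ | ⟨h, -⟩
    · rw [hF] at he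
      exact (Nat.not_even_iff_odd.2 (hp.odd_of_ne_two hp2).pow) he
    · omega

/-- **S4785: the row `PSp(2n, q)`, `n ≥ 3`, `q` odd**, from the order table and the classification in `Type`. -/
theorem row_psp_of (tab : OrderTable.{0}) (hK : ∀ (X : Type) [Group X] [Finite X] [IsSimpleGroup X],
    Cfsg.IsKnownSimple' X) (n q : ℕ) (hn : 3 ≤ n) (h2 : ¬ 2 ∣ q) : RowN.{u} (.psp n q) := by
  intro T _ _ _ h
  obtain ⟨p, f, hp, hf, hpf⟩ := (isPrimePow_nat_iff _).1 h.cond.2.2
  have hp2 : p ≠ 2 := by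
    rintro rfl
    exact h2 (hpf ▸ dvd_pow_self 2 (by omega))
  obtain ⟨F, _, _, hF, ⟨e⟩⟩ := h.real
  have hfin : Finite (PSp n F) := Quotient.finite _
  exact (Cfsg.Agent.H453.OddM.Row.congr e.symm
    (rowC_psp tab hK hp hp2 hf (hF.trans hpf.symm) hn).row).row8

end Cfsg.Agent.H517.OddM
end

private theorem dce_5768db45bbbe : _root_.True := by
  try have : _root_.True := by simp only [_root_.Cfsg.Agent.H278.El.SporNum.exc.eq_1]
  try have : _root_.True := by simp only [_root_.Cfsg.Agent.H884.Cx.excP.eq_1]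
  try have : _root_.True := by simp only [_root_.Cfsg.Agent.H517.OddM.vec.eq_1]
  try have : _root_.True := by simp only [_root_.Cfsg.Agent.H278.El.AltNum.surv.eq_1]
  exact _root_.True.intro
end

-- part: H177/OM/GTwoRow_mg
section
prune_inst 0x35004100044000000000050240001e23aa000000000080008c2308000680e00000002020a8001001400000040030000000000080020000000a200400011900800080000411000000000096000000000000000000000000000000000000000000000000000
set_option linter.all false
open scoped Cfsg.Agent.FastGrp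

-- part: H177/OM/GTwoNum
section
/-!
# TEAM ODDM (S4785): `G₂(q)`, `q` odd: arithmetic and cross characteristic
-/

set_option autoImplicit false
set_option exponentiation.threshold 700

namespace Cfsg.Agent.H177.OM

open Cfsg.Agent.H902 Cfsg.Agent.H290.ElReg Cfsg.Agent.H290.ElTab Cfsg.Agent.H290.ElCross Cfsg.Agent.H563.KG
open Cfsg.Agent.H436 (Prim)

/-- the part of `q² + q + 1` prime to 3 -/
def n3 (q : ℕ) : ℕ := (q ^ 2 + q + 1) / Nat.gcd 3 (q ^ 2 + q + 1)

/-- the part of `q² - q + 1` prime to 3 -/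
def n6 (q : ℕ) : ℕ := (q ^ 2 - q + 1) / Nat.gcd 3 (q ^ 2 - q + 1)

variable {q : ℕ}

theorem n3_mul (q : ℕ) : n3 q * Nat.gcd 3 (q ^ 2 + q + 1) = q ^ 2 + q + 1 :=
  Nat.div_mul_cancel (Nat.gcd_dvd_right _ _)

theorem n6_mul (q : ℕ) : n6 q * Nat.gcd 3 (q ^ 2 - q + 1) = q ^ 2 - q + 1 :=
  Nat.div_mul_cancel (Nat.gcd_dvd_right _ _)

theorem gcd3 (n : ℕ) : Nat.gcd 3 n = 1 ∨ Nat.gcd 3 n = 3 := (Nat.dvd_prime Nat.prime_three).1 (Nat.gcd_dvd_left 3 n)

theorem nine_aux : ∀ x : ZMod 9, x ^ 2 + x + 1 ≠ 0 := by decide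

theorem nine_aux' : ∀ x : ZMod 9, x ^ 2 - x + 1 ≠ 0 := by decide

theorem two_aux : ∀ x : ZMod 2, x ^ 2 + x + 1 ≠ 0 := by decide

theorem two_aux' : ∀ x : ZMod 2, x ^ 2 - x + 1 ≠ 0 := by decide

theorem not_two (q : ℕ) : ¬ 2 ∣ q ^ 2 + q + 1 := by
  intro h
  have h1 := (ZMod.natCast_eq_zero_iff _ 2).2 h
  push_cast at h1
  exact two_aux _ h1

theorem not_two' (q : ℕ) : ¬ 2 ∣ q ^ 2 - q + 1 := by
  intro h
  have hle : q ≤ q ^ 2 := Nat.le_self_pow (by norm_num) q
  have h1 := (ZMod.natCast_eq_zero_iff _ 2).2 h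
  rw [Nat.cast_add, Nat.cast_sub hle] at h1
  push_cast at h1
  exact two_aux' _ h1

theorem not_nine (q : ℕ) : ¬ 9 ∣ q ^ 2 + q + 1 := by
  intro h
  have h1 := (ZMod.natCast_eq_zero_iff _ 9).2 h
  push_cast at h1
  exact nine_aux _ h1

theorem not_nine' (q : ℕ) : ¬ 9 ∣ q ^ 2 - q + 1 := by
  intro h
  have hle : q ≤ q ^ 2 := Nat.le_self_pow (by norm_num) q
  have h1 := (ZMod.natCast_eq_zero_iff _ 9).2 h
  rw [Nat.cast_add, Nat.cast_sub hle] at h1
  push_cast at h1
  exact nine_aux' _ h1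

theorem three_n3 : ¬ 3 ∣ n3 q := by
  intro h
  have h1 := n3_mul q
  rcases gcd3 (q ^ 2 + q + 1) with h2 | h2
  · rw [h2, mul_one] at h1
    rw [h1] at h
    have h3 := Nat.gcd_eq_left h
    omega
  · rw [h2] at h1
    apply not_nine q
    rw [← h1]
    exact Nat.mul_dvd_mul h (dvd_refl 3)

theorem three_n6 : ¬ 3 ∣ n6 q := by
  intro h
  have h1 := n6_mul q
  rcases gcd3 (q ^ 2 - q + 1) with h2 | h2
  · rw [h2, mul_one] at h1
    rw [h1] at h
    have h3 := Nat.gcd_eq_left h
    omega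
  · rw [h2] at h1
    apply not_nine' q
    rw [← h1]
    exact Nat.mul_dvd_mul h (dvd_refl 3)

theorem n3_dvd : n3 q ∣ q ^ 2 + q + 1 := Dvd.intro _ (n3_mul q)

theorem n6_dvd : n6 q ∣ q ^ 2 - q + 1 := Dvd.intro _ (n6_mul q)

/-- the primes of `n3 q` -/
theorem prim3 (hq : 1 ≤ q) {r : ℕ} (hr : r.Prime) (h : r ∣ n3 q) : Prim q 3 r := by
  have h1 : r ∣ q ^ 2 + q + 1 := h.trans n3_dvd
  have := Fact.mk hr
  have h2 : (q : ZMod r) ^ 2 + q + 1 = 0 := by
    have := (ZMod.natCast_eq_zero_iff _ r).2 h1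
    push_cast at this
    exact this
  refine prim_mk hr hq (by norm_num) (by linear_combination ((q : ZMod r) - 1) * h2) ?_
  intro s hs hs3
  obtain rfl := (Nat.prime_dvd_prime_iff_eq hs Nat.prime_three).1 hs3
  intro h3
  rw [show 3 / 3 = 1 from rfl, pow_one] at h3
  rw [h3] at h2
  have h4 : ((3 : ℕ) : ZMod r) = 0 := by push_cast; linear_combination h2
  have h5 := (Nat.prime_dvd_prime_iff_eq hr Nat.prime_three).1 ((ZMod.natCast_eq_zero_iff _ r).1 h4)
  subst h5
  exact three_n3 h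

/-- the primes of `n6 q` -/
theorem prim6 (hq : 1 ≤ q) {r : ℕ} (hr : r.Prime) (h : r ∣ n6 q) : Prim q 6 r := by
  have h1 : r ∣ q ^ 2 - q + 1 := h.trans n6_dvd
  have hle : q ≤ q ^ 2 := Nat.le_self_pow (by norm_num) q
  have := Fact.mk hr
  have h2 : (q : ZMod r) ^ 2 - q + 1 = 0 := by
    have := (ZMod.natCast_eq_zero_iff _ r).2 h1
    rw [Nat.cast_add, Nat.cast_sub hle] at this
    push_cast at this
    exact this
  have hr2 : r ≠ 2 := by
    rintro rfl
    exact not_two' q h1
  have hcube : (q : ZMod r) ^ 3 = -1 := by linear_combination ((q : ZMod r) + 1) * h2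
  refine prim_mk hr hq (by norm_num) (by linear_combination ((q : ZMod r) ^ 3 - 1) * hcube) ?_
  intro s hs hs6
  have h6 : s = 2 ∨ s = 3 := by
    rcases (hs.dvd_mul (m := 2) (n := 3)).1 hs6 with h | h
    · exact Or.inl ((Nat.prime_dvd_prime_iff_eq hs Nat.prime_two).1 h)
    · exact Or.inr ((Nat.prime_dvd_prime_iff_eq hs Nat.prime_three).1 h)
  rcases h6 with rfl | rfl
  · rw [show 6 / 2 = 3 from rfl, hcube]
    intro h3
    have h4 : ((2 : ℕ) : ZMod r) = 0 := by push_cast; linear_combination -h3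
    exact hr2 ((Nat.prime_dvd_prime_iff_eq hr Nat.prime_two).1 ((ZMod.natCast_eq_zero_iff _ r).1 h4))
  · rw [show 6 / 3 = 2 from rfl]
    intro h3
    have h4 : (q : ZMod r) = 2 := by linear_combination -h2 + h3
    have h5 : ((3 : ℕ) : ZMod r) = 0 := by rw [h4] at h3; push_cast; linear_combination h3
    have h7 := (Nat.prime_dvd_prime_iff_eq hr Nat.prime_three).1 ((ZMod.natCast_eq_zero_iff _ r).1 h5)
    subst h7
    exact three_n6 h

/-- a divisor of `n3 q` -/
theorem dvd_n3 {r : ℕ} (hq : 1 ≤ q) (h : Prim q 3 r) : r ∣ n3 q := by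
  have h1 := phi3 h hq
  rw [← n3_mul q] at h1
  refine (h.prime.dvd_mul.1 h1).resolve_right fun h2 => ?_
  have h3 := Nat.le_of_dvd (by norm_num) (h2.trans (Nat.gcd_dvd_left _ _))
  have h4 := Cfsg.Agent.H190.Exc.prim_gt h hq
  omega

theorem dvd_n6 {r : ℕ} (hq : 1 ≤ q) (h : Prim q 6 r) : r ∣ n6 q := by
  have h1 := phi6 h hq
  rw [← n6_mul q] at h1
  refine (h.prime.dvd_mul.1 h1).resolve_right fun h2 => ?_
  have h3 := Nat.le_of_dvd (by norm_num) (h2.trans (Nat.gcd_dvd_left _ _))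
  have h4 := Cfsg.Agent.H190.Exc.prim_gt h hq
  omega

theorem coprime36 (q : ℕ) : Nat.Coprime (q ^ 2 + q + 1) (q ^ 2 - q + 1) := by
  have hle : q ≤ q ^ 2 := Nat.le_self_pow (by norm_num) q
  rw [Nat.coprime_iff_gcd_eq_one]
  by_contra hne
  obtain ⟨r, hr, hrd⟩ := Nat.exists_prime_and_dvd hne
  have h1 := hrd.trans (Nat.gcd_dvd_left _ _)
  have h2 := hrd.trans (Nat.gcd_dvd_right _ _)
  have := Fact.mk hr
  have h3 : (q : ZMod r) ^ 2 + q + 1 = 0 := by
    have := (ZMod.natCast_eq_zero_iff _ r).2 h1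
    push_cast at this
    exact this
  have h4 : (q : ZMod r) ^ 2 - q + 1 = 0 := by
    have := (ZMod.natCast_eq_zero_iff _ r).2 h2
    rw [Nat.cast_add, Nat.cast_sub hle] at this
    push_cast at this
    exact this
  have hr2 : r ≠ 2 := by
    rintro rfl
    exact not_two q h1
  have h5 : ((2 : ℕ) : ZMod r) * q = 0 := by push_cast; linear_combination h3 - h4
  rcases mul_eq_zero.1 h5 with h6 | h6
  · exact hr2 ((Nat.prime_dvd_prime_iff_eq hr Nat.prime_two).1 ((ZMod.natCast_eq_zero_iff _ r).1 h6))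
  · rw [h6] at h3
    simp at h3

theorem coprime_n (q : ℕ) : Nat.Coprime (n3 q) (n6 q) :=
  Nat.Coprime.of_dvd n3_dvd n6_dvd (coprime36 q)

/-- the product is large -/
theorem mul_large (hq : 3 ≤ q) : q ^ 4 ≤ 9 * (n3 q * n6 q) := by
  have hle : q ≤ q ^ 2 := Nat.le_self_pow (by norm_num) q
  have h1 : q ^ 2 + q + 1 ≤ n3 q * 3 := by
    conv_lhs => rw [← n3_mul q]
    exact Nat.mul_le_mul_left _ (Nat.le_of_dvd (by norm_num) (Nat.gcd_dvd_left _ _))
  have h2 : q ^ 2 - q + 1 ≤ n6 q * 3 := by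
    conv_lhs => rw [← n6_mul q]
    exact Nat.mul_le_mul_left _ (Nat.le_of_dvd (by norm_num) (Nat.gcd_dvd_left _ _))
  have h3 : (q ^ 2 + q + 1) * (q ^ 2 - q + 1) = q ^ 4 + q ^ 2 + 1 := by
    zify [hle]
    ring
  have h4 := Nat.mul_le_mul h1 h2
  rw [h3] at h4
  have h5 : n3 q * 3 * (n6 q * 3) = 9 * (n3 q * n6 q) := by ring
  omega

/-- the order of `G₂(q)` -/
def og (q : ℕ) : ℕ := q ^ 6 * ((q ^ 2 - 1) * (q ^ 6 - 1))

/-- cross characteristic: the test -/
def tg (x : Art.Sh × ℕ × ℕ) : Bool :=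
  let M := OL x.1 (x.2.1 ^ x.2.2)
  let d := Art.dd x.1 (x.2.1 ^ x.2.2)
  Nat.ble (De (pd (NS x.1 x.2.1 x.2.2)) M 6) 91 && Nat.blt M (2 ^ 600) && (x.2.1 == 3 ||
    !(M % 91 == 0 && (d * og 3) % M == 0 && M % (32 * d) == 0))

theorem tg_reg : ((reg 14).all tg) = true := by decide +kernel

/-- sporadic groups: the test -/
def tsp (x : Cfsg.Agent.OrdDiv.Grp × ℕ) : Bool :=
  let D := De (pd x.2) x.2 6
  Nat.ble D (2 * 10 ^ 11) && Nat.blt x.2 (2 ^ 600) && ((List.range 600).all fun k =>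
    !(D % (n3 (2 * k + 3) * n6 (2 * k + 3)) == 0 && og (2 * k + 3) % x.2 == 0))

theorem tsp_all : (Cfsg.Agent.OrdDiv.spor.all tsp) = true := by decide +kernel

end Cfsg.Agent.H177.OM
end

-- part: H177/OM/GTwoCross
section
/-!
# TEAM ODDM (S4785): subgroups of odd index of `G₂(q)`, `q` odd, containing the tori of the classes 3 and 6
-/

set_option autoImplicit false

namespace Cfsg.Agent.H177.OM

open Cfsg Cfsg.Agent.OrdDiv Cfsg.Agent.H902 Cfsg.Agent.H290.ElReg Cfsg.Agent.H290.ElTab Cfsg.Agent.H290.ElCross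
  Cfsg.Agent.H563.KG
open Cfsg.Agent.H436 (Prim)

variable {q : ℕ}

/-! ### arithmetic -/

theorem n3_ge (hq : 3 ≤ q) (hodd : ¬ 2 ∣ q) : 13 ≤ n3 q := by
  have h1 : q ^ 2 + q + 1 ≤ n3 q * 3 := by
    conv_lhs => rw [← n3_mul q]
    exact Nat.mul_le_mul_left _ (Nat.le_of_dvd (by norm_num) (Nat.gcd_dvd_left _ _))
  rcases Nat.lt_or_ge q 7 with h | h
  · have h2 : q = 3 ∨ q = 5 := by omega
    rcases h2 with rfl | rfl <;> decide
  · have h3 : 7 * 7 ≤ q * q := Nat.mul_le_mul h h
    have h4 : q ^ 2 = q * q := sq q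
    omega

theorem n3_gt (hq : 5 ≤ q) (hodd : ¬ 2 ∣ q) : 14 < n3 q := by
  have h1 : q ^ 2 + q + 1 ≤ n3 q * 3 := by
    conv_lhs => rw [← n3_mul q]
    exact Nat.mul_le_mul_left _ (Nat.le_of_dvd (by norm_num) (Nat.gcd_dvd_left _ _))
  rcases Nat.lt_or_ge q 7 with h | h
  · have h2 : q = 5 := by omega
    subst h2
    decide
  · have h3 : 7 * 7 ≤ q * q := Nat.mul_le_mul h h
    have h4 : q ^ 2 = q * q := sq q
    omega

theorem n6_ge (hq : 3 ≤ q) (hodd : ¬ 2 ∣ q) : 7 ≤ n6 q := by
  have h1 : q ^ 2 - q + 1 ≤ n6 q * 3 := by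
    conv_lhs => rw [← n6_mul q]
    exact Nat.mul_le_mul_left _ (Nat.le_of_dvd (by norm_num) (Nat.gcd_dvd_left _ _))
  rcases Nat.lt_or_ge q 7 with h | h
  · have h2 : q = 3 ∨ q = 5 := by omega
    rcases h2 with rfl | rfl <;> decide
  · have h3 : 7 * q ≤ q * q := Nat.mul_le_mul_right q h
    have h4 : q ^ 2 = q * q := sq q
    omega

theorem n6_gt (hq : 7 ≤ q) : 14 < n6 q := by
  have h1 : q ^ 2 - q + 1 ≤ n6 q * 3 := by
    conv_lhs => rw [← n6_mul q]
    exact Nat.mul_le_mul_left _ (Nat.le_of_dvd (by norm_num) (Nat.gcd_dvd_left _ _))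
  have h3 : 7 * q ≤ q * q := Nat.mul_le_mul_right q hq
  have h4 : q ^ 2 = q * q := sq q
  omega

/-- the multiplication of the two numbers -/
theorem mul_dvd {N : ℕ} (ha : n3 q ∣ N) (hb : n6 q ∣ N) : n3 q * n6 q ∣ N :=
  (coprime_n q).mul_dvd_of_dvd_of_dvd ha hb

theorem mod6 {r : ℕ} (hq : 2 ≤ q) (h : Prim q 3 r ∨ Prim q 6 r) : (r - 1) % 6 = 0 ∧ 7 ≤ r := by
  rcases h with h | h
  · have h1 := mod_of_prim hq (by norm_num) h
    have h2 := h.prime.two_le
    have h3 := Cfsg.Agent.H190.Exc.prim_gt h (by omega)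
    have h4 := h.prime.eq_two_or_odd
    omega
  · have h1 := mod_of_prim hq (by norm_num) h
    have h3 := Cfsg.Agent.H190.Exc.prim_gt h (by omega)
    omega

/-- cross characteristic -/
theorem no_cross_g2 {X : Art.Sh} {l a N : ℕ}
    (hR : Art.Real X l a N) (hlb : lb X (l ^ a) ≤ 14) (hq3 : 3 ≤ q) (hodd : ¬ 2 ∣ q) (hlq : l = 3 → ¬ 3 ∣ q)
    (hab : n3 q * n6 q ∣ N) (hd : N ∣ og q) (h32 : 32 ∣ N) : False := by
  obtain ⟨hl, ha, hokX, heq⟩ := hR
  have hreg := mem_reg (by norm_num) hl ha hokX hlb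
  have hs' : smooth (NA X l a) = true :=
    List.all_eq_true.1 smooth_reg (X, (l, a)) (mem_reg le_rfl hl ha hokX (hlb.trans (by norm_num)))
  have hsS : smooth (NS X l a) = true := by
    have h1 : NS X l a ∣ NA X l a := Dvd.intro_left _ rfl
    have h2 : NA X l a ∣ prs.prod ^ 100 := Nat.dvd_of_mod_eq_zero (by simpa [smooth] using hs')
    simpa [smooth] using Nat.mod_eq_zero_of_dvd (h1.trans h2)
  have hM : OL X (l ^ a) = Art.dd X (l ^ a) * N := by unfold OL; rw [numL_eq]; exact heq.symm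
  have hNM : N ∣ OL X (l ^ a) := Dvd.intro_left _ hM.symm
  have hNS : ∀ r, r.Prime → r ∣ N → r ∣ NS X l a := by
    intro r hr h
    unfold NS
    have h1 : r ∣ (l ^ a) ^ Art.NN X * numL X (l ^ a) := h.trans hNM
    rcases hr.dvd_mul.1 h1 with h2 | h2
    · exact (hr.dvd_of_dvd_pow (hr.dvd_of_dvd_pow h2)).mul_right _
    · exact h2.mul_left _
  have ht := List.all_eq_true.1 tg_reg (X, (l, a)) hreg
  simp only [tg, Bool.and_eq_true, Nat.ble_eq, Nat.blt_eq, Bool.or_eq_true, beq_iff_eq] at ht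
  obtain ⟨⟨ht1, ht2⟩, ht3⟩ := ht
  have hM0 : OL X (l ^ a) ≠ 0 := by
    intro h0
    have h3 : l ^ a ≠ 0 := pow_ne_zero _ hl.ne_zero
    have h4 : NS X l a ≠ 0 := by
      intro h5
      have h6 : NS X l a ∣ prs.prod ^ 100 := Nat.dvd_of_mod_eq_zero (by simpa [smooth] using hsS)
      rw [h5] at h6
      have h7 := Nat.eq_zero_of_zero_dvd h6
      have h8 : prs.prod ≠ 0 := by decide +kernel
      exact pow_ne_zero 100 h8 h7
    apply h4
    unfold OL at h0
    rcases Nat.mul_eq_zero.1 h0 with h5 | h5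
    · exact absurd h5 (pow_ne_zero _ h3)
    · unfold NS
      rw [h5, mul_zero]
  have hq2 : 2 ≤ q := by omega
  have h1 : n3 q * n6 q ∣ De (pd (NS X l a)) (OL X (l ^ a)) 6 := by
    refine dvd_De hM0 ht2 (hab.trans hNM) fun r hr hrd => ?_
    have hprim : Prim q 3 r ∨ Prim q 6 r :=
      (hr.dvd_mul.1 hrd).imp (prim3 (by omega) hr) (prim6 (by omega) hr)
    exact ⟨mem_pd hsS hr (hNS r hr (hrd.trans hab)), (mod6 hq2 hprim).1⟩
  have h2 : n3 q * n6 q ≤ 91 := by
    have h3 : De (pd (NS X l a)) (OL X (l ^ a)) 6 ≠ 0 := by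
      unfold De
      intro h4
      rw [List.prod_eq_zero_iff, List.mem_map] at h4
      obtain ⟨r, -, h5⟩ := h4
      exact hM0 (Nat.eq_zero_of_gcd_eq_zero_left h5)
    exact (Nat.le_of_dvd (Nat.pos_of_ne_zero h3) h1).trans ht1
  have h3 : q = 3 := by
    have h4 := mul_large hq3
    have h5 : q < 7 := by
      by_contra hcon
      have h6 : 7 ^ 4 ≤ q ^ 4 := Nat.pow_le_pow_left (by omega) 4
      omega
    have h6 : q = 3 ∨ q = 5 := by (clear * - hq3 hodd h5; omega)
    rcases h6 with h6 | h6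
    · exact h6
    · exfalso
      subst h6
      revert h2
      decide
  subst h3
  rcases ht3 with h4 | h4
  · exact hlq h4 dvd_rfl
  · have h5 : OL X (l ^ a) % 91 = 0 := by
      refine Nat.mod_eq_zero_of_dvd (dvd_trans ?_ (hab.trans hNM))
      decide
    have h6 : Art.dd X (l ^ a) * og 3 % OL X (l ^ a) = 0 := by
      rw [hM]
      exact Nat.mod_eq_zero_of_dvd (Nat.mul_dvd_mul_left _ hd)
    have h7 : OL X (l ^ a) % (32 * Art.dd X (l ^ a)) = 0 := by
      rw [hM, mul_comm 32]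
      exact Nat.mod_eq_zero_of_dvd (Nat.mul_dvd_mul_left _ h32)
    rw [h5, h6, h7] at h4
    simp at h4

/-- sporadic groups -/
theorem no_spor_g2 {x : Grp × ℕ} (hx : x ∈ spor) (hq3 : 3 ≤ q) (hodd : ¬ 2 ∣ q)
    (hab : n3 q * n6 q ∣ x.2) (hd : x.2 ∣ og q) : False := by
  have hs' : smooth x.2 = true := List.all_eq_true.1 smooth_spor x hx
  have ht := List.all_eq_true.1 tsp_all x hx
  simp only [tsp, Bool.and_eq_true, Nat.ble_eq, Nat.blt_eq] at ht
  obtain ⟨⟨ht1, ht2⟩, ht3⟩ := ht
  have hM0 : x.2 ≠ 0 := by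
    have : ∀ x ∈ spor, x.2 ≠ 0 := by decide +kernel
    exact this x hx
  have hq2 : 2 ≤ q := by omega
  have h1 : n3 q * n6 q ∣ De (pd x.2) x.2 6 := by
    refine dvd_De hM0 ht2 hab fun r hr hrd => ?_
    have hprim : Prim q 3 r ∨ Prim q 6 r :=
      (hr.dvd_mul.1 hrd).imp (prim3 (by omega) hr) (prim6 (by omega) hr)
    exact ⟨mem_pd hs' hr (hrd.trans hab), (mod6 hq2 hprim).1⟩
  have h2 : n3 q * n6 q ≤ 2 * 10 ^ 11 := by
    have h3 : De (pd x.2) x.2 6 ≠ 0 := by
      unfold De
      intro h4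
      rw [List.prod_eq_zero_iff, List.mem_map] at h4
      obtain ⟨r, -, h5⟩ := h4
      exact hM0 (Nat.eq_zero_of_gcd_eq_zero_left h5)
    exact (Nat.le_of_dvd (Nat.pos_of_ne_zero h3) h1).trans ht1
  have h4 := mul_large hq3
  have h5 : q < 1200 := by
    by_contra hcon
    have h6 : 1200 ^ 4 ≤ q ^ 4 := Nat.pow_le_pow_left (by omega) 4
    omega
  have h6 := List.all_eq_true.1 ht3 ((q - 3) / 2) (List.mem_range.2 (by omega))
  have h7 : 2 * ((q - 3) / 2) + 3 = q := by (clear * - hq3 hodd; omega)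
  rw [h7, Nat.mod_eq_zero_of_dvd h1, Nat.mod_eq_zero_of_dvd hd] at h6
  simp at h6

end Cfsg.Agent.H177.OM
end

-- part: H177/OM/GTwoK
section
/-!
# TEAM ODDM (S4785): subgroups of odd index of `G₂(q)`, `q` odd, containing the tori of the classes 3 and 6

* `ident_G2` : the simple normal subgroup;
* `k_g2_odd` : a subgroup of odd index of `G₂(q)`, whose index is prime to the primitive prime divisors of `q^3 - 1` and
  `q^6 - 1`, is `⊤`.
-/

set_option autoImplicit false

namespace Cfsg.Agent.H177.OM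

open Cfsg Cfsg.Agent.OrdDiv Cfsg.Agent.H436 Cfsg.Agent.H902 Cfsg.Agent.H902.Names Cfsg.Agent.H915.GN
  Cfsg.Agent.H290.ElReg Cfsg.Agent.H290.ElTab Cfsg.Agent.H290.ElCross Cfsg.Agent.H264.FKS Cfsg.Agent.H563.KG
  Cfsg.Agent.H56.Exc Cfsg.Lie Cfsg.Agent.H325.Loc

variable {p f q : ℕ}

/-- the order of `PSL₂` -/
theorem psl2_ord {Q : ℕ} (hQ : 2 ≤ Q) (hodd : ¬ 2 ∣ Q) {S : Type} [Group S] (h : IsNamed (.psl 2 Q) S) :
    2 * Nat.card S = Q * (Q ^ 2 - 1) := by
  have h1 := h.eq
  have h2 : den (.psl 2 Q) = Nat.gcd 2 (Q - 1) * (Q - 1) := rfl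
  have h3 : num (.psl 2 Q) = (Q ^ 2 - 1) * (Q ^ 2 - Q) := by
    show glN 2 Q = _
    simp only [glN, List.range_succ, _root_.List.range_zero, _root_.List.nil_append, _root_.List.cons_append, _root_.List.map_cons, _root_.pow_zero, _root_.pow_one, _root_.List.map_nil, _root_.List.prod_cons, _root_.List.prod_nil, _root_.mul_one]
  have h4 : Nat.gcd 2 (Q - 1) = 2 := Nat.gcd_eq_left (by omega)
  rw [h2, h3, h4] at h1
  have h5 : Q ^ 2 - Q = (Q - 1) * Q := by rw [Nat.sub_mul, one_mul, sq]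
  rw [h5] at h1
  have h6 : 0 < Q - 1 := by omega
  apply Nat.eq_of_mul_eq_mul_left h6
  calc (Q - 1) * (2 * Nat.card S) = 2 * (Q - 1) * Nat.card S := by ring
    _ = (Q ^ 2 - 1) * ((Q - 1) * Q) := h1
    _ = (Q - 1) * (Q * (Q ^ 2 - 1)) := by ring

/-- **The identification of the simple group.** -/
theorem ident_G2 (tb : OrderTable.{0}) (hp : p.Prime) (hp2 : p ≠ 2) (hf : 1 ≤ f) {F : Type} [Field F] [CharP F p]
    {S : Type} [Group S] [Finite S] [IsSimpleGroup S] (hna : ¬ IsMulCommutative S) (hK : IsKnownSimple' S)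
    (hrep : Fth 14 F S)
    (hbig : ∀ r, Prim (p ^ f) 3 r ∨ Prim (p ^ f) 6 r → (∀ x : S, orderOf x = r → IsCyclic ↥(Subgroup.centralizer {x})) ∧
      r ∣ Nat.card S)
    (ha : n3 (p ^ f) ∣ Nat.card S) (hb : n6 (p ^ f) ∣ Nat.card S) (h32 : 32 ∣ Nat.card S)
    (hd : Nat.card S ∣ og (p ^ f)) :
    Nat.card S = og (p ^ f) ∨ 2 * Nat.card S = (p ^ f) ^ 3 * ((p ^ f) ^ 6 - 1) := by
  have hna' : ¬ ∀ a b : S, a * b = b * a := fun h => hna ⟨⟨h⟩⟩
  have hp3 : 3 ≤ p := by have := hp.two_le; omega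
  have hq3 : 3 ≤ p ^ f := hp3.trans (Nat.le_self_pow (by omega) p)
  have hq2 : 2 ≤ p ^ f := by omega
  have hodd : ¬ 2 ∣ p ^ f := fun h =>
    hp2 ((Nat.prime_dvd_prime_iff_eq Nat.prime_two hp).1 (Nat.prime_two.dvd_of_dvd_pow h)).symm
  have hab := mul_dvd ha hb
  obtain ⟨r, hr⟩ := exists_prim hq2 (show 3 ≤ 3 by omega) (by omega)
  obtain ⟨s, hs⟩ := exists_prim hq2 (show 3 ≤ 6 by omega) (by omega)
  obtain ⟨g, hgS⟩ := exists_named tb hK hna'
  rcases Cfsg.Agent.H192.Singer.cases_name hgS.cond with ⟨m, rfl⟩ | hsp | ⟨l, hl, hch⟩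
  · exfalso
    obtain ⟨Φ⟩ : Nonempty (S ≃* alternatingGroup (Fin m)) := hgS.real
    have hm : 5 ≤ m := hgS.cond
    have hnil : ∀ r, Prim (p ^ f) 3 r ∨ Prim (p ^ f) 6 r → ∀ x : S, orderOf x = r →
        Group.IsNilpotent (Subgroup.centralizer ({x} : Set S)) := by
      intro r hr x hx
      have := (hbig r hr).1 x hx
      let _ := IsCyclic.commGroup (α := ↥(Subgroup.centralizer ({x} : Set S)))
      infer_instance
    have h1 := mod6 hq2 (Or.inl hr)
    have h2 := mod6 hq2 (Or.inr hs)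
    have hne : r ≠ s := by
      rintro rfl
      have h3 := (hs.dvd_iff 3).1 ((hr.dvd_iff 3).2 dvd_rfl)
      revert h3
      decide
    rcases Nat.lt_or_gt_of_ne hne with h | h
    · exact Cfsg.Agent.H290.ElRich.not_alt hr.prime hs.prime (by omega) (by omega) (by omega) Φ
        (hbig r (Or.inl hr)).2 (hbig s (Or.inr hs)).2 (hnil r (Or.inl hr))
    · exact Cfsg.Agent.H290.ElRich.not_alt hs.prime hr.prime (by omega) (by omega) (by omega) Φ
        (hbig s (Or.inr hs)).2 (hbig r (Or.inl hr)).2 (hnil s (Or.inr hs))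
  · exfalso
    have h1 := Cfsg.Agent.H192.Singer.spor_mem hsp
    have h2 : Nat.card S = ordN g := hgS.ord
    exact no_spor_g2 h1 hq3 hodd (by rw [← h2]; exact hab) (by rw [← h2]; exact hd)
  · by_cases hpl : p = l
    · subst hpl
      rcases Cfsg.Agent.H325.Same.charp_g2 hp hf (fun h => hp2 h.1) hgS.cond hch hgS.eq hd
        (fun s hs _ => (hbig s (Or.inl hs)).2) (fun s hs _ => (hbig s (Or.inr hs)).2) with h1 | h1 | h1
      · subst h1
        left
        have h2 := hgS.eq
        rw [show den (.g2 (p ^ f)) = 1 from rfl, one_mul] at h2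
        exact h2
      · subst h1
        right
        have h2 : 2 ≤ p ^ (3 * f) := hp.two_le.trans (Nat.le_self_pow (by omega) p)
        rw [psl2_ord h2 (fun h => hp2 ((Nat.prime_dvd_prime_iff_eq Nat.prime_two hp).1
          (Nat.prime_two.dvd_of_dvd_pow h)).symm) hgS]
        have e1 : p ^ (3 * f) = (p ^ f) ^ 3 := by rw [← pow_mul, mul_comm]
        rw [e1, ← pow_mul (p ^ f) 3 2]
      · exact absurd h1.1 hp2
    · exfalso
      obtain ⟨X, f₁, h1, h2, -⟩ := exists_lie hl hgS hch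
      have hlF : (l : F) ≠ 0 := by
        intro h
        exact hpl ((Nat.prime_dvd_prime_iff_eq hp hl).1 ((CharP.cast_eq_zero_iff F p l).1 h))
      have h3 := lb_le hna' (by norm_num) hrep h1 hgS.real h2 hlF
      refine no_cross_g2 h2 h3 hq3 hodd ?_ hab hd h32
      rintro rfl h4
      exact hpl ((Nat.prime_dvd_prime_iff_eq Nat.prime_three hp).1 (Nat.prime_three.dvd_of_dvd_pow h4)).symm

/-- the family -/
def BG (q : ℕ) : ℕ → ℕ → ℕ → Prop := fun r m e =>
  e = 6 ∧ (Prim q 3 r ∧ m = q ^ 2 + q + 1 ∨ Prim q 6 r ∧ m = q ^ 2 - q + 1)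

theorem prBG {q r : ℕ} : Pr (BG q) r ↔ Prim q 3 r ∨ Prim q 6 r := by
  constructor
  · rintro ⟨_, _, -, h | h⟩
    · exact Or.inl h.1
    · exact Or.inr h.1
  · rintro (h | h)
    · exact ⟨_, _, rfl, Or.inl ⟨h, rfl⟩⟩
    · exact ⟨_, _, rfl, Or.inr ⟨h, rfl⟩⟩

theorem fth_G2 {F : Type} [Field F] : Fth 14 F ↥(Lie.chevG2.group F) := by
  have h := Fth.of (ρ := (Lie.chevG2.group F).subtype) (Lie.chevG2.group F).subtype_injective
  have h1 : Fintype.card Lie.chevG2.Idx = 14 := by decide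
  rwa [h1] at h

variable {F : Type} [Field F] [Fintype F]

/-- **Subgroups of odd index of `G₂(q)` containing the tori of the classes 3 and 6.** -/
theorem k_g2_odd (tb : OrderTable.{0}) (hkn : ∀ (S : Type) [Group S] [Finite S], IsSimpleGroup S → IsKnownSimple' S)
    (hE : CycFixSolv.{0}) (hp : p.Prime) (hp2 : p ≠ 2) (hf : 1 ≤ f) (hF : Fintype.card F = p ^ f)
    (hpiso : ∀ r, Prim (p ^ f) 3 r → PIso p r ↥(chevG2.group F))
    (M : Subgroup ↥(chevG2.group F)) (hodd : Odd M.index)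
    (hM : ∀ r, Prim (p ^ f) 3 r ∨ Prim (p ^ f) 6 r → ¬ r ∣ M.index) : M = ⊤ := by
  have hp3 : 3 ≤ p := by have := hp.two_le; omega
  have hq3 : 3 ≤ p ^ f := hp3.trans (Nat.le_self_pow (by omega) p)
  have hq2 : 2 ≤ p ^ f := by omega
  have hq1 : 1 ≤ p ^ f := by omega
  have h2q : ¬ 2 ∣ p ^ f := fun h =>
    hp2 ((Nat.prime_dvd_prime_iff_eq Nat.prime_two hp).1 (Nat.prime_two.dvd_of_dvd_pow h)).symm
  have : Fact p.Prime := ⟨hp⟩
  have : CharP F p := charP_of_card_eq_prime_pow hF
  have hle : p ^ f ≤ (p ^ f) ^ 2 := Nat.le_self_pow (by norm_num) _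
  have hcard : Nat.card ↥(chevG2.group F) = og (p ^ f) := by
    have h1 := ord_G2 hF
    have h3 : ((og (p ^ f) : ℕ) : ℤ) = ((p ^ f : ℕ) : ℤ) ^ 6 * (((p ^ f : ℕ) : ℤ) ^ 2 - 1) * (((p ^ f : ℕ) : ℤ) ^ 6 - 1) := by
      unfold og
      rw [Nat.cast_mul, Nat.cast_mul, Nat.cast_sub (Nat.one_le_pow _ _ hq1), Nat.cast_sub (Nat.one_le_pow _ _ hq1)]
      push_cast
      ring
    exact_mod_cast h1.trans h3.symm
  have h8 := eight_dvd h2q
  have h8' : 8 ∣ (p ^ f) ^ 6 - 1 := by
    have h4 : (p ^ f) ^ 2 - 1 ∣ (p ^ f) ^ 6 - 1 := by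
      have := Nat.sub_dvd_pow_sub_pow ((p ^ f) ^ 2) 1 3
      rwa [one_pow, ← pow_mul (p ^ f) 2 3] at this
    exact h8.trans h4
  have h64M : 2 ^ 6 ∣ Nat.card M := by
    have h64 : 2 ^ 6 ∣ Nat.card ↥(chevG2.group F) := by
      rw [hcard]
      exact (Nat.mul_dvd_mul h8 h8').mul_left _
    rw [← M.card_mul_index] at h64
    exact (Nat.Coprime.pow_left 6 ((Nat.coprime_two_left).2 hodd)).dvd_of_dvd_mul_right h64
  have hbig3 : ∀ r, Prim (p ^ f) 3 r → Big ↥(chevG2.group F) r ((p ^ f) ^ 2 + p ^ f + 1) 6 := fun r hr =>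
    big_G2_3 hF (by push_cast; ring) hr
  have hbig6 : ∀ r, Prim (p ^ f) 6 r → Big ↥(chevG2.group F) r ((p ^ f) ^ 2 - p ^ f + 1) 6 := fun r hr =>
    big_G2_6 hF (by push_cast [Nat.cast_sub hle]; ring) hr
  have hdvd3 : n3 (p ^ f) ∣ Nat.card ↥(chevG2.group F) := by
    rw [hcard]
    refine Dvd.dvd.mul_left (Dvd.dvd.mul_left ?_ _) _
    refine n3_dvd.trans ⟨((p ^ f) ^ 3 + 1) * (p ^ f - 1), ?_⟩
    have h4 : 1 ≤ (p ^ f) ^ 6 := Nat.one_le_pow _ _ hq1
    zify [h4, hq1]
    ring
  have hdvd6 : n6 (p ^ f) ∣ Nat.card ↥(chevG2.group F) := by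
    rw [hcard]
    refine Dvd.dvd.mul_left (Dvd.dvd.mul_left ?_ _) _
    refine n6_dvd.trans ⟨((p ^ f) ^ 3 - 1) * (p ^ f + 1), ?_⟩
    have h4 : 1 ≤ (p ^ f) ^ 6 := Nat.one_le_pow _ _ hq1
    have h5 : 1 ≤ (p ^ f) ^ 3 := Nat.one_le_pow _ _ hq1
    zify [h4, h5, hle]
    ring
  have hcop3 : ∀ {n : ℕ}, (∀ r, Prim (p ^ f) 3 r ∨ Prim (p ^ f) 6 r → ¬ r ∣ n) → (n3 (p ^ f)).Coprime n := by
    intro n hn
    exact Nat.coprime_of_dvd fun k hk h1 h2 => hn k (Or.inl (prim3 hq1 hk h1)) h2
  have hcop6 : ∀ {n : ℕ}, (∀ r, Prim (p ^ f) 3 r ∨ Prim (p ^ f) 6 r → ¬ r ∣ n) → (n6 (p ^ f)).Coprime n := by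
    intro n hn
    exact Nat.coprime_of_dvd fun k hk h1 h2 => hn k (Or.inr (prim6 hq1 hk h1)) h2
  have hd3M : n3 (p ^ f) ∣ Nat.card M := by
    rw [← Subgroup.card_mul_index M] at hdvd3
    exact (hcop3 hM).dvd_of_dvd_mul_right hdvd3
  have hd6M : n6 (p ^ f) ∣ Nat.card M := by
    rw [← Subgroup.card_mul_index M] at hdvd6
    exact (hcop6 hM).dvd_of_dvd_mul_right hdvd6
  have hrM : ∀ r, Prim (p ^ f) 3 r ∨ Prim (p ^ f) 6 r → r ∣ Nat.card M := by
    rintro r (hr | hr)
    · exact (dvd_n3 hq1 hr).trans hd3M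
    · exact (dvd_n6 hq1 hr).trans hd6M
  obtain ⟨r₀, hr₀⟩ := exists_prim hq2 (show 3 ≤ 3 by omega) (by omega)
  -- free actions
  have hfree3 : ∀ t : ℕ, t.Prime → ¬ t ∣ (p ^ f) ^ 2 + p ^ f + 1 → Free ↥(chevG2.group F) t (n3 (p ^ f)) := by
    intro t ht hnt x hx hxm a hat hc
    have h1 : Prim (p ^ f) 3 (orderOf x) := prim3 hq1 hx hxm
    have h2 := (hbig3 _ h1).card x rfl
    have h3 : a ∈ Subgroup.centralizer ({x} : Set ↥(chevG2.group F)) := by
      rw [Subgroup.mem_centralizer_singleton_iff]; exact hc.symm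
    have h4 : orderOf a ∣ (p ^ f) ^ 2 + p ^ f + 1 := by
      refine dvd_trans ?_ h2
      rw [← Subgroup.orderOf_mk a h3]
      exact orderOf_dvd_natCard _
    have h5 : orderOf a ∣ t := orderOf_dvd_of_pow_eq_one hat
    rcases (Nat.dvd_prime ht).1 h5 with h6 | h6
    · exact orderOf_eq_one_iff.1 h6
    · exact absurd (h6 ▸ h4) hnt
  have hfree6 : ∀ t : ℕ, t.Prime → ¬ t ∣ (p ^ f) ^ 2 - p ^ f + 1 → Free ↥(chevG2.group F) t (n6 (p ^ f)) := by
    intro t ht hnt x hx hxm a hat hc
    have h1 : Prim (p ^ f) 6 (orderOf x) := prim6 hq1 hx hxm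
    have h2 := (hbig6 _ h1).card x rfl
    have h3 : a ∈ Subgroup.centralizer ({x} : Set ↥(chevG2.group F)) := by
      rw [Subgroup.mem_centralizer_singleton_iff]; exact hc.symm
    have h4 : orderOf a ∣ (p ^ f) ^ 2 - p ^ f + 1 := by
      refine dvd_trans ?_ h2
      rw [← Subgroup.orderOf_mk a h3]
      exact orderOf_dvd_natCard _
    have h5 : orderOf a ∣ t := orderOf_dvd_of_pow_eq_one hat
    rcases (Nat.dvd_prime ht).1 h5 with h6 | h6
    · exact orderOf_eq_one_iff.1 h6
    · exact absurd (h6 ▸ h4) hnt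
  have hnot3 : ∀ t : ℕ, t.Prime → t ≠ 3 → ¬ Prim (p ^ f) 3 t → ¬ t ∣ (p ^ f) ^ 2 + p ^ f + 1 := by
    intro t ht ht3 hnt h
    rw [← n3_mul] at h
    rcases ht.dvd_mul.1 h with h1 | h1
    · exact hnt (prim3 hq1 ht h1)
    · exact ht3 ((Nat.prime_dvd_prime_iff_eq ht Nat.prime_three).1 (h1.trans (Nat.gcd_dvd_left _ _)))
  have hnot6 : ∀ t : ℕ, t.Prime → t ≠ 3 → ¬ Prim (p ^ f) 6 t → ¬ t ∣ (p ^ f) ^ 2 - p ^ f + 1 := by
    intro t ht ht3 hnt h
    rw [← n6_mul] at h
    rcases ht.dvd_mul.1 h with h1 | h1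
    · exact hnt (prim6 hq1 ht h1)
    · exact ht3 ((Nat.prime_dvd_prime_iff_eq ht Nat.prime_three).1 (h1.trans (Nat.gcd_dvd_left _ _)))
  let τ : ↥M →* Matrix.GeneralLinearGroup chevG2.Idx F := (chevG2.group F).subtype.comp M.subtype
  have hτ : Function.Injective τ := (chevG2.group F).subtype_injective.comp M.subtype_injective
  have hcI : Fintype.card chevG2.Idx = 14 := by decide
  have hred : Red M (Pr (BG (p ^ f))) := by
    refine red_of hE (p := p) hτ
      (pcore_of_piso ((hpiso r₀ hr₀).sub M) (hrM _ (Or.inl hr₀))) (prBG.2 (Or.inl hr₀)) hr₀.prime (hrM _ (Or.inl hr₀))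
      ((hbig3 _ hr₀).subgroup M).cyc ?_
    intro t ht htp hnt _
    have hn3 : ¬ Prim (p ^ f) 3 t := fun h => hnt (prBG.2 (Or.inl h))
    have hn6 : ¬ Prim (p ^ f) 6 t := fun h => hnt (prBG.2 (Or.inr h))
    rw [hcI]
    by_cases ht3 : t = 3
    · subst ht3
      have h5 : 5 ≤ p ^ f := by
        have h6 : p ^ f ≠ 3 := fun h => htp
          ((Nat.prime_dvd_prime_iff_eq Nat.prime_three hp).1 (Nat.prime_three.dvd_of_dvd_pow (dvd_of_eq h.symm)))
        (clear * - hq3 h2q h6; omega)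
      by_cases h33 : 3 ∣ (p ^ f) ^ 2 + p ^ f + 1
      · have h36 : ¬ 3 ∣ (p ^ f) ^ 2 - p ^ f + 1 := fun h36 => by
          have := Nat.dvd_gcd h33 h36
          rw [Nat.coprime_iff_gcd_eq_one.1 (coprime36 (p ^ f))] at this
          revert this; decide
        have h7 : 7 ≤ p ^ f := by
          have h8 : p ^ f ≠ 5 := fun h => by rw [h] at h33; revert h33; decide
          (clear * - h2q h5 h8; omega)
        exact ⟨n6 (p ^ f), hd6M, (hfree6 3 ht h36).subgroup M, Or.inl (n6_gt h7)⟩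
      · exact ⟨n3 (p ^ f), hd3M, (hfree3 3 ht h33).subgroup M, Or.inl (n3_gt h5 h2q)⟩
    · refine ⟨n3 (p ^ f) * n6 (p ^ f), mul_dvd hd3M hd6M, ?_, Or.inl ?_⟩
      · intro x hx hxm a hat hc
        rcases hx.dvd_mul.1 hxm with h1 | h1
        · exact (hfree3 t ht (hnot3 t ht ht3 hn3)).subgroup M x hx h1 a hat hc
        · exact (hfree6 t ht (hnot6 t ht ht3 hn6)).subgroup M x hx h1 a hat hc
      · have h1 := Nat.mul_le_mul (n3_ge hq3 h2q) (n6_ge hq3 h2q)
        omega
  -- the family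
  have hoddm : ∀ m, m = (p ^ f) ^ 2 + p ^ f + 1 ∨ m = (p ^ f) ^ 2 - p ^ f + 1 → Odd m := by
    obtain ⟨k, hk⟩ : ∃ k, p ^ f = 2 * k + 1 := ⟨p ^ f / 2, by omega⟩
    obtain ⟨c, hc⟩ : ∃ c, k * (k + 1) = c + c := Nat.even_mul_succ_self k
    rintro m (rfl | rfl)
    · rw [hk]
      exact ⟨(2 * k + 1) * (k + 1), by ring⟩
    · rw [hk]
      refine ⟨(2 * k + 1) * k, ?_⟩
      have h1 : (2 * k + 1) ^ 2 - (2 * k + 1) = (2 * k + 1) * (2 * k) := by
        refine Nat.sub_eq_of_eq_add ?_
        ring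
      rw [h1]
      ring
  have hfam : RFam M (BG (p ^ f)) := by
    refine ⟨?_, ?_, ?_⟩
    · rintro r m e ⟨rfl, ⟨hr, rfl⟩ | ⟨hr, rfl⟩⟩
      · exact (hbig3 r hr).subgroup M
      · exact (hbig6 r hr).subgroup M
    · rintro r m e ⟨rfl, ⟨hr, rfl⟩ | ⟨hr, rfl⟩⟩
      · exact hrM r (Or.inl hr)
      · exact hrM r (Or.inr hr)
    · rintro r m e ⟨rfl, hm⟩ hcon
      have hm' : Odd m := hoddm m (hm.imp And.right And.right)
      have h1 : 2 ^ 6 ∣ 6 := (Nat.Coprime.pow_left 6 ((Nat.coprime_two_left).2 hm')).dvd_of_dvd_mul_right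
        (h64M.trans hcon)
      revert h1; decide
  obtain ⟨S, hSn, hs, hna, hall⟩ := hfam.exists_full hE hred (r₁ := r₀) ⟨rfl, Or.inl ⟨hr₀, rfl⟩⟩
  have hall3 := fun r hr => hall r _ _ ⟨rfl, Or.inl ⟨hr, rfl⟩⟩
  have hall6 := fun r hr => hall r _ _ ⟨rfl, Or.inr ⟨hr, rfl⟩⟩
  have hnS : ∀ r, Prim (p ^ f) 3 r ∨ Prim (p ^ f) 6 r → ¬ r ∣ S.index := by
    rintro r (hr | hr)
    · exact (hall3 r hr).2.2.1
    · exact (hall6 r hr).2.2.1
  obtain ⟨r₆, hr₆⟩ := exists_prim hq2 (show 3 ≤ 6 by omega) (by omega)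
  have hidx : S.index ∣ 6 := by
    have h1 := (hall3 r₀ hr₀).2.2.2
    have h2 := (hall6 r₆ hr₆).2.2.2
    have h3 := Nat.dvd_gcd h1 h2
    rwa [Nat.gcd_mul_left, Nat.coprime_iff_gcd_eq_one.1 (coprime36 (p ^ f)), mul_one] at h3
  have ha : n3 (p ^ f) ∣ Nat.card S := by
    rw [← Subgroup.card_mul_index S] at hd3M
    exact (hcop3 hnS).dvd_of_dvd_mul_right hd3M
  have hb : n6 (p ^ f) ∣ Nat.card S := by
    rw [← Subgroup.card_mul_index S] at hd6M
    exact (hcop6 hnS).dvd_of_dvd_mul_right hd6M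
  have h32 : 32 ∣ Nat.card S := by
    have h1 : 2 ^ 6 ∣ Nat.card S * 6 := h64M.trans (by
      rw [← Subgroup.card_mul_index S]
      exact Nat.mul_dvd_mul_left _ hidx)
    (clear * - h1; omega)
  have hSM : Nat.card S ∣ Nat.card M := Subgroup.card_subgroup_dvd_card S
  have hMG : Nat.card M ∣ og (p ^ f) := hcard ▸ Subgroup.card_subgroup_dvd_card M
  have hrep : Fth 14 F S := (fth_G2.sub M.subtype M.subtype_injective).sub S.subtype S.subtype_injective
  rcases ident_G2 tb hp hp2 hf hna (hkn S hs) hrep (by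
      rintro r (hr | hr)
      · exact ⟨(hall3 r hr).1.cyc, (hall3 r hr).2.1⟩
      · exact ⟨(hall6 r hr).1.cyc, (hall6 r hr).2.1⟩) ha hb h32 (hSM.trans hMG) with hcS | hcS
  · apply Subgroup.eq_top_of_card_eq
    apply Nat.dvd_antisymm (Subgroup.card_subgroup_dvd_card M)
    rw [hcard, ← hcS]
    exact hSM
  · exfalso
    -- the 2-part of `PSL₂(q³)` is too small
    have h1 : Nat.card M ∣ 3 * ((p ^ f) ^ 3 * ((p ^ f) ^ 6 - 1)) := by
      rw [← hcS, ← Subgroup.card_mul_index S]
      obtain ⟨c, hc⟩ := hidx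
      refine ⟨c, ?_⟩
      calc 3 * (2 * Nat.card S) = Nat.card S * 6 := by ring
        _ = Nat.card S * (S.index * c) := by rw [← hc]
        _ = Nat.card S * S.index * c := by ring
    have h2 : og (p ^ f) ∣ 3 * ((p ^ f) ^ 3 * ((p ^ f) ^ 6 - 1)) * M.index := by
      rw [← hcard, ← M.card_mul_index]
      exact Nat.mul_dvd_mul_right h1 _
    have hpos : 0 < (p ^ f) ^ 6 - 1 := by
      have : 1 < (p ^ f) ^ 6 := Nat.one_lt_pow (by norm_num) (by omega)
      omega
    have h3 : (p ^ f) ^ 6 * ((p ^ f) ^ 2 - 1) ∣ 3 * (p ^ f) ^ 3 * M.index := by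
      apply Nat.dvd_of_mul_dvd_mul_right hpos
      have e1 : (p ^ f) ^ 6 * ((p ^ f) ^ 2 - 1) * ((p ^ f) ^ 6 - 1) = og (p ^ f) := by unfold og; ring
      have e2 : 3 * (p ^ f) ^ 3 * M.index * ((p ^ f) ^ 6 - 1) = 3 * ((p ^ f) ^ 3 * ((p ^ f) ^ 6 - 1)) * M.index := by
        ring
      rw [e1, e2]
      exact h2
    have h4 : 2 ∣ 3 * (p ^ f) ^ 3 * M.index :=
      (((by norm_num : (2 : ℕ) ∣ 8).trans h8).mul_left _).trans h3
    have h5 : Odd (3 * (p ^ f) ^ 3 * M.index) := by
      refine Odd.mul (Odd.mul (by decide) (Odd.pow ?_)) hodd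
      rw [← Nat.not_even_iff_odd, even_iff_two_dvd]
      exact h2q
    rw [← Nat.not_even_iff_odd, even_iff_two_dvd] at h5
    exact h5 h4

end Cfsg.Agent.H177.OM
end

-- part: H177/OM/GTwoRow
section
/-!
# TEAM ODDM (S4785): the row `G₂(q)`, `q` odd
-/

set_option autoImplicit false

namespace Cfsg.Agent.H177.OM

open Cfsg Cfsg.Agent.OrdDiv Cfsg.Agent.H436 Cfsg.Agent.H56.Exc Cfsg.Agent.H453.OddM Cfsg.Lie

/-- **The row `G₂(q)`, `q` odd.** -/
theorem row_g2 (tb : OrderTable.{0}) (hkn : ∀ (S : Type) [Group S] [Finite S], IsSimpleGroup S → IsKnownSimple' S)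
    (hE : CycFixSolv.{0}) (q : ℕ) (h2 : ¬ 2 ∣ q) : RowN.{0} (.g2 q) := by
  intro T _ _ _ hT
  obtain ⟨F, _, _, hF, ⟨e⟩⟩ := hT.real
  have hq : IsPrimePow q := hT.cond.2
  obtain ⟨p, f, hp, hf, rfl⟩ := (isPrimePow_nat_iff _).1 hq
  have hp2 : p ≠ 2 := by
    rintro rfl
    exact h2 (dvd_pow_self 2 (by omega))
  have hp3 : 3 ≤ p := by have := hp.two_le; omega
  have hq3 : 3 ≤ p ^ f := hp3.trans (Nat.le_self_pow (by omega) p)
  have : Fact p.Prime := ⟨hp⟩
  have : CharP F p := charP_of_card_eq_prime_pow hF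
  refine (Row.congr e.symm (fun M hM => ?_)).row8
  have hc := hM.cov
  refine k_g2_odd tb hkn hE hp hp2 hf hF (fun r hr => ?_) M hc.1 ?_
  · exact Cfsg.Agent.H325.IsoExc.piso_G2 (F := F) (p := p) (by rw [hF]; omega) (Or.inl rfl) (by rw [hF]; exact hr)
  · rintro r (hr | hr)
    · exact off_g2_3 hF hc.2 hr
    · exact off_g2_6 hF hc.2 hr

end Cfsg.Agent.H177.OM
end

-- part: H990/Odm/Half
section
/-!
# TEAM ODDM: `PΩ^+_{2m}(q)`, `q` odd (helper990)

* `not_cov_plus_even` : `m` even: a subgroup fixing a nonsingular line is not `Cov`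
* `realP_char_oplus` : `m ≥ 3`: some element of order `p` is real
-/

set_option autoImplicit false
set_option linter.unusedSectionVars false

namespace Cfsg.Agent.H990.Odm

open Cfsg Cfsg.Geo Matrix Cfsg.Agent.H453.OddM Cfsg.Agent.H884.El
open Cfsg.Agent.ClassicalGeometry.Reflection
open Cfsg.Agent.H907.Odm (mkIso mkIso_mulVec)

section Gen

variable {F : Type*} [Field F] {m : ℕ}

theorem iso_ext {ι : Type} [Fintype ι] [DecidableEq ι] {Q : (ι → F) → F} {a b : isometryGroup F Q}
    (h : ∀ v, ((a : Matrix.GeneralLinearGroup ι F) : Matrix ι ι F) *ᵥ v =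
      ((b : Matrix.GeneralLinearGroup ι F) : Matrix ι ι F) *ᵥ v) : a = b := by
  apply Subtype.ext
  apply Units.ext
  apply Matrix.ext_of_mulVec_single
  intro i
  exact h _

theorem coe_mv {ι : Type} [Fintype ι] [DecidableEq ι] {Q : (ι → F) → F} (g h : Omega F Q) (x : ι → F) :
    ((g * h : Omega F Q) : isometryGroup F Q).1.1 *ᵥ x =
      (g : isometryGroup F Q).1.1 *ᵥ ((h : isometryGroup F Q).1.1 *ᵥ x) := coe_mul_mulVec _ _ _ _

theorem qp_apply (v : Fin m ⊕ Fin m → F) : quadFormPlus m F v = ∑ i, v (.inl i) * v (.inr i) := rfl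

/-- monomial isometries -/
def genL (σ : Equiv.Perm (Fin m)) (a : Fin m → F) (ha : ∀ i, a i * a i = 1) :
    (Fin m ⊕ Fin m → F) ≃ₗ[F] (Fin m ⊕ Fin m → F) where
  toFun v := Sum.elim (fun i => a i * v (.inl (σ i))) (fun i => a i * v (.inr (σ i)))
  invFun v := Sum.elim (fun i => a (σ.symm i) * v (.inl (σ.symm i))) (fun i => a (σ.symm i) * v (.inr (σ.symm i)))
  map_add' v w := by
    funext i
    rcases i with i | i <;> simp only [mul_add, _root_.Pi.add_apply, _root_.Sum.elim_inl, _root_.Sum.elim_inr]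
  map_smul' c v := by
    funext i
    rcases i with i | i <;> simp only [_root_.Pi.smul_apply, _root_.smul_eq_mul, _root_.Sum.elim_inl, _root_.RingHom.id_apply, _root_.Sum.elim_inr] <;> ring
  left_inv v := by
    funext i
    rcases i with i | i <;> simp [← mul_assoc, ha]
  right_inv v := by
    funext i
    rcases i with i | i <;> simp [← mul_assoc, ha]

theorem genL_q (σ : Equiv.Perm (Fin m)) (a : Fin m → F) (ha : ∀ i, a i * a i = 1) (v : Fin m ⊕ Fin m → F) :
    quadFormPlus m F (genL σ a ha v) = quadFormPlus m F v := by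
  rw [qp_apply, qp_apply, ← Equiv.sum_comp σ (fun i => v (.inl i) * v (.inr i))]
  refine Finset.sum_congr rfl fun i _ => ?_
  change a i * v (.inl (σ i)) * (a i * v (.inr (σ i))) = _
  linear_combination (v (.inl (σ i)) * v (.inr (σ i))) * ha i

/-- the monomial isometry -/
def gen (σ : Equiv.Perm (Fin m)) (a : Fin m → F) (ha : ∀ i, a i * a i = 1) : isometryGroup F (quadFormPlus m F) :=
  mkIso _ (genL σ a ha) (genL_q σ a ha)

theorem gen_inl (σ : Equiv.Perm (Fin m)) (a : Fin m → F) (ha : ∀ i, a i * a i = 1) (v : Fin m ⊕ Fin m → F) (i : Fin m) :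
    (((gen σ a ha : isometryGroup F (quadFormPlus m F)) : Matrix.GeneralLinearGroup _ F).1 *ᵥ v) (.inl i) =
      a i * v (.inl (σ i)) := by
  rw [gen, mkIso_mulVec]; rfl

theorem gen_inr (σ : Equiv.Perm (Fin m)) (a : Fin m → F) (ha : ∀ i, a i * a i = 1) (v : Fin m ⊕ Fin m → F) (i : Fin m) :
    (((gen σ a ha : isometryGroup F (quadFormPlus m F)) : Matrix.GeneralLinearGroup _ F).1 *ᵥ v) (.inr i) =
      a i * v (.inr (σ i)) := by
  rw [gen, mkIso_mulVec]; rfl

end Gen

section Even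

variable {F : Type*} [Field F] {m : ℕ} (σ : Equiv.Perm (Fin m)) (ε : Fin m → F)

/-- the map `ε + σ` -/
def pL (h2 : (2 : F) ≠ 0) (hσ : ∀ i, σ (σ i) = i) (hε : ∀ i, ε i * ε i = 1) (hs : ∀ i, ε (σ i) = -ε i) :
    (Fin m ⊕ Fin m → F) ≃ₗ[F] (Fin m ⊕ Fin m → F) where
  toFun v := Sum.elim (fun i => ε i * v (.inl i) + v (.inl (σ i))) (fun i => (ε i * v (.inr i) + v (.inr (σ i))) / 2)
  invFun v := Sum.elim (fun i => (ε i * v (.inl i) + v (.inl (σ i))) / 2) (fun i => ε i * v (.inr i) + v (.inr (σ i)))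
  map_add' v w := by
    funext i
    rcases i with i | i <;> simp only [_root_.Pi.add_apply, _root_.Sum.elim_inl, _root_.Sum.elim_inr] <;> ring
  map_smul' c v := by
    funext i
    rcases i with i | i <;> simp only [_root_.Pi.smul_apply, _root_.smul_eq_mul, _root_.Sum.elim_inl, _root_.RingHom.id_apply, _root_.Sum.elim_inr] <;> ring
  left_inv v := by
    funext i
    rcases i with i | i
    · simp only [Sum.elim_inl]
      rw [hσ, hs, div_eq_iff h2]
      linear_combination v (.inl i) * hε i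
    · simp only [Sum.elim_inr]
      rw [hσ, hs]
      field_simp
      linear_combination v (.inr i) * hε i
  right_inv v := by
    funext i
    rcases i with i | i
    · simp only [Sum.elim_inl]
      rw [hσ, hs]
      field_simp
      linear_combination v (.inl i) * hε i
    · simp only [Sum.elim_inr]
      rw [hσ, hs, div_eq_iff h2]
      linear_combination v (.inr i) * hε i

theorem pL_q (h2 : (2 : F) ≠ 0) (hσ : ∀ i, σ (σ i) = i) (hε : ∀ i, ε i * ε i = 1) (hs : ∀ i, ε (σ i) = -ε i)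
    (v : Fin m ⊕ Fin m → F) : quadFormPlus m F (pL σ ε h2 hσ hε hs v) = quadFormPlus m F v := by
  rw [qp_apply, qp_apply]
  have h3 : ∑ i, v (.inl (σ i)) * v (.inr (σ i)) = ∑ i, v (.inl i) * v (.inr i) :=
    Equiv.sum_comp σ (fun i => v (.inl i) * v (.inr i))
  have h4 : ∑ i, ε i * (v (.inl i) * v (.inr (σ i))) = -∑ i, ε i * (v (.inl (σ i)) * v (.inr i)) := by
    rw [← Equiv.sum_comp σ, ← Finset.sum_neg_distrib]
    refine Finset.sum_congr rfl fun i _ => ?_
    rw [hσ, hs]
    ring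
  have h5 : ∀ i, pL σ ε h2 hσ hε hs v (.inl i) * pL σ ε h2 hσ hε hs v (.inr i) =
      (v (.inl i) * v (.inr i) + v (.inl (σ i)) * v (.inr (σ i)) + ε i * (v (.inl i) * v (.inr (σ i))) +
        ε i * (v (.inl (σ i)) * v (.inr i))) / 2 := by
    intro i
    change (ε i * v (.inl i) + v (.inl (σ i))) * ((ε i * v (.inr i) + v (.inr (σ i))) / 2) = _
    rw [← mul_div_assoc]
    congr 1
    linear_combination (v (.inl i) * v (.inr i)) * hε i
  rw [Finset.sum_congr rfl fun i _ => h5 i, ← Finset.sum_div, Finset.sum_add_distrib, Finset.sum_add_distrib,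
    Finset.sum_add_distrib, h3, h4, div_eq_iff h2]
  ring

/-- an element of `Ω` with square `-1` -/
theorem exists_sq_neg (h2 : (2 : F) ≠ 0) (hσ : ∀ i, σ (σ i) = i) (hε : ∀ i, ε i * ε i = 1)
    (hs : ∀ i, ε (σ i) = -ε i) : ∃ u : Omega F (quadFormPlus m F), ∀ v,
      (u : isometryGroup F (quadFormPlus m F)).1.1 *ᵥ ((u : isometryGroup F (quadFormPlus m F)).1.1 *ᵥ v) = -v := by
  let D := gen (F := F) 1 ε hε
  let X := gen (F := F) σ ε hε
  let P : isometryGroup F (quadFormPlus m F) := mkIso _ (pL σ ε h2 hσ hε hs) (pL_q σ ε h2 hσ hε hs)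
  have hPl : ∀ (v : Fin m ⊕ Fin m → F) (i : Fin m),
      ((P : Matrix.GeneralLinearGroup _ F).1 *ᵥ v) (.inl i) = ε i * v (.inl i) + v (.inl (σ i)) := by
    intro v i
    rw [mkIso_mulVec]; rfl
  have hPr : ∀ (v : Fin m ⊕ Fin m → F) (i : Fin m),
      ((P : Matrix.GeneralLinearGroup _ F).1 *ᵥ v) (.inr i) = (ε i * v (.inr i) + v (.inr (σ i))) / 2 := by
    intro v i
    rw [mkIso_mulVec]; rfl
  have h1 : D * P = X * P * D := by
    apply iso_ext
    intro v
    rw [coe_mul_mulVec, coe_mul_mulVec, coe_mul_mulVec]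
    funext i
    rcases i with i | i
    · rw [gen_inl, gen_inl, hPl, hPl, gen_inl, gen_inl, hσ, hs]
      simp only [Equiv.Perm.coe_one, id_eq]
      linear_combination (-(ε i * v (.inl (σ i)))) * hε i
    · rw [gen_inr, gen_inr, hPr, hPr, gen_inr, gen_inr, hσ, hs]
      simp only [Equiv.Perm.coe_one, id_eq]
      field_simp
      linear_combination (-(ε i * v (.inr (σ i)))) * hε i
  have h3 : D * P * D⁻¹ * P⁻¹ = X := by
    rw [h1]
    group
  refine ⟨⟨X, ?_⟩, ?_⟩
  · rw [← h3]
    exact Subgroup.commutator_mem_commutator (Subgroup.mem_top D) (Subgroup.mem_top P)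
  · intro v
    funext i
    rcases i with i | i
    · change ((X : Matrix.GeneralLinearGroup _ F).1 *ᵥ ((X : Matrix.GeneralLinearGroup _ F).1 *ᵥ v)) (.inl i) = _
      rw [gen_inl, gen_inl, hσ, hs, Pi.neg_apply]
      linear_combination (-v (.inl i)) * hε i
    · change ((X : Matrix.GeneralLinearGroup _ F).1 *ᵥ ((X : Matrix.GeneralLinearGroup _ F).1 *ᵥ v)) (.inr i) = _
      rw [gen_inr, gen_inr, hσ, hs, Pi.neg_apply]
      linear_combination (-v (.inr i)) * hε i

end Even

/-- a fixed point free involution of `Fin m` with signs, `m` even -/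
theorem exists_pairing (F : Type*) [Field F] {m : ℕ} (hm : Even m) : ∃ (σ : Equiv.Perm (Fin m)) (ε : Fin m → F),
    (∀ i, σ (σ i) = i) ∧ (∀ i, ε i * ε i = 1) ∧ ∀ i, ε (σ i) = -ε i := by
  obtain ⟨k, hk⟩ := hm
  let e : Fin m ≃ Fin k × Fin 2 := (finCongr (by omega : m = k * 2)).trans finProdFinEquiv.symm
  let s : Equiv.Perm (Fin k × Fin 2) := (Equiv.refl _).prodCongr (Equiv.swap 0 1)
  let η : Fin 2 → F := fun j => if j = 0 then 1 else -1
  have hss : ∀ x, s (s x) = x := by
    rintro ⟨a, b⟩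
    change (a, Equiv.swap 0 1 (Equiv.swap 0 1 b)) = (a, b)
    congr 1
    fin_cases b <;> rfl
  refine ⟨(e.trans s).trans e.symm, fun i => η (e i).2, fun i => ?_, fun i => ?_, fun i => ?_⟩
  · change e.symm (s (e (e.symm (s (e i))))) = i
    rw [e.apply_symm_apply, hss, e.symm_apply_apply]
  · dsimp only [η]
    split_ifs <;> ring
  · change η (e (e.symm (s (e i)))).2 = -η (e i).2
    rw [Equiv.apply_symm_apply]
    change η (Equiv.swap 0 1 (e i).2) = -η (e i).2
    generalize (e i).2 = j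
    fin_cases j <;> simp [η]

/-! ### long root elements -/

section Root

variable {F : Type*} [Field F] {m : ℕ} (a b : Fin m)

/-- the long root element -/
def rtL (t : F) : (Fin m ⊕ Fin m → F) ≃ₗ[F] (Fin m ⊕ Fin m → F) where
  toFun v := Sum.elim (fun i => v (.inl i))
    (fun i => v (.inr i) + t * ((if i = a then v (.inl b) else 0) - (if i = b then v (.inl a) else 0)))
  invFun v := Sum.elim (fun i => v (.inl i))
    (fun i => v (.inr i) - t * ((if i = a then v (.inl b) else 0) - (if i = b then v (.inl a) else 0)))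
  map_add' v w := by
    funext i
    rcases i with i | i
    · rfl
    · simp only [Sum.elim_inr, Pi.add_apply]
      split_ifs <;> ring
  map_smul' c v := by
    funext i
    rcases i with i | i
    · rfl
    · simp only [Sum.elim_inr, Pi.smul_apply, smul_eq_mul, RingHom.id_apply]
      split_ifs <;> ring
  left_inv v := by
    funext i
    rcases i with i | i
    · rfl
    · simp only [Sum.elim_inr, Sum.elim_inl]
      ring
  right_inv v := by
    funext i
    rcases i with i | i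
    · rfl
    · simp only [Sum.elim_inr, Sum.elim_inl]
      ring

theorem rtL_q (t : F) (v : Fin m ⊕ Fin m → F) : quadFormPlus m F (rtL a b t v) = quadFormPlus m F v := by
  rw [qp_apply, qp_apply]
  have h1 : ∀ i, rtL a b t v (.inl i) * rtL a b t v (.inr i) = v (.inl i) * v (.inr i) +
      ((if i = a then v (.inl i) * t * v (.inl b) else 0) - (if i = b then v (.inl i) * t * v (.inl a) else 0)) := by
    intro i
    change v (.inl i) * (v (.inr i) + t * ((if i = a then v (.inl b) else 0) - (if i = b then v (.inl a) else 0))) = _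
    split_ifs <;> ring
  rw [Finset.sum_congr rfl fun i _ => h1 i, Finset.sum_add_distrib, Finset.sum_sub_distrib, Finset.sum_ite_eq',
    Finset.sum_ite_eq', if_pos (Finset.mem_univ _), if_pos (Finset.mem_univ _)]
  ring

/-- the long root element -/
def rt (t : F) : isometryGroup F (quadFormPlus m F) := mkIso _ (rtL a b t) (rtL_q a b t)

theorem rt_inl (t : F) (v : Fin m ⊕ Fin m → F) (i : Fin m) : ((rt a b t).1.1 *ᵥ v) (.inl i) = v (.inl i) := by
  rw [rt, mkIso_mulVec]; rfl

theorem rt_inr (t : F) (v : Fin m ⊕ Fin m → F) (i : Fin m) : ((rt a b t).1.1 *ᵥ v) (.inr i) =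
    v (.inr i) + t * ((if i = a then v (.inl b) else 0) - (if i = b then v (.inl a) else 0)) := by
  rw [rt, mkIso_mulVec]; rfl

theorem rt_mul (s t : F) : rt a b s * rt a b t = rt a b (s + t) := by
  apply iso_ext
  intro v
  rw [coe_mul_mulVec]
  funext i
  rcases i with i | i
  · rw [rt_inl, rt_inl, rt_inl]
  · rw [rt_inr, rt_inr, rt_inr, rt_inl, rt_inl]
    ring

theorem rt_zero : rt a b (0 : F) = 1 := by
  apply iso_ext
  intro v
  rw [Subgroup.coe_one, Units.val_one, Matrix.one_mulVec]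
  funext i
  rcases i with i | i
  · rw [rt_inl]
  · rw [rt_inr, zero_mul, add_zero]

theorem rt_inv (t : F) : (rt a b t)⁻¹ = rt a b (-t) := by
  rw [inv_eq_iff_mul_eq_one, rt_mul, add_neg_cancel, rt_zero]

theorem rt_pow (t : F) (n : ℕ) : rt a b t ^ n = rt a b (n * t) := by
  induction n with
  | zero => rw [pow_zero, Nat.cast_zero, zero_mul, rt_zero]
  | succ n ih => rw [pow_succ, ih, rt_mul, Nat.cast_succ, add_mul, one_mul]

theorem rt_ne_one (hab : a ≠ b) {t : F} (ht : t ≠ 0) : rt a b t ≠ 1 := by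
  intro h
  have h1 : ((rt a b t).1.1 *ᵥ (Pi.single (.inl b) 1)) (.inr a) = (Pi.single (.inl b) 1 : Fin m ⊕ Fin m → F) (.inr a) := by
    rw [h, Subgroup.coe_one, Units.val_one, Matrix.one_mulVec]
  rw [rt_inr] at h1
  simp [hab, ht] at h1

theorem rt_order {p : ℕ} [hp : Fact p.Prime] [CharP F p] (hab : a ≠ b) {t : F} (ht : t ≠ 0) :
    orderOf (rt a b t) = p := by
  refine orderOf_eq_prime ?_ (rt_ne_one a b hab ht)
  rw [rt_pow, CharP.cast_eq_zero, zero_mul, rt_zero]

theorem gen1_inl (c : Fin m → F) (hc : ∀ i, c i * c i = 1) (v : Fin m ⊕ Fin m → F) (i : Fin m) :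
    (((gen 1 c hc : isometryGroup F (quadFormPlus m F)) : Matrix.GeneralLinearGroup _ F).1 *ᵥ v) (.inl i) =
      c i * v (.inl i) := gen_inl _ _ _ _ _

theorem gen1_inr (c : Fin m → F) (hc : ∀ i, c i * c i = 1) (v : Fin m ⊕ Fin m → F) (i : Fin m) :
    (((gen 1 c hc : isometryGroup F (quadFormPlus m F)) : Matrix.GeneralLinearGroup _ F).1 *ᵥ v) (.inr i) =
      c i * v (.inr i) := gen_inr _ _ _ _ _

/-- a diagonal sign isometry with `c b = -c a` inverts the root element -/
theorem gen_rt (c : Fin m → F) (hc : ∀ i, c i * c i = 1) (hab : c b = -c a) (t : F) :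
    gen 1 c hc * rt a b t = rt a b (-t) * gen 1 c hc := by
  have hab' : c a = -c b := by rw [hab, neg_neg]
  apply iso_ext
  intro v
  rw [coe_mul_mulVec, coe_mul_mulVec]
  funext i
  rcases i with i | i
  · rw [gen1_inl, rt_inl, rt_inl, gen1_inl]
  · rw [gen1_inr, rt_inr, rt_inr, gen1_inr, gen1_inl, gen1_inl]
    have k1 : i = a → c i = -c b := by rintro rfl; exact hab'
    have k2 : i = b → c i = -c a := by rintro rfl; exact hab
    split_ifs with h1 h2 h2
    · linear_combination (t * v (.inl b)) * k1 h1 - (t * v (.inl a)) * k2 h2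
    · linear_combination (t * v (.inl b)) * k1 h1
    · linear_combination (-(t * v (.inl a))) * k2 h2
    · ring

/-- a diagonal sign isometry with `c b = c a` commutes with the root element -/
theorem gen_rt_comm (c : Fin m → F) (hc : ∀ i, c i * c i = 1) (hab : c b = c a) (t : F) :
    gen 1 c hc * rt a b t = rt a b t * gen 1 c hc := by
  apply iso_ext
  intro v
  rw [coe_mul_mulVec, coe_mul_mulVec]
  funext i
  rcases i with i | i
  · rw [gen1_inl, rt_inl, rt_inl, gen1_inl]
  · rw [gen1_inr, rt_inr, rt_inr, gen1_inr, gen1_inl, gen1_inl]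
    have k1 : i = a → c i = c b := by rintro rfl; exact hab.symm
    have k2 : i = b → c i = c a := by rintro rfl; exact hab
    split_ifs with h1 h2 h2
    · linear_combination (t * v (.inl b)) * k1 h1 - (t * v (.inl a)) * k2 h2
    · linear_combination (t * v (.inl b)) * k1 h1
    · linear_combination (-(t * v (.inl a))) * k2 h2
    · ring

/-- the sign change at `a` -/
def sg (i : Fin m) : F := if i = a then -1 else 1

theorem sg_sq (i : Fin m) : sg (F := F) a i * sg a i = 1 := by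
  unfold sg; split_ifs <;> ring

theorem sg_self : sg (F := F) a a = -1 := if_pos rfl

theorem sg_of_ne {i : Fin m} (h : i ≠ a) : sg (F := F) a i = 1 := if_neg h

/-- the sign change at `a` -/
def sgE : isometryGroup F (quadFormPlus m F) := gen 1 (sg a) (sg_sq a)

/-- the transposition -/
def trE : isometryGroup F (quadFormPlus m F) := gen (Equiv.swap a b) (fun _ => 1) (fun _ => one_mul 1)

theorem trE_sgE : trE (F := F) a b * sgE a = sgE b * trE a b := by
  have key : ∀ i, sg (F := F) a (Equiv.swap a b i) = sg b i := by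
    intro i
    have : Equiv.swap a b i = a ↔ i = b := by
      rw [Equiv.swap_apply_eq_iff, Equiv.swap_apply_left]
    unfold sg
    simp only [this]
  apply iso_ext
  intro v
  rw [coe_mul_mulVec, coe_mul_mulVec]
  funext i
  rcases i with i | i
  · rw [trE, sgE, sgE, gen_inl, gen1_inl, gen1_inl, gen_inl, key]
    ring
  · rw [trE, sgE, sgE, gen_inr, gen1_inr, gen1_inr, gen_inr, key]
    ring

/-- the defining characteristic -/
theorem realP_char_oplus' [Fintype F] {p : ℕ} [hp : Fact p.Prime] [CharP F p] (hp2 : p ≠ 2) (d : Fin m) (hab : b ≠ a)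
    (had : d ≠ a) (hbd : b ≠ d) : RealP (POmega F (quadFormPlus m F)) p := by
  have h2 : (2 : F) ≠ 0 := by
    intro h
    have h3 : ((2 : ℕ) : F) = 0 := by exact_mod_cast h
    rw [CharP.cast_eq_zero_iff F p] at h3
    exact hp2 ((Nat.prime_dvd_prime_iff_eq hp.out Nat.prime_two).1 h3)
  -- the root element
  have hu : sgE a * rt a b (1 : F) * (sgE a)⁻¹ * (rt a b (1 : F))⁻¹ = rt a b (-(2 : F)) := by
    rw [sgE, gen_rt a b (sg a) (sg_sq a) (by rw [sg_self, sg_of_ne a hab, neg_neg]), mul_inv_cancel_right, rt_inv,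
      rt_mul]
    congr 1
    ring
  have hy : sgE (F := F) a * trE a d * (sgE a)⁻¹ * (trE a d)⁻¹ = sgE a * (sgE d)⁻¹ := by
    have h1 : trE (F := F) a d * (sgE a)⁻¹ = (sgE d)⁻¹ * trE a d := by
      rw [mul_inv_eq_iff_eq_mul, mul_assoc, trE_sgE, inv_mul_cancel_left]
    rw [mul_assoc (sgE a), h1, ← mul_assoc, mul_inv_cancel_right]
  let U : Omega F (quadFormPlus m F) := ⟨rt a b (-(2 : F)), by
    rw [← hu]; exact Subgroup.commutator_mem_commutator (Subgroup.mem_top _) (Subgroup.mem_top _)⟩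
  let Y : Omega F (quadFormPlus m F) := ⟨sgE a * (sgE d)⁻¹, by
    rw [← hy]; exact Subgroup.commutator_mem_commutator (Subgroup.mem_top _) (Subgroup.mem_top _)⟩
  refine realP_center (hp.out.odd_of_ne_two hp2) ⟨U, ?_, Y, ?_⟩
  · rw [← Subgroup.orderOf_coe]
    exact rt_order a b hab.symm (neg_ne_zero.2 h2)
  · apply Subtype.ext
    change sgE a * (sgE d)⁻¹ * rt a b (-(2 : F)) * (sgE a * (sgE d)⁻¹)⁻¹ = (rt a b (-(2 : F)))⁻¹
    have h3 : sgE (F := F) d * rt a b (-2) = rt a b (-2) * sgE d :=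
      gen_rt_comm a b (sg d) (sg_sq d) (by rw [sg_of_ne d hbd, sg_of_ne d had.symm]) _
    have h4 : sgE (F := F) a * rt a b (-2) = rt a b (- -2) * sgE a :=
      gen_rt a b (sg a) (sg_sq a) (by rw [sg_self, sg_of_ne a hab, neg_neg]) _
    have h5 : (sgE (F := F) d)⁻¹ * rt a b (-2) = rt a b (-2) * (sgE d)⁻¹ := by
      rw [inv_mul_eq_iff_eq_mul, ← mul_assoc, h3, mul_inv_cancel_right]
    rw [rt_inv, mul_assoc (sgE a), h5, mul_inv_eq_iff_eq_mul, ← mul_assoc, h4, mul_assoc]

theorem realP_char_oplus [Fintype F] {p : ℕ} [hp : Fact p.Prime] [CharP F p] (hp2 : p ≠ 2) (hm : 3 ≤ m) :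
    RealP (POmega F (quadFormPlus m F)) p :=
  realP_char_oplus' (F := F) (⟨0, by omega⟩ : Fin m) ⟨1, by omega⟩ hp2 ⟨2, by omega⟩ (by simp) (by simp) (by simp)

end Root

/-- **`N_1` of `PΩ^+_{2m}(q)`**, `q` odd, `m` even. -/
theorem not_cov_plus_even {F : Type*} [Field F] (h2 : (2 : F) ≠ 0) {m : ℕ} (hm : Even m)
    {M : Subgroup (POmega F (quadFormPlus m F))} {v : Fin m ⊕ Fin m → F} (hv : quadFormPlus m F v ≠ 0)
    (hM : pre (quadFormPlus m F) M ≤ subspaceStabilizer (Submodule.span F {v})) :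
    ¬ Cov (POmega F (quadFormPlus m F)) M := by
  intro hc
  obtain ⟨σ, ε, hσ, hε, hs⟩ := exists_pairing F hm
  obtain ⟨u, hu⟩ := exists_sq_neg σ ε h2 hσ hε hs
  have huu : ∀ v, ((u * u : Omega F (quadFormPlus m F)) : isometryGroup F (quadFormPlus m F)).1.1 *ᵥ v = -v := by
    intro v
    rw [coe_mv]
    exact hu v
  have hcen : u * u ∈ Subgroup.center (Omega F (quadFormPlus m F)) := by
    rw [Subgroup.mem_center_iff]
    intro g
    apply Subtype.ext
    apply iso_ext
    intro w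
    rw [coe_mv g (u * u), coe_mv (u * u) g, huu, huu, Matrix.mulVec_neg]
  have hr : IsReal (QuotientGroup.mk' (Subgroup.center (Omega F (quadFormPlus m F))) u) := by
    apply IsReal.of_sq
    rw [← map_pow, pow_two]
    exact (QuotientGroup.eq_one_iff _).2 hcen
  obtain ⟨t, ht⟩ := hc.2 _ hr
  obtain ⟨y, rfl⟩ := QuotientGroup.mk'_surjective _ t
  rw [← map_mul, ← map_inv, ← map_mul] at ht
  have h1 := (hM (mem_pre.2 ht) v).1 (Submodule.mem_span_singleton_self v)
  obtain ⟨c, hcv⟩ := Submodule.mem_span_singleton.1 h1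
  have hcv' : (((y * u * y⁻¹ : Omega F (quadFormPlus m F)) : isometryGroup F (quadFormPlus m F))).1.1 *ᵥ v = c • v := hcv.symm
  -- `c² = -1`
  have h3 : (((y * u * y⁻¹ * (y * u * y⁻¹) : Omega F (quadFormPlus m F)) : isometryGroup F (quadFormPlus m F))).1.1 *ᵥ v = -v := by
    have e : y * u * y⁻¹ * (y * u * y⁻¹) = u * u := by
      have h4 : y * (u * u) * y⁻¹ = u * u := by
        rw [Subgroup.mem_center_iff.1 hcen y, mul_inv_cancel_right]
      rw [← h4]; group
    rw [e, huu]
  rw [coe_mv, hcv', Matrix.mulVec_smul, hcv', smul_smul] at h3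
  have hv0 : v ≠ 0 := by
    rintro rfl
    exact hv (by rw [qp_apply]; simp only [_root_.Pi.zero_apply, _root_.MulZeroClass.mul_zero, _root_.Finset.sum_const_zero])
  have hcc : c * c = -1 := by
    have h5 : (c * c + 1) • v = 0 := by rw [add_smul, one_smul, h3, neg_add_cancel]
    exact eq_neg_of_add_eq_zero_left ((smul_eq_zero.1 h5).resolve_right hv0)
  have h6 : quadFormPlus m F (c • v) = quadFormPlus m F v := by
    rw [← hcv']
    exact (mem_isometryGroup_iff (quadFormPlus m F) _).1 ((y * u * y⁻¹ : Omega F (quadFormPlus m F)) :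
      isometryGroup F (quadFormPlus m F)).2 v
  have h7 : quadFormPlus m F (c • v) = c * c * quadFormPlus m F v := by
    rw [qp_apply, qp_apply, Finset.mul_sum]
    refine Finset.sum_congr rfl fun i _ => ?_
    rw [Pi.smul_apply, Pi.smul_apply, smul_eq_mul, smul_eq_mul]
    ring
  rw [h7, hcc] at h6
  apply hv
  have h8 : 2 * quadFormPlus m F v = 0 := by linear_combination -h6
  exact (mul_eq_zero.1 h8).resolve_left h2

end Cfsg.Agent.H990.Odm
end

-- part: H990/Odm/TwoPart
section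
/-!
# TEAM ODDM: `PΩ^+_{2n}(q)`, `n` even, `q` odd: the three names of `full_oplus` have too small `2`-part (helper990)
-/

set_option autoImplicit false

namespace Cfsg.Agent.H990.Odm

open Cfsg Cfsg.Agent.OrdDiv Cfsg.Agent.H436 Cfsg.Agent.H264.FKS Cfsg.Agent.H453.OddM

universe u

/-! ### valuations -/

theorem val_odd {a : ℕ} (h : Odd a) : padicValNat 2 a = 0 :=
  padicValNat.eq_zero_of_not_dvd fun h1 => (Nat.not_even_iff_odd.2 h) (even_iff_two_dvd.2 h1)

theorem val_mono {a b : ℕ} (hb : b ≠ 0) (h : a ∣ b) : padicValNat 2 a ≤ padicValNat 2 b :=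
  (padicValNat_dvd_iff_le hb).1 (pow_padicValNat_dvd.trans h)

theorem val_dvd {a b k : ℕ} (hk : b = 2 ^ k) (h : a ∣ b) : padicValNat 2 a ≤ k := by
  have := Fact.mk Nat.prime_two
  have h1 := val_mono (by rw [hk]; positivity) h
  rwa [hk, padicValNat.prime_pow] at h1

/-- `v (p ^ (2 m) - 1) ≥ v m + 3` -/
theorem val_sub {p m : ℕ} (hp : Odd p) (hp1 : 1 < p) (hm : m ≠ 0) :
    padicValNat 2 m + 3 ≤ padicValNat 2 (p ^ (2 * m) - 1) := by
  have := Fact.mk Nat.prime_two
  obtain ⟨k, hk⟩ := hp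
  have hk0 : 1 ≤ k := by omega
  have h1 := padicValNat.pow_two_sub_pow (x := p) (y := 1) hp1 ⟨k, by omega⟩ (by omega) (n := 2 * m) (by omega)
    (even_two_mul m)
  rw [one_pow] at h1
  have h2 : padicValNat 2 (2 * m) = 1 + padicValNat 2 m := by
    rw [padicValNat.mul (by norm_num) hm, padicValNat.self (by norm_num)]
  have h3 : 3 ≤ padicValNat 2 (p + 1) + padicValNat 2 (p - 1) := by
    rw [← padicValNat.mul (by omega) (by omega)]
    have h4 : 2 ^ 3 ∣ (p + 1) * (p - 1) := by
      rw [hk, show 2 * k + 1 - 1 = 2 * k by omega, show (2 * k + 1 + 1) * (2 * k) = 4 * (k * (k + 1)) by ring]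
      rw [show (2 : ℕ) ^ 3 = 4 * 2 by norm_num]
      exact Nat.mul_dvd_mul_left 4 (even_iff_two_dvd.1 (Nat.even_mul_succ_self k))
    exact (padicValNat_dvd_iff_le (Nat.mul_ne_zero (by omega) (by omega))).1 h4
  omega

theorem prB_ne {q : ℕ} (hq : 2 ≤ q) (m : ℕ) : prB q m ≠ 0 := by
  rw [Cfsg.Agent.H264.GN.prB_eq, Finset.prod_ne_zero_iff]
  intro i _
  have := Nat.one_lt_pow (n := 2 * (i + 1)) (by omega) (show 1 < q by omega)
  omega

section

variable {p f n : ℕ} {T : Type} [Group T] [Finite T] {R : Subgroup T}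

/-- `|R|` divides `|Out X| |S|` -/
theorem card_dvd_of_iso {X : Type} [Group X] (S : Subgroup R) [S.Normal] [IsSimpleGroup S]
    (hna : ¬ IsMulCommutative S) (hC : Subgroup.centralizer (S : Set R) = ⊥) (e : S ≃* X) :
    (Nat.card R ∣ Nat.card (Cfsg.Out X) * Nat.card X) ∧ Subgroup.center X = ⊥ := by
  have hfin : Finite X := Finite.of_equiv S e.toEquiv
  have hs : IsSimpleGroup X := e.symm.isSimpleGroup
  have hna' : ¬ IsMulCommutative X := fun h => hna ⟨⟨fun a b => e.injective (by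
    rw [map_mul, map_mul]; exact h.is_comm.comm _ _)⟩⟩
  constructor
  · rw [H934.OutB.card_out_mul X hna', ← Nat.card_congr (MulAut.congr e).toEquiv]
    exact dvd_aut S hC
  · rcases IsSimpleGroup.eq_bot_or_eq_top_of_normal (Subgroup.center X) inferInstance with h | h
    · exact h
    · exact absurd ⟨⟨fun a b => (Subgroup.mem_center_iff.1 (h ▸ Subgroup.mem_top b) a)⟩⟩ hna'

/-- **The three names have too small `2`-part.** -/
theorem not_cov_three (hT : IsNamed (.oplus n (p ^ f)) T) (hp : p.Prime) (hp2 : p ≠ 2) (hf : 1 ≤ f) (hn : 4 ≤ n)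
    (hne : Even n) (S : Subgroup R) [S.Normal] [IsSimpleGroup S] (hna : ¬ IsMulCommutative S)
    (hC : Subgroup.centralizer (S : Set R) = ⊥) {g : Grp} (hS : IsNamed g S)
    (hg : g = .psl (n - 1) (p ^ (2 * f)) ∨ g = .psp (n - 1) (p ^ f) ∨ g = .oodd (n - 1) (p ^ f)) :
    ¬ Odd R.index := by
  intro hodd
  have := Fact.mk Nat.prime_two
  have hpo : Odd p := hp.odd_of_ne_two hp2
  have hp3 : 3 ≤ p := by
    have := hp.two_le
    omega
  set q := p ^ f with hq
  have hqo : Odd q := hpo.pow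
  have hq3 : 3 ≤ q := hp3.trans (Nat.le_self_pow (by omega) p)
  have hB := prB_ne (show 2 ≤ q by omega) (n - 1)
  set B := prB q (n - 1) with hBdef
  have hqn : 1 < q ^ n := Nat.one_lt_pow (by omega) (by omega)
  -- `T`
  have hTeq : Nat.gcd 4 (q ^ n - 1) * Nat.card T = q ^ (n * (n - 1)) * ((q ^ n - 1) * B) := hT.eq
  have hT0 : Nat.card T ≠ 0 := Nat.card_pos.ne'
  have hvT : padicValNat 2 (q ^ n - 1) + padicValNat 2 B ≤ 2 + padicValNat 2 (Nat.card T) := by
    have h1 := congrArg (padicValNat 2) hTeq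
    rw [padicValNat.mul (Nat.gcd_pos_of_pos_left _ (by norm_num)).ne' hT0,
      padicValNat.mul (by positivity) (Nat.mul_ne_zero (by omega) hB), padicValNat.mul (by omega) hB,
      val_odd hqo.pow] at h1
    have h2 := val_dvd (k := 2) (by norm_num) (Nat.gcd_dvd_left 4 (q ^ n - 1))
    omega
  have hvn : padicValNat 2 f + 3 ≤ padicValNat 2 (q ^ n - 1) := by
    obtain ⟨k, hk⟩ := hne
    have h1 := val_sub (m := f * k) hpo (by omega) (Nat.mul_ne_zero (by omega) (by omega))
    rw [padicValNat.mul (by omega) (by omega)] at h1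
    rw [hq, ← pow_mul, show f * n = 2 * (f * k) by rw [hk]; ring]
    omega
  have hvR : padicValNat 2 (Nat.card T) = padicValNat 2 (Nat.card R) := by
    rw [← R.card_mul_index, padicValNat.mul Nat.card_pos.ne' R.index_ne_zero_of_finite, val_odd hodd, add_zero]
  have hg2 : Nat.gcd 2 (q - 1) = 2 := Nat.gcd_eq_left (by
    obtain ⟨k, hk⟩ := hqo
    exact ⟨k, by omega⟩)
  have hS0 : Nat.card S ≠ 0 := Nat.card_pos.ne'
  have hRS : ∀ {X : Type} [Group X] (e : S ≃* X) {m : ℕ}, Nat.card (Cfsg.Out X) = m → m ≠ 0 →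
      padicValNat 2 (Nat.card R) ≤ padicValNat 2 m + padicValNat 2 (Nat.card S) := by
    intro X _ e m hm hm0
    have h1 := (card_dvd_of_iso S hna hC e).1
    rw [hm, ← Nat.card_congr e.toEquiv] at h1
    rw [← padicValNat.mul hm0 hS0]
    exact val_mono (Nat.mul_ne_zero hm0 hS0) h1
  rcases hg with rfl | rfl | rfl
  · -- `PSL_{n-1}(q²)`
    have hc := hS.cond
    have hSeq : Nat.gcd (n - 1) (p ^ (2 * f) - 1) * (p ^ (2 * f) - 1) * Nat.card S = glN (n - 1) (p ^ (2 * f)) := hS.eq
    obtain ⟨F, _, _, hF, ⟨e⟩⟩ := hS.real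
    have h1 := H163.PG.card_out_psl (F := F) (n := n - 1) hp (f := 2 * f) (by omega) hF (by omega)
      (card_dvd_of_iso S hna hC e).2
    have hgo : Odd (Nat.gcd (n - 1) (p ^ (2 * f) - 1)) := by
      refine Odd.of_dvd_nat ?_ (Nat.gcd_dvd_left _ _)
      obtain ⟨k, hk⟩ := hne
      exact ⟨k - 1, by (clear * - hn hk; omega)⟩
    have hq1 : 1 < p ^ (2 * f) := Nat.one_lt_pow (by omega) (by omega)
    have hg0 : Nat.gcd (n - 1) (p ^ (2 * f) - 1) ≠ 0 := (Nat.gcd_pos_of_pos_left _ (by omega)).ne'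
    have h2 := hRS e (h1.trans (by rw [hF])) (Nat.mul_ne_zero (by omega) hg0)
    rw [padicValNat.mul (by omega) hg0, val_odd hgo, padicValNat.mul (by norm_num) (by omega),
      padicValNat.mul (by norm_num) (by omega), padicValNat.self (by norm_num)] at h2
    have h3 := congrArg (padicValNat 2) hSeq
    have h4 : ∏ j ∈ Finset.range (n - 1), ((p ^ (2 * f)) ^ (j + 1) - 1) = B := by
      rw [hBdef, Cfsg.Agent.H264.GN.prB_eq]
      refine Finset.prod_congr rfl fun j _ => ?_
      rw [hq, ← pow_mul, ← pow_mul, show 2 * f * (j + 1) = f * (2 * (j + 1)) by ring]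
    rw [padicValNat.mul (Nat.mul_ne_zero hg0 (by omega)) hS0, padicValNat.mul hg0 (by omega), val_odd hgo,
      Cfsg.Agent.H264.GN.glN_eq, h4, padicValNat.mul (by positivity) hB, val_odd (hpo.pow.pow)] at h3
    have h5 := val_sub (m := f) hpo (by omega) (by omega)
    omega
  · -- `PSp_{2n-2}(q)`
    have hSeq : Nat.gcd 2 (q - 1) * Nat.card S = q ^ ((n - 1) ^ 2) * prB q (n - 1) := hS.eq
    obtain ⟨F, _, _, hF, ⟨e⟩⟩ := hS.real
    have h1 := H163.PG.card_out_psp (F := F) (n := n - 1) hp (f := f) (by omega) hF (by omega) (by omega)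
      (card_dvd_of_iso S hna hC e).2
    rw [if_neg (by omega), one_mul, ← hq, hg2] at h1
    have h2 := hRS e h1 (by omega)
    rw [padicValNat.mul (by norm_num) (by omega), padicValNat.self (by norm_num)] at h2
    have h3 := congrArg (padicValNat 2) hSeq
    rw [hg2, padicValNat.mul (by norm_num) hS0, padicValNat.self (by norm_num), padicValNat.mul (by positivity) hB,
      val_odd hqo.pow] at h3
    omega
  · -- `Ω_{2n-1}(q)`
    have hSeq : 2 * Nat.card S = q ^ ((n - 1) ^ 2) * prB q (n - 1) := hS.eq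
    obtain ⟨F, _, _, hF, ⟨e⟩⟩ := hS.real
    have h1 := H163.PG.card_out_oodd (F := F) (n := n - 1) hp (f := f) (by omega) hF (by rw [hF]; exact hqo) (by omega)
      (card_dvd_of_iso S hna hC e).2
    have h2 := hRS e h1 (by omega)
    rw [padicValNat.mul (by norm_num) (by omega), padicValNat.self (by norm_num)] at h2
    have h3 := congrArg (padicValNat 2) hSeq
    rw [padicValNat.mul (by norm_num) hS0, padicValNat.self (by norm_num), padicValNat.mul (by positivity) hB,
      val_odd hqo.pow] at h3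
    omega

end

end Cfsg.Agent.H990.Odm
end

-- part: H990/Odm/Row
section
/-!
# TEAM ODDM: the row `PΩ^+_{2n}(q)`, `n` even, `q` odd (helper990)
-/

set_option autoImplicit false

namespace Cfsg.Agent.H990.Odm

open Cfsg Cfsg.Geo Cfsg.Agent.OrdDiv Cfsg.Agent.H436 Cfsg.Agent.H264.FKS Cfsg.Agent.H453.OddM
open Cfsg.Agent.H278.El.SporNum (exc)
open Cfsg.Agent.H278.El.AltNum (dimOf surv)
open Cfsg.Agent.H884.Cx (excP)
open Cfsg.Agent.H278.El.Asm (named_of_simple res_kill cross_gen Surv charP_of hasChar_card)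
open scoped MatrixGroups

universe u

/-- every odd prime divisor of the order is the order of a real element -/
theorem realP_of_dvd {F : Type} [Field F] [Fintype F] {m : ℕ} (hm : 4 ≤ m) (he : Even m) (hodd : Odd (Fintype.card F))
    {r : ℕ} (hr : r.Prime) (hr2 : r ≠ 2) (hd : r ∣ Nat.card (POmega F (quadFormPlus m F))) :
    RealP (POmega F (quadFormPlus m F)) r := by
  have h2 : (2 : F) ≠ 0 := H390.two_ne_zero_of_odd hodd
  have hT : IsNamed (.oplus m (Fintype.card F)) (POmega F (quadFormPlus m F)) := named_oplus (F := F) hm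
  have hro : Odd r := hr.odd_of_ne_two hr2
  have key : ∀ d, d ≠ 0 → d < m → r ∣ Fintype.card F ^ (2 * d) - 1 → RealP (POmega F (quadFormPlus m F)) r := by
    intro d hd0 hdm h
    refine realP_oplus h2 (by omega) hd0 hdm hro ?_
    rw [mul_comm, pow_mul, ← one_pow 2, Nat.sq_sub_sq] at h
    exact ((hr.dvd_mul).1 h).symm
  have hTeq : Nat.gcd 4 (Fintype.card F ^ m - 1) * Nat.card (POmega F (quadFormPlus m F)) =
    Fintype.card F ^ (m * (m - 1)) * ((Fintype.card F ^ m - 1) * prB (Fintype.card F) (m - 1)) := hT.eq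
  have h3 : r ∣ Fintype.card F ^ (m * (m - 1)) * ((Fintype.card F ^ m - 1) * prB (Fintype.card F) (m - 1)) := by
    rw [← hTeq]
    exact hd.mul_left _
  rcases (hr.dvd_mul).1 h3 with h | h
  · have := charP_of hr (hr.dvd_of_dvd_pow h)
    have := Fact.mk hr
    exact realP_char_oplus hr2 (by omega)
  · rcases (hr.dvd_mul).1 h with h | h
    · obtain ⟨k, hk⟩ := he
      refine key k (by omega) (by omega) ?_
      rwa [two_mul, ← hk]
    · rw [Cfsg.Agent.H264.GN.prB_eq, hr.prime.dvd_finsetProd_iff] at h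
      obtain ⟨i, hi, h⟩ := h
      rw [Finset.mem_range] at hi
      exact key (i + 1) (by omega) (by omega) h

/-- no proper subgroup of `PΩ^+_{2m}(q)`, `m` even, `q` odd, has odd index and meets every real class -/
theorem not_cov_oplus_even (tab : OrderTable.{0}) (hK : ∀ (X : Type) [Group X] [Finite X] [IsSimpleGroup X],
    Cfsg.IsKnownSimple' X) (hs : Surv) {F : Type} [Field F] [Fintype F] {m : ℕ} (hm : 4 ≤ m) (he : Even m)
    (hodd : Odd (Fintype.card F)) {R : Subgroup (POmega F (quadFormPlus m F))} (hR : R ≠ ⊤) : ¬ Cov _ R := by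
  intro hc
  have h2 : (2 : F) ≠ 0 := H390.two_ne_zero_of_odd hodd
  have hT : IsNamed (.oplus m (Fintype.card F)) (POmega F (quadFormPlus m F)) := named_oplus (F := F) hm
  have hfin : Finite (POmega F (quadFormPlus m F)) := Quotient.finite _
  obtain ⟨p, f, hp, hf, hpf⟩ := (isPrimePow_nat_iff _).1 hT.cond.2
  have hpF : p ∣ Fintype.card F := hpf ▸ dvd_pow_self p (by omega)
  have hp2 : p ≠ 2 := by
    rintro rfl
    exact (Nat.not_even_iff_odd.2 hodd) (even_iff_two_dvd.2 hpF)
  have hmiss : H884.El.Miss R → False := by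
    rintro ⟨r, hr, hd, hn⟩
    by_cases hr2 : r = 2
    · subst hr2
      exact hn (by simpa only [_root_.pow_one] using (hc.two_part (k := 1)).1 (by simpa only [_root_.pow_one] using hd))
    · exact not_cov_of_prime (realP_of_dvd hm he hodd hr hr2 hd) hn hc
  rcases H884.El.geo_plus_miss hm (by
      rintro ⟨h, -⟩
      rw [Nat.card_eq_fintype_card] at h
      rw [h] at hodd
      exact absurd hodd (by decide)) R with h | ⟨P, hP, -⟩ | ⟨-, v, hv, hM⟩
  · exact hmiss h
  · obtain ⟨S, hSn, hSs, hna, hC, ⟨e⟩⟩ := exists_res_plus hm (M := R) hP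
    obtain ⟨g, hg⟩ := named_of_simple tab hK hna
    have hι : Fintype.card (Fin m ⊕ Fin m) = dimOf (.oplus m (Fintype.card F)) := by
      rw [Fintype.card_sum, Fintype.card_fin]
      exact (two_mul m).symm
    refine res_kill (p := p) hT trivial ?_ ?_ S hC hg e hι hmiss ?_ ?_
    · simp only [surv, List.mem_cons, Grp.oplus.injEq, reduceCtorEq, or_false, false_or, List.not_mem_nil]
      rintro ⟨-, h⟩
      rw [h] at hodd
      exact absurd hodd (by decide)
    · intro g' hg'
      simp only [exc, List.mem_cons, Prod.mk.injEq, Grp.oplus.injEq, reduceCtorEq, and_false, or_false, false_or,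
        List.not_mem_nil] at hg'
      obtain ⟨-, -, h⟩ := hg'
      rw [h] at hodd
      exact absurd hodd (by decide)
    · intro hch
      by_cases hfull : Full (POmega F (quadFormPlus m F)) R
      · rw [← hpf] at hT
        exact not_cov_three hT hp hp2 (by omega) hm he S hna hC hg
          (full_oplus hT hp (by omega) hm (fun h => hp2 h.1) (fun h => hp2 h.1) hR hfull S hna hC hg hch).2 hc.1
      · exact hmiss (exists_of_not_full hfull)
    · intro s hsp hne hch
      rcases cross_gen hp hT trivial (hasChar_card hp hpF) hι hpF S hSn hSs hna hC hP ⟨e⟩ hsp hne hg hch with h | h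
      · exact hmiss h
      · simp only [excP, List.mem_cons, Prod.mk.injEq, Grp.oplus.injEq, reduceCtorEq, and_false, or_false,
          false_or, List.not_mem_nil] at h
        rcases h with ⟨rfl, rfl, h3⟩ | ⟨rfl, rfl, h3⟩
        · exact hs.g2 h3 hR S hSn hC hg
        · exact hs.sz h3 (by rw [Fintype.card_sum, Fintype.card_fin]) hP e hg
  · exact not_cov_plus_even h2 he hv hM hc

/-- **The row `PΩ^+_{2n}(q)`, `n` even, `q` odd.** -/
theorem row_oplus_even_of (tab : OrderTable.{0}) (hK : ∀ (X : Type) [Group X] [Finite X] [IsSimpleGroup X],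
    Cfsg.IsKnownSimple' X) (hs : Surv) (n q : ℕ) (he : Even n) (h2 : ¬ 2 ∣ q) : RowN.{u} (.oplus n q) := by
  intro T _ _ _ hT
  have hn : 4 ≤ n := hT.cond.1
  obtain ⟨F, _, _, hF, ⟨e⟩⟩ := hT.real
  subst hF
  have hodd : Odd (Fintype.card F) := Nat.not_even_iff_odd.1 fun h => h2 (even_iff_two_dvd.1 h)
  have hfin : Finite (POmega F (quadFormPlus n F)) := Quotient.finite _
  have h1 : RowC (POmega F (quadFormPlus n F)) := fun M hM => not_cov_oplus_even tab hK hs hn he hodd hM.1
  exact (Row.congr e.symm h1.row).row8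

end Cfsg.Agent.H990.Odm
end

-- part: H270/Odm/Frame2
section
/-!
# S4785 (TEAM ODDM), B-ROW: an orthonormal frame for `quadFormOdd m F`, `m` even (helper270)
-/

set_option autoImplicit false

namespace Cfsg.Agent.H270.Odm

open Module QuadraticMap Matrix Cfsg Cfsg.Geo Cfsg.Agent.H955 Cfsg.Agent.ClassicalGeometry.Reflection
open Cfsg.Agent.H884.El (pre mem_pre)
open Cfsg.Agent.LieClassical Cfsg.Agent.LieClassical.OmegaReindex Cfsg.Agent.LieClassical.OrthCore
open scoped MatrixGroups commutatorElement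

section OddFrame

variable {F : Type} [Field F] {m : ℕ}

/-- the anisotropic vector -/
def bW (F : Type) [Field F] (m : ℕ) : Unit ⊕ (Fin m ⊕ Fin m) → F := Pi.single (.inl ()) 1
/-- hyperbolic basis vectors, first half -/
def bX (F : Type) [Field F] {m : ℕ} (i : Fin m) : Unit ⊕ (Fin m ⊕ Fin m) → F := Pi.single (.inr (.inl i)) 1
/-- hyperbolic basis vectors, second half -/
def bY (F : Type) [Field F] {m : ℕ} (i : Fin m) : Unit ⊕ (Fin m ⊕ Fin m) → F := Pi.single (.inr (.inr i)) 1

theorem pol_W (u : Unit ⊕ (Fin m ⊕ Fin m) → F) : polar (quadOdd m F) (bW F m) u = 2 * u (.inl ()) := by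
  rw [polar_quadOdd]
  simp only [bW, _root_.Pi.single_eq_same, _root_.mul_one, _root_.ne_eq, _root_.reduceCtorEq, _root_.not_false_eq_true, _root_.Pi.single_eq_of_ne, _root_.MulZeroClass.zero_mul, _root_.MulZeroClass.mul_zero, _root_.add_zero, _root_.Finset.sum_const_zero]

theorem pol_X (i : Fin m) (u : Unit ⊕ (Fin m ⊕ Fin m) → F) :
    polar (quadOdd m F) (bX F i) u = u (.inr (.inr i)) := by
  rw [polar_quadOdd]
  simp only [bX, Pi.single_apply, _root_.ne_eq, _root_.reduceCtorEq, _root_.not_false_eq_true, _root_.Pi.single_eq_of_ne, _root_.MulZeroClass.mul_zero, _root_.MulZeroClass.zero_mul, _root_.Sum.inr.injEq, _root_.Sum.inl.injEq, _root_.ite_mul, _root_.one_mul, _root_.add_zero, _root_.Finset.sum_ite_eq', _root_.Finset.mem_univ, ↓ _root_.reduceIte, _root_.zero_add]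

theorem pol_Y (i : Fin m) (u : Unit ⊕ (Fin m ⊕ Fin m) → F) :
    polar (quadOdd m F) (bY F i) u = u (.inr (.inl i)) := by
  rw [polar_quadOdd]
  simp only [bY, Pi.single_apply, _root_.ne_eq, _root_.reduceCtorEq, _root_.not_false_eq_true, _root_.Pi.single_eq_of_ne, _root_.MulZeroClass.mul_zero, _root_.MulZeroClass.zero_mul, _root_.Sum.inr.injEq, _root_.mul_ite, _root_.mul_one, _root_.zero_add, _root_.Finset.sum_ite_eq', _root_.Finset.mem_univ, ↓ _root_.reduceIte]

theorem q_W : quadOdd m F (bW F m) = 1 := by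
  rw [coe_quadOdd]
  simp only [Cfsg.quadFormOdd, bW, _root_.Pi.single_eq_same, _root_.one_pow, _root_.ne_eq, _root_.reduceCtorEq, _root_.not_false_eq_true, _root_.Pi.single_eq_of_ne, _root_.MulZeroClass.mul_zero, _root_.Finset.sum_const_zero, _root_.add_zero]

/-- index type of the frame -/
abbrev Ix (k : ℕ) : Type := Option ((Fin k × Fin 2) ⊕ (Fin k × Fin 2))

/-- `X + Y` -/
def bP (F : Type) [Field F] {m : ℕ} (i : Fin m) : Unit ⊕ (Fin m ⊕ Fin m) → F := bX F i + bY F i
/-- `X - Y` -/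
def bN (F : Type) [Field F] {m : ℕ} (i : Fin m) : Unit ⊕ (Fin m ⊕ Fin m) → F := bX F i - bY F i

theorem pol_P (i : Fin m) (u : Unit ⊕ (Fin m ⊕ Fin m) → F) :
    polar (quadOdd m F) (bP F i) u = u (.inr (.inr i)) + u (.inr (.inl i)) := by
  rw [bP, polar_add_left, pol_X, pol_Y]

theorem pol_N (i : Fin m) (u : Unit ⊕ (Fin m ⊕ Fin m) → F) :
    polar (quadOdd m F) (bN F i) u = u (.inr (.inr i)) - u (.inr (.inl i)) := by
  rw [bN, polar_sub_left, pol_X, pol_Y]

theorem q_P (i : Fin m) : quadOdd m F (bP F i) = 1 := by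
  rw [coe_quadOdd]
  simp only [Cfsg.quadFormOdd, bP, bX, bY, Pi.single_apply, _root_.Pi.add_apply, _root_.ne_eq, _root_.reduceCtorEq, _root_.not_false_eq_true, _root_.Pi.single_eq_of_ne, _root_.add_zero, _root_.OfNat.ofNat_ne_zero, _root_.zero_pow, _root_.Sum.inr.injEq, _root_.Sum.inl.injEq, _root_.zero_add, _root_.mul_ite, _root_.mul_one, _root_.MulZeroClass.mul_zero, _root_.Finset.sum_ite_eq', _root_.Finset.mem_univ, ↓ _root_.reduceIte]

theorem q_aN {i j : Fin m} (hij : i ≠ j) (a b : F) : quadOdd m F (a • bN F i + b • bN F j) = -(a ^ 2 + b ^ 2) := by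
  have h : ∀ l : Fin m, quadOdd m F (bN F l) = -1 := by
    intro l
    rw [coe_quadOdd]
    simp only [Cfsg.quadFormOdd, bN, bX, bY, Pi.single_apply, _root_.Pi.sub_apply, _root_.ne_eq, _root_.reduceCtorEq, _root_.not_false_eq_true, _root_.Pi.single_eq_of_ne, _root_.sub_self, _root_.OfNat.ofNat_ne_zero, _root_.zero_pow, _root_.Sum.inr.injEq, _root_.Sum.inl.injEq, _root_.sub_zero, _root_.zero_sub, _root_.mul_neg, _root_.mul_ite, _root_.mul_one, _root_.MulZeroClass.mul_zero, _root_.Finset.sum_neg_distrib, _root_.Finset.sum_ite_eq', _root_.Finset.mem_univ, ↓ _root_.reduceIte, _root_.zero_add]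
  have h2 : polar (quadOdd m F) (bN F i) (bN F j) = 0 := by
    rw [pol_N]
    simp [bN, bX, bY, hij]
  rw [Q_add, QuadraticMap.map_smul, QuadraticMap.map_smul, h, h, polar_smul_left, polar_smul_right, h2]
  simp only [smul_eq_mul]
  ring

/-- the frame: `σ j 0`, `σ j 1` the `j`-th pair of indices -/
def frame {k : ℕ} (σ : Fin k × Fin 2 → Fin m) (a b : F) : Ix k → Unit ⊕ (Fin m ⊕ Fin m) → F
  | none => bW F m
  | some (.inl j) => bP F (σ j)
  | some (.inr (j, 0)) => a • bN F (σ (j, 0)) + b • bN F (σ (j, 1))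
  | some (.inr (j, 1)) => (-b) • bN F (σ (j, 0)) + a • bN F (σ (j, 1))

theorem pol_WP (i : Fin m) : polar (quadOdd m F) (bW F m) (bP F i) = 0 := by
  rw [pol_W]; simp [bP, bX, bY]

theorem pol_WN (i : Fin m) : polar (quadOdd m F) (bW F m) (bN F i) = 0 := by
  rw [pol_W]; simp [bN, bX, bY]

theorem pol_PP {i j : Fin m} (h : i ≠ j) : polar (quadOdd m F) (bP F i) (bP F j) = 0 := by
  rw [pol_P]; simp [bP, bX, bY, h]

theorem pol_PN (i j : Fin m) : polar (quadOdd m F) (bP F i) (bN F j) = 0 := by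
  rw [pol_P]; simp [bN, bX, bY, Pi.single_apply]

theorem pol_NN {i j : Fin m} (h : i ≠ j) : polar (quadOdd m F) (bN F i) (bN F j) = 0 := by
  rw [pol_N]; simp [bN, bX, bY, h]

theorem pol_NN' (i : Fin m) : polar (quadOdd m F) (bN F i) (bN F i) = -2 := by
  rw [pol_N]; simp [bN, bX, bY]; ring

theorem on_frame (h2 : (2 : F) ≠ 0) (hm : 2 ≤ m) {k : ℕ} {σ : Fin k × Fin 2 → Fin m} (hσ : Function.Bijective σ) {a b : F}
    (hab : a ^ 2 + b ^ 2 = -1) : ON (quadOdd m F) (frame σ a b) where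
  one := by
    rintro (_ | j | ⟨j, t⟩)
    · exact q_W
    · exact q_P _
    · have h3 : σ (j, 0) ≠ σ (j, 1) := fun h => by simpa using hσ.1 h
      fin_cases t
      · show quadOdd m F (a • bN F (σ (j, 0)) + b • bN F (σ (j, 1))) = 1
        rw [q_aN h3, hab, neg_neg]
      · show quadOdd m F ((-b) • bN F (σ (j, 0)) + a • bN F (σ (j, 1))) = 1
        rw [q_aN h3, neg_sq, add_comm, hab, neg_neg]
  orth := by
    -- reduce to ordered pairs
    have key1 : ∀ (l : Fin m) (c d : F) (i j : Fin m), polar (quadOdd m F) (bP F l) (c • bN F i + d • bN F j) = 0 := by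
      intro l c d i j
      rw [polar_add_right, polar_smul_right, polar_smul_right, pol_PN, pol_PN, smul_zero, smul_zero, add_zero]
    have key2 : ∀ (c d : F) (i j : Fin m), polar (quadOdd m F) (bW F m) (c • bN F i + d • bN F j) = 0 := by
      intro c d i j
      rw [polar_add_right, polar_smul_right, polar_smul_right, pol_WN, pol_WN, smul_zero, smul_zero, add_zero]
    have key3 : ∀ (c d c' d' : F) (i j i' j' : Fin m), i ≠ i' → i ≠ j' → j ≠ i' → j ≠ j' →
        polar (quadOdd m F) (c • bN F i + d • bN F j) (c' • bN F i' + d' • bN F j') = 0 := by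
      intro c d c' d' i j i' j' h1 h2 h3 h4
      simp only [polar_add_right, polar_smul_right, polar_add_left, polar_smul_left, pol_NN h1, pol_NN h2, pol_NN h3,
        pol_NN h4, smul_zero, add_zero]
    have key4 : ∀ (i j : Fin m), i ≠ j →
        polar (quadOdd m F) (a • bN F i + b • bN F j) ((-b) • bN F i + a • bN F j) = 0 := by
      intro i j h1
      simp only [polar_add_right, polar_smul_right, polar_add_left, polar_smul_left, pol_NN h1, pol_NN h1.symm, pol_NN',
        smul_eq_mul]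
      ring
    have hN : ∀ (j : Fin k) (t : Fin 2), ∃ c d : F, frame σ a b (some (.inr (j, t))) =
        c • bN F (σ (j, 0)) + d • bN F (σ (j, 1)) := by
      intro j t
      fin_cases t
      · exact ⟨a, b, rfl⟩
      · exact ⟨-b, a, rfl⟩
    rintro (_ | j | ⟨j, t⟩) (_ | j' | ⟨j', t'⟩) hne
    · exact absurd rfl hne
    · exact pol_WP _
    · obtain ⟨c, d, h⟩ := hN j' t'
      rw [h]
      exact key2 _ _ _ _
    · rw [polar_comm]
      exact pol_WP _
    · exact pol_PP fun h => hne (by rw [hσ.1 h])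
    · obtain ⟨c, d, h⟩ := hN j' t'
      rw [h]
      exact key1 _ _ _ _ _
    · obtain ⟨c, d, h⟩ := hN j t
      rw [polar_comm, h]
      exact key2 _ _ _ _
    · obtain ⟨c, d, h⟩ := hN j t
      rw [polar_comm, h]
      exact key1 _ _ _ _ _
    · by_cases hj : j = j'
      · subst hj
        have h3 : σ (j, 0) ≠ σ (j, 1) := fun h => by simpa using hσ.1 h
        fin_cases t <;> fin_cases t'
        · exact absurd rfl hne
        · exact key4 _ _ h3
        · rw [polar_comm]
          exact key4 _ _ h3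
        · exact absurd rfl hne
      · obtain ⟨c, d, h⟩ := hN j t
        obtain ⟨c', d', h'⟩ := hN j' t'
        rw [h, h']
        have h4 : ∀ s s' : Fin 2, σ (j, s) ≠ σ (j', s') := fun s s' h => hj (congrArg Prod.fst (hσ.1 h))
        exact key3 _ _ _ _ _ _ _ _ (h4 _ _) (h4 _ _) (h4 _ _) (h4 _ _)
  full := by
    intro u hu
    have hW : u (.inl ()) = 0 := by
      have h := hu none
      change polar (quadOdd m F) (bW F m) u = 0 at h
      rw [pol_W] at h
      exact (mul_eq_zero.1 h).resolve_left h2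
    have hP : ∀ i, u (.inr (.inr i)) + u (.inr (.inl i)) = 0 := by
      intro i
      obtain ⟨j, rfl⟩ := hσ.2 i
      have h := hu (some (.inl j))
      change polar (quadOdd m F) (bP F (σ j)) u = 0 at h
      rwa [pol_P] at h
    have hN : ∀ i, u (.inr (.inr i)) - u (.inr (.inl i)) = 0 := by
      intro i
      obtain ⟨⟨j, t⟩, rfl⟩ := hσ.2 i
      have h3 := hu (some (.inr (j, 0)))
      have h4 := hu (some (.inr (j, 1)))
      change polar (quadOdd m F) (a • bN F (σ (j, 0)) + b • bN F (σ (j, 1))) u = 0 at h3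
      change polar (quadOdd m F) ((-b) • bN F (σ (j, 0)) + a • bN F (σ (j, 1))) u = 0 at h4
      rw [polar_add_left, polar_smul_left, polar_smul_left, pol_N, pol_N, smul_eq_mul, smul_eq_mul] at h3 h4
      fin_cases t
      · show u (.inr (.inr (σ (j, 0)))) - u (.inr (.inl (σ (j, 0)))) = 0
        linear_combination (-a) * h3 + b * h4 + (u (.inr (.inr (σ (j, 0)))) - u (.inr (.inl (σ (j, 0))))) * hab
      · show u (.inr (.inr (σ (j, 1)))) - u (.inr (.inl (σ (j, 1)))) = 0
        linear_combination (-b) * h3 - a * h4 + (u (.inr (.inr (σ (j, 1)))) - u (.inr (.inl (σ (j, 1))))) * hab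
    funext x
    rcases x with x | i | i
    · exact hW
    · have h3 : 2 * u (.inr (.inl i)) = 0 := by linear_combination hP i - hN i
      exact (mul_eq_zero.1 h3).resolve_left h2
    · have h3 : 2 * u (.inr (.inr i)) = 0 := by linear_combination hP i + hN i
      exact (mul_eq_zero.1 h3).resolve_left h2
  three := by
    intro i j
    by_contra hcon
    push Not at hcon
    have h3 : (Finset.univ : Finset (Ix k)) ⊆ {i, j} := by
      intro x _
      rw [Finset.mem_insert, Finset.mem_singleton]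
      by_cases hx : x = i
      · exact Or.inl hx
      · exact Or.inr (hcon x hx)
    have h4 := (Finset.card_le_card h3).trans Finset.card_le_two
    rw [Finset.card_univ, Fintype.card_option, Fintype.card_sum, Fintype.card_prod, Fintype.card_fin,
      Fintype.card_fin] at h4
    have h5 := Fintype.card_of_bijective hσ
    rw [Fintype.card_prod, Fintype.card_fin, Fintype.card_fin, Fintype.card_fin] at h5
    omega

theorem exists_frame [Finite F] (h2 : (2 : F) ≠ 0) (hm : 2 ≤ m) (he : Even m) :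
    ∃ (k : ℕ) (e : Ix k → Unit ⊕ (Fin m ⊕ Fin m) → F), ON (quadOdd m F) e := by
  obtain ⟨k, hk⟩ := he
  have σ : Fin k × Fin 2 ≃ Fin m := Fintype.equivOfCardEq (by simp only [_root_.Fintype.card_prod, _root_.Fintype.card_fin]; omega)
  obtain ⟨p, hp⟩ := CharP.exists F
  have hp0 : NeZero p := ⟨fun h => by
    subst h
    have := CharP.charP_to_charZero F
    exact not_injective_infinite_finite _ (Nat.cast_injective (R := F))⟩
  obtain ⟨a, b, hab⟩ := CharP.sq_add_sq F p (-1)
  exact ⟨k, frame σ (a : F) (b : F), on_frame h2 hm σ.bijective (by rw [hab]; simp)⟩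

end OddFrame

section Plus

variable {F : Type} [Field F] {m : ℕ}

/-- **the perpendicular space of a vector with square value has plus type** -/
theorem isPlus_of_sq (h2 : (2 : F) ≠ 0) {v : Unit ⊕ (Fin m ⊕ Fin m) → F} (hv : quadOdd m F v ≠ 0) {c : F}
    (hc : quadOdd m F v = c ^ 2) : IsPlus (res (quadOdd m F) (perp (quadOdd m F) (Submodule.span F {v}))) := by
  have hc0 : c ≠ 0 := by
    rintro rfl
    exact hv (by rw [hc, zero_pow two_ne_zero])
  have hcW : quadOdd m F (c • bW F m) = c ^ 2 := by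
    rw [QuadraticMap.map_smul, q_W, smul_eq_mul, mul_one, pow_two]
  obtain ⟨g, hg⟩ := exists_isom h2 (hc.trans hcW.symm) (by rw [hcW]; exact pow_ne_zero _ hc0)
  -- the embedding of the hyperbolic part
  let inc : (Fin m ⊕ Fin m → F) →ₗ[F] (Unit ⊕ (Fin m ⊕ Fin m) → F) :=
    { toFun := fun w => Sum.elim (fun _ => 0) w
      map_add' := fun x y => by funext i; rcases i with i | i <;> simp
      map_smul' := fun r x => by funext i; rcases i with i | i <;> simp }
  let φ : (Fin m ⊕ Fin m → F) →ₗ[F] (Unit ⊕ (Fin m ⊕ Fin m) → F) := (Matrix.mulVecLin (mt g⁻¹)).comp inc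
  have hφ : ∀ w, φ w = mt g⁻¹ *ᵥ inc w := fun w => rfl
  have hperp : ∀ w, φ w ∈ perp (quadOdd m F) (Submodule.span F {v}) := by
    intro w
    rw [mem_perp]
    intro x hx
    obtain ⟨r, rfl⟩ := Submodule.mem_span_singleton.1 hx
    rw [polar_smul_left]
    have h3 : polar (quadOdd m F) v (φ w) = polar (quadOdd m F) (c • bW F m) (inc w) := by
      rw [← mt_polar g v (φ w), hg, hφ, mt_inv_vec]
    rw [h3, polar_smul_left, pol_W]
    show r • c • (2 * (0 : F)) = 0
    simp
  have hQ : ∀ w, quadOdd m F (φ w) = quadPlus m F w := by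
    intro w
    rw [hφ, mt_isom, coe_quadOdd, coe_quadPlus]
    simp only [Cfsg.quadFormOdd, Cfsg.quadFormPlus, inc, _root_.LinearMap.coe_mk, _root_.AddHom.coe_mk, _root_.Sum.elim_inl, _root_.ne_eq, _root_.OfNat.ofNat_ne_zero, _root_.not_false_eq_true, _root_.zero_pow, _root_.Sum.elim_inr, _root_.zero_add]
  let ψ : (Fin m ⊕ Fin m → F) →ₗ[F] perp (quadOdd m F) (Submodule.span F {v}) := φ.codRestrict _ hperp
  have hinj : Function.Injective ψ := by
    intro w w' h
    have h3 : φ w = φ w' := congrArg Subtype.val h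
    rw [hφ, hφ] at h3
    have h4 := congrArg (fun x => mt g *ᵥ x) h3
    rw [mt_inv_vec, mt_inv_vec] at h4
    funext i
    exact congrFun h4 (.inr i)
  have hfr : finrank F (Fin m ⊕ Fin m → F) = finrank F (perp (quadOdd m F) (Submodule.span F {v})) := by
    rw [finrank_perp (nondeg_iff.2 (quadOdd_nondegenerate h2)), finrank_span_singleton, finrank_fintype_fun_eq_card,
      finrank_fintype_fun_eq_card]
    · simp only [_root_.Fintype.card_sum, _root_.Fintype.card_fin, _root_.Fintype.card_unique, _root_.add_tsub_cancel_left, _root_.Nat.add_left_cancel_iff]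
    · rintro rfl
      exact hv (QuadraticMap.map_zero _)
  let E := LinearEquiv.ofInjectiveOfFinrankEq ψ hinj hfr
  exact IsPlus.of_equiv E (fun w => hQ w) (H884.El.isPlus_quadPlus m)

end Plus

/-- **the third case of `odd_miss` does not occur in odd index** -/
theorem no_third {F : Type} [Field F] [Finite F] {m : ℕ} (h2 : (2 : F) ≠ 0) (hm : 2 ≤ m)
    {R : Subgroup (POmega F ⇑(quadOdd m F))} (hR : Odd R.index) (he : Even m)
    {v : Unit ⊕ (Fin m ⊕ Fin m) → F} (hv : quadOdd m F v ≠ 0)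
    (hst : pre (⇑(quadOdd m F)) R ≤ subspaceStabilizer (Submodule.span F {v})) :
    IsPlus (res (quadOdd m F) (perp (quadOdd m F) (Submodule.span F {v}))) := by
  obtain ⟨k, e, h⟩ := exists_frame h2 hm he
  obtain ⟨c, hc⟩ := exists_sq h2 h hR hv hst
  exact isPlus_of_sq h2 hv hc

end Cfsg.Agent.H270.Odm
end

-- part: H270/Odm/OwnChar
section
/-!
# S4785 (TEAM ODDM), B-ROW: the own-characteristic survivor `PΩ⁻_{2n}(q) < Ω_{2n+1}(q)` has even index (helper270)
-/

set_option autoImplicit false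

namespace Cfsg.Agent.H270.Odm

open Cfsg Cfsg.Agent.OrdDiv Cfsg.Agent.H436

theorem two_pow_dvd {p : ℕ} (hp : Odd p) (k : ℕ) : 2 ^ (k + 3) ∣ p ^ (2 ^ (k + 1)) - 1 := by
  induction k with
  | zero =>
    have h := Nat.eight_dvd_sq_sub_one_of_odd hp
    exact h
  | succ k ih =>
    have h1 : p ^ (2 ^ (k + 1 + 1)) - 1 = (p ^ (2 ^ (k + 1)) + 1) * (p ^ (2 ^ (k + 1)) - 1) := by
      have h2 : p ^ (2 ^ (k + 1 + 1)) = (p ^ (2 ^ (k + 1))) ^ 2 := by rw [← pow_mul, ← pow_succ]
      rw [h2, ← Nat.sq_sub_sq, one_pow]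
    rw [h1, show k + 1 + 3 = 1 + (k + 3) by ring, pow_add, pow_one]
    refine Nat.mul_dvd_mul ?_ ih
    exact (hp.pow.add_odd odd_one).two_dvd

/-- the arithmetic: `|T| = |S| q^n (q^n - 1)` -/
theorem card_eq {q n t s : ℕ} (hq : Odd q) (hn : 1 ≤ n) (he : Even n) (hT : 2 * t = q ^ (n ^ 2) * prB q n)
    (hS : Nat.gcd 4 (q ^ n + 1) * s = q ^ (n * (n - 1)) * ((q ^ n + 1) * prB q (n - 1))) :
    t = s * (q ^ n * (q ^ n - 1)) := by
  obtain ⟨m, rfl⟩ : ∃ m, n = m + 1 := ⟨n - 1, by omega⟩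
  have h1 : q ^ (m + 1) % 4 = 1 := by
    obtain ⟨k, hk⟩ := he
    rw [hk, ← two_mul, pow_mul]
    have h2 := Nat.eight_dvd_sq_sub_one_of_odd hq
    have h3 : 0 < q ^ 2 := pow_pos hq.pos 2
    have h4 : q ^ 2 % 4 = 1 := by omega
    rw [Nat.pow_mod, h4, one_pow]
    norm_num
  have h2 : Nat.gcd 4 (q ^ (m + 1) + 1) = 2 := by
    rw [Nat.gcd_rec]
    have h3 : (q ^ (m + 1) + 1) % 4 = 2 := by omega
    rw [h3]
    decide
  have h3 : prB q (m + 1) = prB q m * (q ^ (2 * (m + 1)) - 1) := by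
    unfold prB
    rw [List.range_succ, List.map_append, List.prod_append]
    simp only [_root_.List.map_cons, _root_.List.map_nil, _root_.List.prod_cons, _root_.List.prod_nil, _root_.mul_one]
  have h4 : q ^ (2 * (m + 1)) - 1 = (q ^ (m + 1) + 1) * (q ^ (m + 1) - 1) := by
    have h5 : q ^ (2 * (m + 1)) = (q ^ (m + 1)) ^ 2 := by rw [← pow_mul, mul_comm]
    rw [h5, ← Nat.sq_sub_sq, one_pow]
  rw [h2, Nat.add_sub_cancel] at hS
  rw [h3, h4] at hT
  have h5 : q ^ ((m + 1) ^ 2) = q ^ ((m + 1) * m) * q ^ (m + 1) := by rw [← pow_add]; congr 1; ring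
  rw [h5] at hT
  have h6 : 2 * t = 2 * (s * (q ^ (m + 1) * (q ^ (m + 1) - 1))) := by
    calc 2 * t = q ^ ((m + 1) * m) * ((q ^ (m + 1) + 1) * prB q m) * (q ^ (m + 1) * (q ^ (m + 1) - 1)) := by
          rw [hT]; ring
      _ = _ := by rw [← hS]; ring
  omega

theorem no_own_num {p f n t s r i : ℕ} (hp : Odd p) (hf : 1 ≤ f) (he : Even n) (hs : 0 < s)
    (ht : t = s * ((p ^ f) ^ n * ((p ^ f) ^ n - 1))) (hr : r ∣ 4 * f * s) (hi : r * i = t) (hodd : Odd i) : False := by
  obtain ⟨a, b, hb, hab⟩ := Nat.exists_eq_two_pow_mul_odd (n := f) (by omega)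
  have h1 : s * ((p ^ f) ^ n * ((p ^ f) ^ n - 1)) ∣ s * (4 * f * i) := by
    rw [← ht, ← hi]
    obtain ⟨c, hc⟩ := hr
    exact ⟨c, by rw [show s * (4 * f * i) = (4 * f * s) * i by ring, hc]; ring⟩
  have h2 : (p ^ f) ^ n - 1 ∣ 4 * f * i := (Dvd.intro_left _ rfl).trans ((Nat.mul_dvd_mul_iff_left hs).1 h1)
  have h3 : p ^ (2 ^ (a + 1)) - 1 ∣ (p ^ f) ^ n - 1 := by
    obtain ⟨c, hc⟩ := he
    have h4 : (p ^ f) ^ n = (p ^ (2 ^ (a + 1))) ^ (b * c) := by
      rw [← pow_mul, ← pow_mul, hab, hc]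
      congr 1
      ring
    rw [h4]
    have h5 := Nat.sub_dvd_pow_sub_pow (p ^ (2 ^ (a + 1))) 1 (b * c)
    rwa [one_pow] at h5
  have h4 : 2 ^ (a + 3) ∣ 4 * f * i := (two_pow_dvd hp a).trans (h3.trans h2)
  have h5 : 2 ^ (a + 3) ∣ 4 * f := (Nat.Coprime.pow_left _ (Nat.coprime_two_left.2 hodd)).dvd_of_dvd_mul_right h4
  rw [hab, show 4 * (2 ^ a * b) = 2 ^ (a + 2) * b by ring, pow_succ, Nat.mul_dvd_mul_iff_left (by positivity)] at h5
  exact (Nat.not_even_iff_odd.2 hb) (even_iff_two_dvd.2 h5)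

/-- **the survivor `PΩ⁻_{2n}(q)` has even index** -/
theorem no_own {T : Type} [Group T] [Finite T] {p f n : ℕ} (hp : p.Prime) (hp2 : p ≠ 2) (hf : 1 ≤ f) (hn : 4 ≤ n)
    (he : Even n) (hT : IsNamed (.oodd n (p ^ f)) T) {R : Subgroup T} (hR : Odd R.index) (S : Subgroup R) [S.Normal]
    (hC : Subgroup.centralizer (S : Set R) = ⊥) (hS : IsNamed (.ominus n (p ^ f)) S) : False := by
  have hpo : Odd p := hp.odd_of_ne_two hp2
  have h1 : Nat.card R ∣ Nat.card (MulAut S) := H264.FKS.dvd_aut S hC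
  obtain ⟨F, hF1, hF2, a, b, hF, hab, ⟨e⟩⟩ := hS.real
  have : Fact p.Prime := ⟨hp⟩
  have h2 := S0818.result p f hf hF n hn a b hab
  rw [if_neg hp2, if_pos, ← Nat.card_congr (MulAut.congr e).toEquiv, ← Nat.card_congr e.toEquiv] at h2
  · rw [h2] at h1
    exact no_own_num hpo hf he Nat.card_pos (card_eq hpo.pow (by omega) he hT.eq hS.eq) h1 R.card_mul_index hR
  · obtain ⟨c, hc⟩ := he
    obtain ⟨d, hd⟩ : Odd (p ^ f) := hpo.pow
    rw [hc, hd]
    exact ⟨c * d, by rw [Nat.add_sub_cancel, show (c + c) * (2 * d) = 2 * (c * d + c * d) by ring,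
      Nat.mul_div_cancel_left _ (by norm_num)]⟩

end Cfsg.Agent.H270.Odm
end

-- part: H270/Odm/Primes
section
/-!
# S4785 (TEAM ODDM), B-ROW: every prime divisor of `|Ω_{2m+1}(q)|` is the order of a real element (helper270)
-/

set_option autoImplicit false

namespace Cfsg.Agent.H270.Odm

open Cfsg Cfsg.Agent.OrdDiv Cfsg.Agent.H436 Cfsg.Agent.H453.OddM

theorem realP_of_hasReal {p : ℕ} {G : Type*} [Group G] (h : H722.RealP.HasReal p G) : RealP G p := by
  obtain ⟨x, t, hx, -, h⟩ := h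
  exact ⟨x, hx, t, h⟩

theorem dvd_prB {r q : ℕ} (hr : r.Prime) : ∀ m, r ∣ prB q m → ∃ d, d ≠ 0 ∧ d ≤ m ∧ r ∣ q ^ (2 * d) - 1 := by
  intro m
  induction m with
  | zero =>
    intro h
    exact absurd (Nat.dvd_one.1 h) hr.one_lt.ne'
  | succ m ih =>
    intro h
    have h3 : prB q (m + 1) = prB q m * (q ^ (2 * (m + 1)) - 1) := by
      unfold prB
      rw [List.range_succ, List.map_append, List.prod_append]
      simp only [_root_.List.map_cons, _root_.List.map_nil, _root_.List.prod_cons, _root_.List.prod_nil, _root_.mul_one]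
    rw [h3] at h
    rcases (hr.dvd_mul).1 h with h | h
    · obtain ⟨d, h1, h2, h4⟩ := ih h
      exact ⟨d, h1, by omega, h4⟩
    · exact ⟨m + 1, by omega, le_rfl, h⟩

theorem two_ne {F : Type} [Field F] [Fintype F] (hodd : Odd (Fintype.card F)) : (2 : F) ≠ 0 :=
  H390.two_ne_zero_of_odd hodd

/-- **all primes are orders of real elements** -/
theorem realP_all {F : Type} [Field F] [Fintype F] {m : ℕ} (hm : 3 ≤ m) (hodd : Odd (Fintype.card F)) {r : ℕ}
    (hr : r.Prime) (hd : r ∣ Nat.card (POmega F (quadFormOdd m F))) : RealP (POmega F (quadFormOdd m F)) r := by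
  have hfin : Finite (POmega F (quadFormOdd m F)) := Quotient.finite _
  have h2 := two_ne hodd
  by_cases hr2 : r = 2
  · subst hr2
    exact realP_two hd
  by_cases hrF : r ∣ Fintype.card F
  · have : Fact r.Prime := ⟨hr⟩
    have : CharP F r := H501.RowPSL.charP_of_dvd hr (by rw [Nat.card_eq_fintype_card]; exact hrF)
    have h3 : H722.RealP.HasReal r (Omega F (quadFormOdd m F)) :=
      H501.RowOmega.omega_def hm (H982.LawFam.gOdd F m) (H982.LawFam.gOdd_injective F m)
    exact realP_of_hasReal (H501.RealGen.HasReal.quot hr hr2 _ le_rfl h3)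
  · have hT := (H264.FKS.named_oodd (F := F) hm hodd).eq
    have h3 : 2 * Nat.card (POmega F (quadFormOdd m F)) =
        Fintype.card F ^ (m ^ 2) * prB (Fintype.card F) m := hT
    have h4 : r ∣ Fintype.card F ^ (m ^ 2) * prB (Fintype.card F) m := h3 ▸ hd.mul_left 2
    rcases (hr.dvd_mul).1 h4 with h4 | h4
    · exact absurd (hr.dvd_of_dvd_pow h4) hrF
    · obtain ⟨d, hd0, hdm, h5⟩ := dvd_prB hr m h4
      have h6 : Fintype.card F ^ (2 * d) - 1 = (Fintype.card F ^ d + 1) * (Fintype.card F ^ d - 1) := by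
        have h5 : Fintype.card F ^ (2 * d) = (Fintype.card F ^ d) ^ 2 := by rw [← pow_mul, mul_comm]
        rw [h5, ← Nat.sq_sub_sq, one_pow]
      rw [h6] at h5
      exact realP_oodd h2 (by omega) hd0 hdm (hr.odd_of_ne_two hr2) ((hr.dvd_mul).1 h5).symm

/-- **no prime is missed** -/
theorem not_miss {F : Type} [Field F] [Fintype F] {m : ℕ} (hm : 3 ≤ m) (hodd : Odd (Fintype.card F))
    {R : Subgroup (POmega F (quadFormOdd m F))} (hR : Cov _ R) : ¬ H884.El.Miss R := by
  rintro ⟨r, hr, h1, h2⟩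
  exact h2 (hR.dvd (realP_all hm hodd hr h1))

end Cfsg.Agent.H270.Odm
end

-- part: H270/Odm/Row
section
/-!
# S4785 (TEAM ODDM), B-ROW: `Ω_{2n+1}(q)`, `q` odd, `n ≥ 3` (helper270)
-/

set_option autoImplicit false

namespace Cfsg.Agent.H270.Odm

open Cfsg Cfsg.Geo Cfsg.Agent.OrdDiv Cfsg.Agent.H436 Cfsg.Agent.H453.OddM Cfsg.Agent.H955
open Cfsg.Agent.H278.El.SporNum (IsCl exc)
open Cfsg.Agent.H278.El.AltNum (dimOf surv)
open Cfsg.Agent.LieClassical.OmegaReindex

universe u

/-- the geometric part -/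
theorem geo {F : Type} [Field F] [Fintype F] {m : ℕ} (hm : 3 ≤ m) (hodd : Odd (Fintype.card F))
    {R : Subgroup (POmega F (quadFormOdd m F))} (hR : Cov _ R) :
    InOrthogonalResidualClass (H884.El.pre (quadFormOdd m F) R) := by
  have h2 := two_ne hodd
  have h : ∀ M : Subgroup (POmega F (⇑(quadOdd m F))), Cov _ M → ¬ H884.El.Miss M →
      InOrthogonalResidualClass (H884.El.pre (⇑(quadOdd m F)) M) := by
    intro M hc hmiss
    rcases H884.El.odd_miss h2 hm (H884.El.card_odd m) (nondeg_iff.2 (quadOdd_nondegenerate h2))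
      (H884.El.data_odd hm h2) M with h | h | ⟨he, v, hv, hst, hP⟩
    · exact absurd h hmiss
    · exact h
    · exact absurd (no_third h2 (by omega) hc.1 he hv hst) hP
  rw [coe_quadOdd] at h
  exact h R hR (not_miss hm hodd hR)

/-- **no proper subgroup of odd index meets all real classes** -/
theorem no_cov {F : Type} [Field F] [Fintype F] {m : ℕ} (hm : 3 ≤ m) (hodd : Odd (Fintype.card F))
    {R : Subgroup (POmega F (quadFormOdd m F))} (hR : R ≠ ⊤) : ¬ Cov _ R := by
  intro hcov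
  obtain ⟨p, hp, hpF⟩ := H278.El.Asm.exists_char_card (F := F)
  obtain ⟨f, hf⟩ := H278.El.Asm.hasChar_card hp hpF
  have hT := H264.FKS.named_oodd (F := F) hm hodd
  have hfin : Finite (POmega F (quadFormOdd m F)) := Quotient.finite _
  have hmiss : H264.FKS.Miss R → False := fun h => not_miss hm hodd hcov h
  obtain ⟨P, hP, -⟩ := geo hm hodd hcov
  obtain ⟨S, hSn, hSs, hna, hC, ⟨e⟩⟩ := H264.FKS.exists_res_odd hm hodd (M := R) hP
  obtain ⟨g, hg⟩ := H278.El.Asm.named_of_simple OrdDiv.table H278.El.Asm.known hna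
  refine H278.El.Asm.res_kill (p := p) hT trivial ?_ ?_ S hC hg e ?_ hmiss ?_ ?_
  · simp only [surv, List.mem_cons, reduceCtorEq, or_false, List.not_mem_nil, not_false_eq_true]
  · intro g' hg'
    simp only [exc, List.mem_cons, Prod.mk.injEq, reduceCtorEq, and_false, or_false, List.not_mem_nil] at hg'
  · rw [Fintype.card_sum, Fintype.card_sum, Fintype.card_fin, Fintype.card_unit]
    change 1 + (m + m) = 2 * m + 1
    omega
  · intro hch
    have hp2 : p ≠ 2 := by
      rintro rfl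
      exact (Nat.not_even_iff_odd.2 hodd) (even_iff_two_dvd.2 hpF)
    have hf1 : 1 ≤ f := by
      rcases Nat.eq_zero_or_pos f with rfl | h
      · have := Fintype.one_lt_card (α := F)
        rw [hf, pow_zero] at this
        omega
      · exact h
    have hfull : H264.FKS.Full (POmega F (quadFormOdd m F)) R := by
      by_contra h
      exact hmiss (H264.FKS.exists_of_not_full h)
    rw [hf] at hT
    obtain ⟨he, rfl⟩ := H264.FKS.full_oodd hT hp hf1 hm hR hfull S hna hC hg hch
    exact no_own hp hp2 hf1 (by omega) (Nat.even_iff.2 he) hT hcov.1 S hC hg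
  · exact fun s hs hsp hch => hmiss ((H304.Ela.crossRowsM H278.El.Asm.survAll).oodd hp hpF hm hodd R hR S hSn hSs
      hna hC _ P hP ⟨e⟩ s g hs hsp hg hch)

/-- **S4785, row `Ω_{2n+1}(q)`** -/
theorem row_oodd (n q : ℕ) : RowN.{u} (.oodd n q) := by
  intro T _ _ _ hT
  obtain ⟨F, hF1, hF2, hF, ⟨e⟩⟩ := hT.real
  obtain ⟨hn, hq, -⟩ := hT.cond
  have h : Row (POmega F (quadFormOdd n F)) := by
    intro R hR
    by_contra hne
    exact no_cov hn (hF ▸ hq) hne hR.cov
  exact h.row8.congr e.symm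

end Cfsg.Agent.H270.Odm
end

private theorem dce_2383fa6db6ec : _root_.True := by
  try have : _root_.True := by simp only [_root_.Cfsg.Agent.H990.Odm.trE.eq_1]
  try have : _root_.True := by simp only [_root_.Cfsg.Agent.H270.Odm.bY.eq_1]
  try have : _root_.True := by simp only [_root_.Cfsg.Agent.H990.Odm.sgE.eq_1]
  try have : _root_.True := by simp only [_root_.Cfsg.Agent.OrdDiv.glN.eq_1]
  try have : _root_.True := by simp only [_root_.Cfsg.Agent.H177.OM.tg.eq_1]
  try have : _root_.True := by simp only [_root_.Cfsg.Agent.H990.Odm.rt.eq_1]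
  try have : _root_.True := by simp only [_root_.Cfsg.Agent.H270.Odm.bP.eq_1]
  try have : _root_.True := by simp only [_root_.Cfsg.Agent.H270.Odm.bX.eq_1]
  try have : _root_.True := by simp only [_root_.Cfsg.Agent.H270.Odm.bW.eq_1]
  try have : _root_.True := by simp only [_root_.Cfsg.Agent.H177.OM.tsp.eq_1]
  try have : _root_.True := by simp only [_root_.Cfsg.Agent.H990.Odm.gen.eq_1]
  try have : _root_.True := by simp only [_root_.Cfsg.Agent.H270.Odm.bN.eq_1]
  exact _root_.True.intro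
end

-- part: H453/OddM/RowPSL
section
prune_inst 0x100011005880100000000000000002010000000000008000000200040009800000000000000000001000000000000000000000800000000000000000000000000000040080080008000000000000000000000000000000000000000000000000000000000
set_option linter.all false
open scoped Cfsg.Agent.FastGrp

-- part: H746/OddM/ThreeLPt
section
/-!
# S4785, the groups `PSL_3(q)`, `q` odd: subgroups fixing a point (helper746, TEAM ODDM)
-/

set_option autoImplicit false

namespace Cfsg.Agent.H746.OddM.ThreeL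

open Cfsg Cfsg.Geo Matrix Cfsg.Agent.H746.OddM.Three Cfsg.Agent.H453.OddM
open Cfsg.Agent.H304.PslT (pr)
open scoped MatrixGroups LinearAlgebra.Projectivization

variable {F : Type*} [Field F]

local notation "V3" => Fin 3 → F
local notation "M3" => Matrix (Fin 3) (Fin 3) F
local notation "SL3" => Matrix.SpecialLinearGroup (Fin 3) F
local notation "PSL3" => Matrix.ProjectiveSpecialLinearGroup (Fin 3) F
local notation "Om" => ℙ F (Fin 3 → F)

/-! ### points and vectors -/

theorem mulVec_ne_zero (g : SL3) {v : V3} (hv : v ≠ 0) : (g : M3) *ᵥ v ≠ 0 :=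
  (smul_ne_zero_iff_ne g).mpr hv

theorem smul_mk' (g : SL3) {v : V3} (hv : v ≠ 0) :
    g • Projectivization.mk F v hv = Projectivization.mk F ((g : M3) *ᵥ v) (mulVec_ne_zero g hv) := rfl

/-- fixed points are eigenvectors -/
theorem fixed_iff_eig {g : SL3} {v : V3} (hv : v ≠ 0) :
    g • Projectivization.mk F v hv = Projectivization.mk F v hv ↔ ∃ μ : F, (g : M3) *ᵥ v = μ • v := by
  rw [smul_mk', Projectivization.mk_eq_mk_iff']
  exact ⟨fun ⟨a, ha⟩ => ⟨a, ha.symm⟩, fun ⟨a, ha⟩ => ⟨a, ha.symm⟩⟩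

theorem mul_mulVec (g h : SL3) (v : V3) : ((g * h : SL3) : M3) *ᵥ v = (g : M3) *ᵥ ((h : M3) *ᵥ v) := by
  rw [Matrix.SpecialLinearGroup.coe_mul, Matrix.mulVec_mulVec]

theorem mulVec_inv_mulVec (g : SL3) (v : V3) : (g : M3) *ᵥ (((g⁻¹ : SL3) : M3) *ᵥ v) = v := by
  rw [← mul_mulVec, mul_inv_cancel, Matrix.SpecialLinearGroup.coe_one, Matrix.one_mulVec]

theorem inv_mulVec_mulVec (g : SL3) (v : V3) : ((g⁻¹ : SL3) : M3) *ᵥ ((g : M3) *ᵥ v) = v := by
  rw [← mul_mulVec, inv_mul_cancel, Matrix.SpecialLinearGroup.coe_one, Matrix.one_mulVec]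

/-- the fixed point of the regular unipotent element -/
theorem ru_fix {u : SL3} (hu : (u : M3) = !![1, 1, 1 / 2; 0, 1, 1; 0, 0, 1]) {P Q : Om} (hP : u • P = P)
    (hQ : u • Q = Q) : P = Q := by
  have key : ∀ (v : V3) (hv : v ≠ 0), u • Projectivization.mk F v hv = Projectivization.mk F v hv →
      v 1 = 0 ∧ v 2 = 0 := by
    intro v hv h
    obtain ⟨μ, hμ⟩ := (fixed_iff_eig hv).1 h
    rw [hu] at hμ
    have h0 := congrFun hμ 0
    have h1 := congrFun hμ 1
    have h2 := congrFun hμ 2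
    simp only [Matrix.mulVec, dotProduct, Fin.sum_univ_three, _root_.Matrix.mulVec, _root_.dotProduct, _root_.one_div, _root_.Fin.isValue, _root_.Matrix.of_apply, _root_.Matrix.cons_val', _root_.Matrix.cons_val_fin_one, _root_.Matrix.cons_val_zero, _root_.Fin.sum_univ_three, _root_.one_mul, _root_.Matrix.cons_val_one, _root_.Matrix.cons_val, _root_.Pi.smul_apply, _root_.smul_eq_mul, _root_.MulZeroClass.zero_mul, _root_.zero_add, _root_.add_zero] at h0 h1 h2
    have h2' : v 2 = 0 := by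
      have h3 : (μ - 1) * v 2 = 0 := by linear_combination -h2
      rcases mul_eq_zero.1 h3 with h4 | h4
      · have h5 : μ = 1 := sub_eq_zero.1 h4
        rw [h5] at h1
        linear_combination h1
      · exact h4
    rw [h2'] at h0 h1
    refine ⟨?_, h2'⟩
    have h1' : (1 - μ) * v 1 = 0 := by linear_combination h1
    rcases mul_eq_zero.1 h1' with h3 | h3
    · have h4 : μ = 1 := (sub_eq_zero.1 h3).symm
      rw [h4] at h0
      linear_combination h0
    · exact h3
  induction P with | h v hv => ?_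
  induction Q with | h w hw => ?_
  obtain ⟨h1, h2⟩ := key v hv hP
  obtain ⟨h3, h4⟩ := key w hw hQ
  have hw0 : w 0 ≠ 0 := by
    intro h
    apply hw
    ext i
    fin_cases i
    · exact h
    · exact h3
    · exact h4
  rw [Projectivization.mk_eq_mk_iff']
  refine ⟨v 0 / w 0, ?_⟩
  ext i
  fin_cases i
  · simp [hw0]
  · simp [h1, h3]
  · simp [h2, h4]

/-- an eigenvector of the diagonal element -/
theorem eg_vec {lam : Fˣ} {x : SL3} (hx : (x : M3) = Matrix.diagonal ![1, (lam : F), (lam : F)⁻¹])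
    (hl : lam ≠ 1) {v : V3} (hv : v ≠ 0) {μ : F} (hμ : (x : M3) *ᵥ v = μ • v) :
    ∃ (v' : V3) (ν : Fˣ), v' ≠ 0 ∧ (x : M3) *ᵥ v' = (μ * ν) • v' ∧ (ν = lam ∨ ν = lam⁻¹) ∧ μ ≠ 0 := by
  have hl0 : (lam : F) ≠ 0 := lam.ne_zero
  have hl1 : (lam : F) ≠ 1 := fun h => hl (Units.ext h)
  have hl1' : (lam : F)⁻¹ ≠ 1 := fun h => hl1 (inv_eq_one.1 h)
  have hact : ∀ w : V3, (x : M3) *ᵥ w = ![w 0, lam * w 1, (lam : F)⁻¹ * w 2] := by
    intro w
    rw [hx]
    ext i
    (revert i; simp only [Matrix.mulVec_diagonal, _root_.Fin.forall_fin_succ, _root_.Nat.succ_eq_add_one, Nat.reduceAdd, Fin.isValue, _root_.Matrix.cons_val_zero, _root_.one_mul, _root_.Matrix.cons_val_succ, _root_.Fin.succ_zero_eq_one, _root_.Matrix.cons_val_fin_one, _root_.mul_eq_mul_left_iff, _root_.inv_eq_zero, _root_.Units.ne_zero, _root_.or_false, _root_.Fin.succ_one_eq_two, _root_.IsEmpty.forall_iff, _root_.and_self])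
  rw [hact] at hμ
  have h0 := congrFun hμ 0
  have h1 := congrFun hμ 1
  have h2 := congrFun hμ 2
  simp only [Matrix.cons_val_zero, Matrix.cons_val_one, Matrix.cons_val, Pi.smul_apply, smul_eq_mul] at h0 h1 h2
  by_cases hv0 : v 0 = 0
  · have hμ' : μ = lam ∨ μ = (lam : F)⁻¹ := by
      by_cases hv1 : v 1 = 0
      · have hv2 : v 2 ≠ 0 := by
          intro hv2
          apply hv
          ext i
          fin_cases i
          · exact hv0
          · exact hv1
          · exact hv2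
        exact Or.inr (mul_right_cancel₀ hv2 h2).symm
      · exact Or.inl (mul_right_cancel₀ hv1 h1).symm
    have he0 : (![1, 0, 0] : V3) ≠ 0 := by
      intro h
      have := congrFun h 0
      simp at this
    have hxe : (x : M3) *ᵥ (![1, 0, 0] : V3) = ![1, 0, 0] := by
      rw [hact]
      simp
    rcases hμ' with h | h
    · refine ⟨![1, 0, 0], lam⁻¹, he0, ?_, Or.inr rfl, by rw [h]; exact hl0⟩
      rw [hxe, h]
      simp
    · refine ⟨![1, 0, 0], lam, he0, ?_, Or.inl rfl, by rw [h]; exact inv_ne_zero hl0⟩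
      rw [hxe, h]
      simp
  · have hμ1 : μ = 1 := by
      have : (μ - 1) * v 0 = 0 := by linear_combination -h0
      exact sub_eq_zero.1 ((mul_eq_zero.1 this).resolve_right hv0)
    refine ⟨![0, 1, 0], lam, ?_, ?_, Or.inl rfl, by rw [hμ1]; exact one_ne_zero⟩
    · intro h
      have := congrFun h 1
      simp at this
    · rw [hact, hμ1]
      simp

/-! ### counting -/

theorem orb_card {G X : Type*} [Group G] [MulAction G X] (A : Subgroup G) (Q : X) :
    (MulAction.orbit A Q).ncard * Nat.card (A ⊓ MulAction.stabilizer G Q : Subgroup G) = Nat.card A := by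
  rw [← MulAction.index_stabilizer, ← Subgroup.index_mul_card (MulAction.stabilizer A Q)]
  congr 1
  exact Nat.card_congr (Equiv.subtypeSubtypeEquivSubtypeInter (fun g => g ∈ A) (fun g => g • Q = Q)).symm

/-- the arithmetic -/
theorem arith {q p k k2 l s s2 sl j m l' A B : ℕ} (hp : p.Prime) (hpq : p ∣ q) (hq : 2 ≤ q) (hk2 : 0 < k2)
    (hs2 : 0 < s2) (h1 : (q ^ 2 + q) * k2 = k) (h2 : q * k2 = l) (h3 : k = s * j) (h4 : l = sl * l')
    (h5 : s = sl * m) (h6 : A * s2 = s) (h7 : B * s2 = sl) (hB : q - 1 ≤ B) (hA : A ≤ q ^ 2 + q) (hpA : p ∣ A)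
    (hj : Nat.Coprime j (q + 1)) : A = q ^ 2 + q := by
  have hk : k = (q + 1) * l := by rw [← h1, ← h2]; ring
  have hk0 : 0 < k := by rw [← h1]; positivity
  have hsl : 0 < sl := by
    rcases Nat.eq_zero_or_pos sl with h | h
    · rw [h, zero_mul] at h5
      rw [h3, h5, zero_mul] at hk0
      omega
    · exact h
  have hm : m * j = (q + 1) * l' := by
    have : sl * (m * j) = sl * ((q + 1) * l') := by
      rw [← mul_assoc, ← h5, ← h3, hk, h4]; ring
    exact Nat.eq_of_mul_eq_mul_left hsl this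
  have hqm : (q + 1) ∣ m := hj.symm.dvd_of_dvd_mul_right (Dvd.intro _ hm.symm)
  obtain ⟨m', rfl⟩ := hqm
  have hAB : A = (B * m') * (q + 1) := by
    have : A * s2 = ((B * m') * (q + 1)) * s2 := by
      rw [h6, h5, ← h7]; ring
    exact Nat.eq_of_mul_eq_mul_right hs2 this
  have hA0 : 0 < A := by
    rcases Nat.eq_zero_or_pos A with h | h
    · rw [h, zero_mul] at h6
      rw [h3, ← h6, zero_mul] at hk0
      omega
    · exact h
  have hm' : 1 ≤ m' := by
    rcases Nat.eq_zero_or_pos m' with h | h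
    · rw [h, mul_zero, zero_mul] at hAB
      omega
    · exact h
  have h8 : q - 1 ≤ B * m' := hB.trans (Nat.le_mul_of_pos_right _ hm')
  have h9 : B * m' ≤ q := by
    have : (B * m') * (q + 1) ≤ q * (q + 1) := by
      rw [← hAB]; calc A ≤ q ^ 2 + q := hA
        _ = q * (q + 1) := by ring
    exact Nat.le_of_mul_le_mul_right this (by omega)
  have h10 : p ∣ B * m' := by
    rw [hAB] at hpA
    refine (hp.dvd_mul.1 hpA).resolve_right fun h => ?_
    have := (Nat.dvd_add_right hpq).1 h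
    exact hp.one_lt.ne' (Nat.dvd_one.1 this)
  have h11 : B * m' = q := by
    rcases Nat.lt_or_ge (B * m') q with h | h
    · exfalso
      have h12 : B * m' = q - 1 := by omega
      rw [h12] at h10
      have h13 := Nat.dvd_sub hpq h10
      rw [Nat.sub_sub_self (by omega)] at h13
      exact hp.one_lt.ne' (Nat.dvd_one.1 h13)
    · omega
  rw [hAB, h11]; ring

variable [Fintype F]

theorem card_om : Nat.card Om = Fintype.card F ^ 2 + Fintype.card F + 1 := by
  rw [Projectivization.card_of_finrank F V3 (n := 3) (by simp), Nat.card_eq_fintype_card]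
  simp only [Finset.sum_range_succ, _root_.Finset.sum_range_succ, _root_.Finset.range_one, _root_.Finset.sum_singleton, _root_.pow_zero, _root_.pow_one]
  ring

/-- the stabilizer of a plane -/
def LU (U : Submodule F V3) : Subgroup SL3 := (subspaceStabilizer U).comap Matrix.SpecialLinearGroup.toGL

theorem mem_LU {U : Submodule F V3} {g : SL3} (h : ∀ x ∈ U, (g : M3) *ᵥ x ∈ U) : g ∈ LU U := by
  classical
  have h1 : ∀ n : ℕ, ∀ x ∈ U, ((g ^ n : SL3) : M3) *ᵥ x ∈ U := by
    intro n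
    induction n with
    | zero => intro x hx; simpa using hx
    | succ n ih =>
      intro x hx
      rw [pow_succ, mul_mulVec]
      exact ih _ (h x hx)
  intro x
  refine ⟨h x, fun hx => ?_⟩
  have h2 := h1 (orderOf g - 1) _ hx
  have h3 : ((g ^ (orderOf g - 1) : SL3) : M3) *ᵥ ((g : M3) *ᵥ x) = x := by
    rw [← mul_mulVec, ← pow_succ, Nat.sub_add_cancel (orderOf_pos g), pow_orderOf_eq_one,
      Matrix.SpecialLinearGroup.coe_one, Matrix.one_mulVec]
  change ((g ^ (orderOf g - 1) : SL3) : M3) *ᵥ ((g : M3) *ᵥ x) ∈ U at h2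
  rwa [h3] at h2

omit [Fintype F] in
theorem LU_mem {U : Submodule F V3} {g : SL3} (h : g ∈ LU U) {x : V3} (hx : x ∈ U) : (g : M3) *ᵥ x ∈ U :=
  (h x).1 hx

omit [Fintype F] in
/-- the orbit of the stabilizer of a point -/
theorem orbit_stab {P Q : Om} (h : Q ≠ P) : MulAction.orbit (MulAction.stabilizer SL3 P) Q = {P}ᶜ := by
  ext Q'
  rw [MulAction.mem_orbit_iff, Set.mem_compl_iff, Set.mem_singleton_iff]
  constructor
  · rintro ⟨⟨g, hg⟩, rfl⟩ h1
    apply h
    have h2 : g • Q = P := h1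
    have h3 : g • P = P := hg
    exact smul_left_cancel g (h2.trans h3.symm)
  · intro h1
    obtain ⟨g, hg1, hg2⟩ := MulAction.is_two_pretransitive_iff.1
      (inferInstance : MulAction.IsMultiplyPretransitive SL3 Om 2) (Ne.symm h) (Ne.symm h1)
    exact ⟨⟨g, hg1⟩, hg2⟩

theorem ncard_compl (P : Om) : ({P}ᶜ : Set Om).ncard = Fintype.card F ^ 2 + Fintype.card F := by
  have : Finite Om := Projectivization.finite_of_finite F V3
  rw [Set.ncard_compl, Set.ncard_singleton, card_om, Nat.add_sub_cancel]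

section line

variable {v w : Fin 3 → F}

omit [Fintype F] in
theorem add_ne_zero' (hvw : LinearIndependent F ![v, w]) (c : F) : w + c • v ≠ 0 := by
  intro h
  have := (LinearIndependent.pair_iff.1 hvw) c 1 (by rw [one_smul, add_comm]; exact h)
  exact one_ne_zero this.2

/-- the points of the line `⟨v, w⟩` other than `v` -/
def lp (hvw : LinearIndependent F ![v, w]) (c : F) : Om := Projectivization.mk F (w + c • v) (add_ne_zero' hvw c)

omit [Fintype F] in
theorem lp_injective (hvw : LinearIndependent F ![v, w]) : Function.Injective (lp hvw) := by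
  intro c d h
  rw [lp, lp, Projectivization.mk_eq_mk_iff'] at h
  obtain ⟨a, ha⟩ := h
  have h1 := (LinearIndependent.pair_iff.1 hvw) (a * d - c) (a - 1) (by
    have h2 : a • (w + d • v) - (w + c • v) = 0 := by rw [ha, sub_self]
    rw [← h2, smul_add, smul_smul, sub_smul, sub_smul, one_smul]
    abel)
  have h3 : a = 1 := sub_eq_zero.1 h1.2
  have h4 := h1.1
  rw [h3, one_mul] at h4
  exact (sub_eq_zero.1 h4).symm

omit [Fintype F] in
theorem ne_zero_left (hvw : LinearIndependent F ![v, w]) : v ≠ 0 := hvw.ne_zero 0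

omit [Fintype F] in
theorem ne_zero_right (hvw : LinearIndependent F ![v, w]) : w ≠ 0 := hvw.ne_zero 1

omit [Fintype F] in
theorem lp_zero (hvw : LinearIndependent F ![v, w]) : lp hvw 0 = Projectivization.mk F w (ne_zero_right hvw) := by
  rw [lp]
  congr 1
  rw [zero_smul, add_zero]

omit [Fintype F] in
theorem lp_ne (hvw : LinearIndependent F ![v, w]) (c : F) : lp hvw c ≠ Projectivization.mk F v (ne_zero_left hvw) := by
  rw [lp, Ne, Projectivization.mk_eq_mk_iff']
  rintro ⟨a, ha⟩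
  have h1 := (LinearIndependent.pair_iff.1 hvw) (c - a) 1 (by
    rw [sub_smul, one_smul, ha]; abel)
  exact one_ne_zero h1.2

/-- the orbit of the stabilizer of the flag -/
theorem orbit_flag (hvw : LinearIndependent F ![v, w]) : MulAction.orbit (MulAction.stabilizer SL3 (Projectivization.mk F v (ne_zero_left hvw)) ⊓
    LU (Submodule.span F {v, w}) : Subgroup SL3) (lp hvw 0) = Set.range (lp hvw) := by
  have hvU : v ∈ Submodule.span F {v, w} := Submodule.subset_span (by simp)
  have hwU : w ∈ Submodule.span F {v, w} := Submodule.subset_span (by simp)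
  have hlp0 := lp_zero hvw
  ext Q'
  rw [MulAction.mem_orbit_iff]
  constructor
  · rintro ⟨⟨g, hg1, hg2⟩, rfl⟩
    have h1 : (g : M3) *ᵥ w ∈ Submodule.span F {v, w} := LU_mem hg2 hwU
    obtain ⟨a, b, hab⟩ := Submodule.mem_span_pair.1 h1
    obtain ⟨μ, hμ⟩ := (fixed_iff_eig _).1 hg1
    have hb : b ≠ 0 := by
      rintro rfl
      rw [zero_smul, add_zero] at hab
      have hμ0 : μ ≠ 0 := by
        rintro rfl
        rw [zero_smul] at hμ
        exact mulVec_ne_zero g (ne_zero_left hvw) hμ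
      have h3 : (g : M3) *ᵥ w = (g : M3) *ᵥ ((a / μ) • v) := by
        rw [Matrix.mulVec_smul, hμ, smul_smul, div_mul_cancel₀ _ hμ0, hab]
      have h4 : w = (a / μ) • v := by
        rw [← inv_mulVec_mulVec g w, h3, inv_mulVec_mulVec]
      have h5 := (LinearIndependent.pair_iff.1 hvw) (-(a / μ)) 1 (by
        rw [one_smul, neg_smul, ← h4]; simp)
      exact one_ne_zero h5.2
    refine ⟨a / b, ?_⟩
    change _ = g • lp hvw 0
    rw [hlp0, smul_mk', lp, Projectivization.mk_eq_mk_iff']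
    refine ⟨b⁻¹, ?_⟩
    rw [← hab, smul_add, smul_smul, smul_smul, inv_mul_cancel₀ hb, one_smul, div_eq_inv_mul, add_comm]
  · rintro ⟨c, rfl⟩
    obtain ⟨g, hg1, hg2⟩ := MulAction.is_two_pretransitive_iff.1
      (inferInstance : MulAction.IsMultiplyPretransitive SL3 Om 2) (Ne.symm (lp_ne hvw 0)) (Ne.symm (lp_ne hvw c))
    refine ⟨⟨g, hg1, mem_LU ?_⟩, hg2⟩
    obtain ⟨μ, hμ⟩ := (fixed_iff_eig _).1 hg1
    rw [hlp0, smul_mk', lp, Projectivization.mk_eq_mk_iff'] at hg2
    obtain ⟨a, ha⟩ := hg2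
    intro x hx
    obtain ⟨b, d, rfl⟩ := Submodule.mem_span_pair.1 hx
    rw [Matrix.mulVec_add, Matrix.mulVec_smul, Matrix.mulVec_smul, hμ, ← ha]
    refine Submodule.add_mem _ (Submodule.smul_mem _ _ (Submodule.smul_mem _ _ hvU))
      (Submodule.smul_mem _ _ (Submodule.smul_mem _ _ (Submodule.add_mem _ hwU (Submodule.smul_mem _ _ hvU))))

theorem stab_pair (hvw : LinearIndependent F ![v, w]) : MulAction.stabilizer SL3 (Projectivization.mk F v (ne_zero_left hvw)) ⊓
    MulAction.stabilizer SL3 (lp hvw 0) ≤ LU (Submodule.span F {v, w}) := by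
  have hvU : v ∈ Submodule.span F {v, w} := Submodule.subset_span (by simp)
  have hwU : w ∈ Submodule.span F {v, w} := Submodule.subset_span (by simp)
  have hlp0 := lp_zero hvw
  rintro g ⟨hg1, hg2⟩
  rw [hlp0] at hg2
  obtain ⟨μ, hμ⟩ := (fixed_iff_eig _).1 hg1
  obtain ⟨ν, hν⟩ := (fixed_iff_eig _).1 hg2
  apply mem_LU
  intro x hx
  obtain ⟨b, d, rfl⟩ := Submodule.mem_span_pair.1 hx
  rw [Matrix.mulVec_add, Matrix.mulVec_smul, Matrix.mulVec_smul, hμ, hν]
  exact Submodule.add_mem _ (Submodule.smul_mem _ _ (Submodule.smul_mem _ _ hvU))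
      (Submodule.smul_mem _ _ (Submodule.smul_mem _ _ hwU))

end line

theorem ncard_range_lp {v w : Fin 3 → F} (hvw : LinearIndependent F ![v, w]) :
    (Set.range (lp hvw)).ncard = Fintype.card F := by
  rw [← Nat.card_coe_set_eq, Nat.card_range_of_injective (lp_injective hvw), Nat.card_eq_fintype_card]

/-- many points in the orbit of a torus element -/
theorem torus_orbit {v w' : Fin 3 → F} (hvw' : LinearIndependent F ![v, w']) (hw : v + w' ≠ 0) {x : SL3} {μ : F}
    {ν : Fˣ} (hμ0 : μ ≠ 0) (hxv : (x : M3) *ᵥ v = μ • v) (hxw : (x : M3) *ᵥ w' = (μ * ν) • w')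
    (hν : orderOf ν = Fintype.card F - 1) {A : Subgroup SL3} (hxA : x ∈ A) :
    Fintype.card F - 1 ≤ (MulAction.orbit A (Projectivization.mk F (v + w') hw)).ncard := by
  have : Finite Om := Projectivization.finite_of_finite F V3
  have h1 : ∀ k : ℕ, ((x ^ k : SL3) : M3) *ᵥ v = (μ ^ k) • v := by
    intro k
    induction k with
    | zero => simp
    | succ k ih => rw [pow_succ, mul_mulVec, hxv, Matrix.mulVec_smul, ih, smul_smul]; congr 1; ring
  have h2 : ∀ k : ℕ, ((x ^ k : SL3) : M3) *ᵥ w' = ((μ * ν) ^ k) • w' := by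
    intro k
    induction k with
    | zero => simp
    | succ k ih => rw [pow_succ, mul_mulVec, hxw, Matrix.mulVec_smul, ih, smul_smul]; congr 1; ring
  let f : Fin (Fintype.card F - 1) → Om := fun k => (x ^ (k : ℕ)) • Projectivization.mk F (v + w') hw
  have hf : Function.Injective f := by
    intro k l h
    change (x ^ (k : ℕ)) • Projectivization.mk F (v + w') hw = (x ^ (l : ℕ)) • Projectivization.mk F (v + w') hw at h
    rw [smul_mk', smul_mk', Projectivization.mk_eq_mk_iff'] at h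
    obtain ⟨a, ha⟩ := h
    rw [Matrix.mulVec_add, Matrix.mulVec_add, h1, h1, h2, h2] at ha
    have h3 := (LinearIndependent.pair_iff.1 hvw') (a * μ ^ (l : ℕ) - μ ^ (k : ℕ))
      (a * (μ * ν) ^ (l : ℕ) - (μ * ν) ^ (k : ℕ)) (by
        have h4 : a • (μ ^ (l : ℕ) • v + (μ * ν) ^ (l : ℕ) • w') - (μ ^ (k : ℕ) • v + (μ * ν) ^ (k : ℕ) • w') = 0 := by
          rw [ha, sub_self]
        rw [← h4, smul_add, smul_smul, smul_smul, sub_smul, sub_smul]
        abel)
    have h5 := sub_eq_zero.1 h3.1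
    have h6 := sub_eq_zero.1 h3.2
    rw [mul_pow, mul_pow, ← mul_assoc, h5] at h6
    have h7 := mul_left_cancel₀ (pow_ne_zero _ hμ0) h6
    have h8 : ν ^ (l : ℕ) = ν ^ (k : ℕ) := Units.ext (by push_cast; exact h7)
    have h9 := pow_injOn_Iio_orderOf (x := ν) (by rw [hν]; exact l.2) (by rw [hν]; exact k.2) h8
    exact Fin.ext h9.symm
  have h3 : (Set.range f).ncard = Fintype.card F - 1 := by
    rw [← Nat.card_coe_set_eq, Nat.card_range_of_injective hf, Nat.card_eq_fintype_card, Fintype.card_fin]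
  rw [← h3]
  refine Set.ncard_le_ncard ?_ (Set.toFinite _)
  rintro _ ⟨k, rfl⟩
  exact ⟨⟨x ^ (k : ℕ), A.pow_mem hxA _⟩, rfl⟩

/-- `p` divides the lengths of the orbits -/
theorem dvd_orbit {p : ℕ} [hp : Fact p.Prime] {S : Subgroup SL3} {P Q : Om}
    (hSP : S ≤ MulAction.stabilizer SL3 P) {u : SL3} (hu : u ∈ S) (hup : u ^ p = 1)
    (hufix : ∀ P Q : Om, u • P = P → u • Q = Q → P = Q) (hQ : Q ≠ P) : p ∣ (MulAction.orbit S Q).ncard := by
  have : Finite Om := Projectivization.finite_of_finite F V3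
  let u' : S := ⟨u, hu⟩
  have hpg : IsPGroup p (Subgroup.zpowers u') := by
    rintro ⟨g, hg⟩
    obtain ⟨k, rfl⟩ := Subgroup.mem_zpowers_iff.1 hg
    refine ⟨1, ?_⟩
    apply Subtype.ext
    change (u' ^ k) ^ (p ^ 1) = 1
    have h1 : u' ^ p = 1 := Subtype.ext hup
    rw [pow_one, ← zpow_natCast, ← _root_.zpow_mul, mul_comm, _root_.zpow_mul, zpow_natCast, h1, _root_.one_zpow]
  have h1 := hpg.card_modEq_card_fixedPoints (MulAction.orbit S Q)
  have h2 : IsEmpty (MulAction.fixedPoints (Subgroup.zpowers u') (MulAction.orbit S Q)) := by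
    constructor
    rintro ⟨⟨Q', s, hs⟩, h⟩
    have h3 : u • Q' = Q' := congrArg Subtype.val (h ⟨u', Subgroup.mem_zpowers u'⟩)
    have h4 : u • P = P := hSP hu
    have h5 : P = Q' := hufix P Q' h4 h3
    apply hQ
    have h6 : (s : SL3) • Q = Q' := hs
    have h7 : (s : SL3) • P = P := hSP s.2
    rw [← h5] at h6
    exact smul_left_cancel _ (h6.trans h7.symm)
  have h3 : Nat.card (MulAction.fixedPoints (Subgroup.zpowers u') (MulAction.orbit S Q)) = 0 := Nat.card_of_isEmpty
  rw [h3, Nat.modEq_zero_iff_dvd] at h1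
  rwa [← Nat.card_coe_set_eq]

/-- **transitivity** -/
theorem trans_point {p : ℕ} [hp : Fact p.Prime] (hpq : p ∣ Fintype.card F)
    {S : Subgroup SL3} {v w' : Fin 3 → F} (hvw' : LinearIndependent F ![v, w'])
    (hSP : S ≤ MulAction.stabilizer SL3 (Projectivization.mk F v (ne_zero_left hvw')))
    (hS : Nat.Coprime S.index (Fintype.card F + 1))
    {u : SL3} (hu : u ∈ S) (hup : u ^ p = 1) (hufix : ∀ P Q : Om, u • P = P → u • Q = Q → P = Q)
    {x : SL3} (hx : x ∈ S) {μ : F}
    {ν : Fˣ} (hμ0 : μ ≠ 0) (hxv : (x : M3) *ᵥ v = μ • v) (hxw : (x : M3) *ᵥ w' = (μ * ν) • w')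
    (hν : orderOf ν = Fintype.card F - 1) :
    ∃ Q : Om, MulAction.orbit S Q = {Projectivization.mk F v (ne_zero_left hvw')}ᶜ := by
  classical
  have : Finite Om := Projectivization.finite_of_finite F V3
  set P : Om := Projectivization.mk F v (ne_zero_left hvw') with hP
  have hvw : LinearIndependent F ![v, v + w'] := by
    rw [LinearIndependent.pair_iff]
    intro a b h
    have h1 := (LinearIndependent.pair_iff.1 hvw') (a + b) b (by rw [← h, smul_add, add_smul, add_assoc])
    exact ⟨by have := h1.1; rw [h1.2, add_zero] at this; exact this, h1.2⟩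
  have hQd := lp_zero hvw
  set Q : Om := lp hvw 0 with hQ
  have hQP : Q ≠ P := lp_ne hvw 0
  refine ⟨Q, ?_⟩
  set K := MulAction.stabilizer SL3 P with hK
  set L := K ⊓ LU (Submodule.span F {v, v + w'}) with hL
  set GQ := MulAction.stabilizer SL3 Q with hGQ
  have hxL : x ∈ S ⊓ L := by
    refine ⟨hx, hSP hx, mem_LU ?_⟩
    intro y hy
    obtain ⟨a, b, rfl⟩ := Submodule.mem_span_pair.1 hy
    rw [Submodule.mem_span_pair]
    refine ⟨a * μ + b * μ - b * (μ * ν), b * (μ * ν), ?_⟩
    rw [Matrix.mulVec_add, Matrix.mulVec_smul, Matrix.mulVec_smul, Matrix.mulVec_add, hxv, hxw]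
    module
  have e1 := orb_card K Q
  rw [orbit_stab hQP, ncard_compl] at e1
  have e2 := orb_card L Q
  rw [orbit_flag hvw, ncard_range_lp] at e2
  have e3 : L ⊓ GQ = K ⊓ GQ := by
    apply le_antisymm
    · exact inf_le_inf_right _ inf_le_left
    · exact le_inf (le_inf inf_le_left (stab_pair hvw)) inf_le_right
  rw [← hGQ, e3] at e2
  have e4 := orb_card S Q
  have e5 := orb_card (S ⊓ L) Q
  have e6 : S ⊓ L ⊓ GQ = S ⊓ GQ := by
    apply le_antisymm
    · exact inf_le_inf_right _ inf_le_left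
    · refine le_inf (le_inf inf_le_left ?_) inf_le_right
      exact le_trans (inf_le_inf_right _ hSP) (le_inf inf_le_left (stab_pair hvw))
  rw [← hGQ, e6] at e5
  obtain ⟨j, hj⟩ := Subgroup.card_dvd_of_le hSP
  obtain ⟨m, hm⟩ := Subgroup.card_dvd_of_le (inf_le_left : S ⊓ L ≤ S)
  obtain ⟨l', hl'⟩ := Subgroup.card_dvd_of_le (inf_le_right : S ⊓ L ≤ L)
  have hB : Fintype.card F - 1 ≤ (MulAction.orbit (S ⊓ L : Subgroup SL3) Q).ncard := by
    rw [hQd]
    exact torus_orbit hvw' (ne_zero_right hvw) hμ0 hxv hxw hν hxL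
  have hsub : MulAction.orbit S Q ⊆ {P}ᶜ := by
    rintro _ ⟨s, rfl⟩ h
    apply hQP
    have h1 : (s : SL3) • Q = P := h
    have h2 : (s : SL3) • P = P := hSP s.2
    exact smul_left_cancel _ (h1.trans h2.symm)
  have hA : (MulAction.orbit S Q).ncard ≤ Fintype.card F ^ 2 + Fintype.card F := by
    rw [← ncard_compl P]
    exact Set.ncard_le_ncard hsub (Set.toFinite _)
  have hcop : Nat.Coprime j (Fintype.card F + 1) := by
    refine Nat.Coprime.coprime_dvd_left ?_ hS
    have h1 := S.card_mul_index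
    have h2 := K.card_mul_index
    rw [← h2, hj, mul_assoc] at h1
    exact ⟨K.index, Nat.eq_of_mul_eq_mul_left Nat.card_pos h1⟩
  have key := arith hp.out hpq Fintype.one_lt_card Nat.card_pos Nat.card_pos e1 e2 hj hl' hm e4 e5 hB hA
    (dvd_orbit hSP hu hup hufix hQP) hcop
  apply Set.eq_of_subset_of_ncard_le hsub
  · rw [ncard_compl, key]

end Cfsg.Agent.H746.OddM.ThreeL
end

-- part: H746/OddM/ThreeLCases
section
/-!
# S4785, the groups `PSL_3(q)`, `q` odd: the maximal subgroups (helper746, TEAM ODDM)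
-/

set_option autoImplicit false

namespace Cfsg.Agent.H746.OddM.ThreeL

open Cfsg Cfsg.Geo Matrix Cfsg.Agent.H746.OddM.Three Cfsg.Agent.H453.OddM
open Cfsg.Agent.H304.PslT
open scoped MatrixGroups

variable {F : Type*} [Field F]

local notation "V3" => Fin 3 → F
local notation "M3" => Matrix (Fin 3) (Fin 3) F
local notation "SL3" => Matrix.SpecialLinearGroup (Fin 3) F
local notation "PSL3" => Matrix.ProjectiveSpecialLinearGroup (Fin 3) F

/-- the real classes meet `M` -/
theorem lift {M : Subgroup PSL3} (hM : Cov PSL3 M) {X : SL3} (hX : IsReal X) :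
    ∃ Y : SL3, pr 3 F (Y * X * Y⁻¹) ∈ M := by
  obtain ⟨g, hg⟩ := hM.2 _ (hX.map (pr 3 F))
  obtain ⟨Y, rfl⟩ := QuotientGroup.mk'_surjective _ g
  refine ⟨Y, ?_⟩
  rw [map_mul, map_mul, map_inv]
  exact hg

theorem mem_pre {M : Subgroup PSL3} {X : SL3} (h : pr 3 F X ∈ M) :
    Matrix.SpecialLinearGroup.toGL X ∈ pre M := ⟨X, h, rfl⟩

theorem coe_conj (X Y : SL3) : ((Matrix.SpecialLinearGroup.toGL (Y * X * Y⁻¹) : GL (Fin 3) F) : M3) =
    ((Matrix.SpecialLinearGroup.toGL Y : GL (Fin 3) F) : M3) * (X : M3) *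
      (((Matrix.SpecialLinearGroup.toGL Y)⁻¹ : GL (Fin 3) F) : M3) := by
  rw [map_mul, map_mul, map_inv, Units.val_mul, Units.val_mul]
  rfl

variable [Fintype F]

/-- **subfields** -/
theorem case_subfield (_hq : 3 ≤ Fintype.card F) {lam : Fˣ} (hlam : orderOf lam = Fintype.card F - 1)
    (h2 : (2 : F) ≠ 0)
    {A : GL (Fin 3) F} (hA : IsEg (lam : F) (A : M3)) {F₀ : Subfield F} {r : ℕ} (hr : 2 ≤ r)
    (hc : Fintype.card F = Nat.card F₀ ^ r) {P : GL (Fin 3) F} : A ∉ subfieldSubgroup F₀ P := by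
  classical
  intro hmem
  have hQ2 : 2 ≤ Nat.card F₀ := Finite.one_lt_card
  have hFt : Fintype F₀ := Fintype.ofFinite F₀
  have hodd : Nat.card F₀ ≠ 2 := by
    intro h
    apply h2
    have h3 : ((Fintype.card F₀ : ℕ) : F₀) = 0 := by
      obtain ⟨p, hcp⟩ := CharP.exists F₀
      have hp : Fact p.Prime := ⟨CharP.char_is_prime F₀ p⟩
      obtain ⟨n, -, hn⟩ := FiniteField.card F₀ p
      rw [CharP.cast_eq_zero_iff F₀ p, hn]
      exact dvd_pow_self p n.2.ne'
    rw [← Nat.card_eq_fintype_card, h] at h3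
    have h4 : (2 : F₀) = 0 := by exact_mod_cast h3
    rw [← map_ofNat (algebraMap F₀ F) 2, h4, map_zero]
  have hQ3 : 3 ≤ Nat.card F₀ := by omega
  have hl0 : (lam : F) ≠ 0 := lam.ne_zero
  have hbig : Nat.card F₀ ^ 2 ≤ Fintype.card F := by
    rw [hc]; exact Nat.pow_le_pow_right (by omega) hr
  have hQ9 : 9 ≤ Fintype.card F := by nlinarith only [hQ3, hbig]
  have h1 : ∀ k : ℕ, 0 < k → k < Fintype.card F - 1 → (lam : F) ^ k ≠ 1 := by
    intro k hk hk2 h
    have : lam ^ k = 1 := Units.ext (by simpa only [_root_.Units.val_pow_eq_pow_val, _root_.Units.val_one] using h)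
    have h2 := Nat.le_of_dvd hk (orderOf_dvd_of_pow_eq_one this)
    omega
  rcases hA.subfield hl0 hmem with h | h
  · apply h1 3 (by norm_num) (by omega)
    have h2 : (lam : F) * (1 + lam + (lam : F)⁻¹) = 0 := by rw [h, mul_zero]
    have h3 : (lam : F) * (lam : F)⁻¹ = 1 := mul_inv_cancel₀ hl0
    linear_combination ((lam : F) - 1) * h2 - ((lam : F) - 1) * h3
  · -- `lam ^ Q = lam ^ ± 1`, `Q = |F₀|`
    set Q := Nat.card F₀ with hQ
    have h2 : ((lam : F) + (lam : F)⁻¹) ^ Q = (lam : F) + (lam : F)⁻¹ := by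
      have h3 := FiniteField.pow_card (⟨_, h⟩ : F₀)
      rw [← Nat.card_eq_fintype_card] at h3
      exact congrArg Subtype.val h3
    -- additivity of the `Q`-power
    have h3 : ((lam : F) + (lam : F)⁻¹) ^ Q = (lam : F) ^ Q + ((lam : F)⁻¹) ^ Q := by
      obtain ⟨p, hcp⟩ := CharP.exists F₀
      have hp : Fact p.Prime := ⟨CharP.char_is_prime F₀ p⟩
      obtain ⟨n, -, hn⟩ := FiniteField.card F₀ p
      have : CharP F p := by
        exact charP_of_injective_algebraMap (algebraMap F₀ F).injective p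
      rw [hQ, Nat.card_eq_fintype_card, hn]
      exact add_pow_char_pow (R := F) (lam : F) (lam : F)⁻¹ p n
    rw [h3] at h2
    have h4 : ((lam : F) ^ (Q - 1) - 1) * ((lam : F) ^ (Q + 1) - 1) = 0 := by
      obtain ⟨k, hk⟩ : ∃ k, Q = k + 1 := ⟨Q - 1, by omega⟩
      rw [hk] at h2 ⊢
      rw [Nat.add_sub_cancel]
      have h5 : ((lam : F)⁻¹) ^ (k + 1) * (lam : F) ^ (k + 1) = 1 := by rw [← mul_pow, inv_mul_cancel₀ hl0, one_pow]
      have h6 : (lam : F) * (lam : F)⁻¹ = 1 := mul_inv_cancel₀ hl0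
      have h7 : (lam : F) ^ (k + 1) = lam ^ k * lam := pow_succ _ _
      have h8 : (lam : F) ^ (k + 1 + 1) = lam ^ k * lam * lam := by rw [pow_succ, pow_succ]
      rw [h7] at h2 h5
      rw [h8]
      linear_combination ((lam : F) ^ k * lam) * h2 - h5 + (lam : F) ^ k * h6
    have hlt : Q + 1 < Fintype.card F - 1 := by
      have : Q + 2 < Q ^ 2 := by nlinarith only [hQ3]
      omega
    rcases mul_eq_zero.1 h4 with h5 | h5
    · exact h1 (Q - 1) (by omega) (by omega) (sub_eq_zero.1 h5)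
    · exact h1 (Q + 1) (by omega) hlt (sub_eq_zero.1 h5)

/-- **the maximal subgroups of odd index meeting all real classes are parabolic** -/
theorem coatom_cases {p : ℕ} [hp : Fact p.Prime] [hcp : CharP F p] (hp3 : 3 ≤ p) (h2 : (2 : F) ≠ 0)
    {M : Subgroup PSL3} (hM : IsCoatom M) (hcov : Cov PSL3 M) :
    ∃ W : Submodule F V3, W ≠ ⊥ ∧ W ≠ ⊤ ∧ pre M = subspaceStabilizer W ⊓ specialLinear (Fin 3) F := by
  classical
  have hq3 : 3 ≤ Fintype.card F := by
    obtain ⟨n, -, hn⟩ := FiniteField.card F p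
    rw [hn]
    calc 3 ≤ p := hp3
      _ = p ^ 1 := (pow_one p).symm
      _ ≤ p ^ (n : ℕ) := Nat.pow_le_pow_right (by omega) n.2
  have hfin : Finite PSL3 := Quotient.finite _
  -- elements
  obtain ⟨t₀, ht₀, ht₁⟩ := exists_tv (F := F)
  obtain ⟨lam, x₀, hlam, hx₀, hx₁⟩ := exists_eg (F := F)
  obtain ⟨Yt, hYt'⟩ := lift hcov ht₀
  obtain ⟨Yx, hYx'⟩ := lift hcov hx₀
  have hYt := mem_pre hYt'
  have hYx := mem_pre hYx'
  set t : GL (Fin 3) F := Matrix.SpecialLinearGroup.toGL (Yt * t₀ * Yt⁻¹) with htd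
  set x : GL (Fin 3) F := Matrix.SpecialLinearGroup.toGL (Yx * x₀ * Yx⁻¹) with hxd
  have htT : IsTv (t : M3) := by rw [htd, coe_conj]; exact ht₁.conj _
  have hxE : IsEg (lam : F) (x : M3) := by
    rw [hxd, coe_conj, hx₁]
    exact ⟨_, rfl⟩
  have hto : orderOf t = p := htT.orderOf hp3
  have hmax := isMaximalIn_pre hM
  rcases Cfsg.Agent.H915.sl_cases (n := 3) le_rfl hmax with h | ⟨s, m, D, htm, hD, -, -, he⟩ |
    ⟨r, K, hr, hr3, hK, he⟩ | ⟨n₁, n₂, e, P, h2', h12, h3, -, -⟩ | ⟨F₀, r, P, hr, hc, he⟩ |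
    ⟨r, k, p', e, R, hR, hr, hro, heo, hk, h3, hrp, hmin, hZ, hR27, he⟩ | ⟨k, R, -, h3, -⟩ |
    ⟨m, s, e, P, hm, hs, h3, -⟩ | ⟨f, -, hev, -⟩ | ⟨σ, f, hf, he⟩ | ⟨ho, Q, hQ, he⟩ | hres
  · exact h
  · -- monomial
    exfalso
    have hs3 : s = 3 := by
      have h2 := hD.two_le
      have h1 := hD.pos
      rcases Nat.lt_or_ge m 2 with hm | hm
      · have : m = 1 := by omega
        subst this; omega
      · exfalso
        nlinarith only [htm, h2, hm]
    subst hs3
    have hm : m = 1 := by omega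
    subst hm
    rw [he] at hYt
    exact htT.not_decomp h2 hD hYt.1
  · -- extension field
    exfalso
    have hr' : r = 3 := (Nat.prime_dvd_prime_iff_eq hr Nat.prime_three).1 hr3
    subst hr'
    have h2M : 2 ∣ Nat.card M := by
      have := (hcov.two_part (k := 1)).1 (by rw [pow_one]; exact even_card le_rfl)
      rwa [pow_one] at this
    obtain ⟨z, hz, hzH⟩ := exists_of_dvd Nat.prime_two h2M
    rw [he] at hzH
    exact Cfsg.Agent.H304.ExtInv.no_involution (by decide) hK hz hzH.1 hzH.2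
  · exfalso
    nlinarith only [h2', h12, h3]
  · exfalso
    rw [he] at hYx
    exact case_subfield hq3 hlam h2 hxE hr.two_le hc hYx.1
  · exfalso
    have hr3 : r = 3 := by
      have h1 : r ∣ 3 := by rw [h3]; exact dvd_pow_self r (by omega)
      exact (Nat.prime_dvd_prime_iff_eq hr Nat.prime_three).1 h1
    subst hr3
    have hk1 : k = 1 := by
      have : 3 ^ k = 3 ^ 1 := by rw [← h3, pow_one]
      exact Nat.pow_right_injective (by norm_num) this
    subst hk1
    have hpp : p' = p := by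
      have h1 := hmin.2.1
      exact CharP.eq F h1 hcp
    have h5 : 5 ≤ p := by
      rw [← hpp] at hp3 hp ⊢
      have h4 : p' ≠ 4 := fun h => by
        have := hp.out; rw [h] at this; revert this; decide
      omega
    rw [he] at hYt
    obtain ⟨c, hc⟩ := Cfsg.Agent.H907.Mx.symp_prime hR.absIrred (by rw [hR27]; norm_num) hZ hYt.1 hp.out h5
      (by rw [← hto]; exact pow_orderOf_eq_one t)
    exact htT.ne_scalar c hc
  · exfalso
    rcases Nat.eq_zero_or_pos k with h | h
    · subst h; omega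
    · have : 2 ∣ 3 := by rw [h3]; exact dvd_pow_self 2 (by omega)
      omega
  · exfalso
    have : 3 ^ 2 ≤ m ^ s := (Nat.pow_le_pow_left hm 2).trans (Nat.pow_le_pow_right (by omega) hs)
    omega
  · exfalso
    exact absurd hev (by decide)
  · exfalso
    obtain ⟨p', k, hp', hcp', hF, hσ⟩ := Cfsg.Agent.H304.Ppd.exists_frobenius hf.ne_refl hf.involutive
    rw [he] at hYx
    refine IsEg.not_unitary hF ?_ hσ hlam hxE hf hYx.1
    by_contra hcon
    push Not at hcon
    have hpp : p' = p := CharP.eq F hcp' hcp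
    have h1 : 9 ≤ Fintype.card F ∨ Fintype.card F < 9 := by omega
    rw [hpp] at hF hcon
    rcases Nat.eq_zero_or_pos k with h | h
    · rw [h] at hF; norm_num at hF; omega
    · have : p ^ 1 ≤ p ^ k := Nat.pow_le_pow_right (by omega) h
      rw [pow_one] at this
      omega
  · exfalso
    rw [he] at hYt
    exact htT.not_quad h2 hQ hYt.1
  · exfalso
    have hpM : p ∣ Nat.card M := by
      have h1 : RealP PSL3 p := by
        refine ⟨pr 3 F t₀, ?_, ht₀.map _⟩
        apply orderOf_eq_prime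
        · rw [← map_pow]
          have : t₀ ^ p = 1 := by
            apply Subtype.ext
            rw [Matrix.SpecialLinearGroup.coe_pow, Matrix.SpecialLinearGroup.coe_one]
            exact pow_char_of (p := p) ht₁.cube hp3
          rw [this, map_one]
        · intro h
          have h3 : t₀ ∈ Subgroup.center SL3 := (QuotientGroup.eq_one_iff _).1 h
          rw [Matrix.SpecialLinearGroup.mem_center_iff] at h3
          obtain ⟨c, -, hc⟩ := h3
          apply ht₁.ne_scalar c
          rw [← hc, Matrix.scalar_apply, ← Matrix.smul_one_eq_diagonal]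
      exact hcov.dvd h1
    obtain ⟨P, p', hcore, hp', hchar, hcases⟩ := Cfsg.Agent.S5776.result (pre M) hmax hres
    have hpp : p' = p := CharP.eq F hchar hcp
    subst hpp
    have hcard := hpM.trans (card_dvd_mulAut (by norm_num) hcore)
    rcases hcases with ⟨⟨e⟩, hF, hp2, hp7⟩ | ⟨⟨e⟩, hF⟩
    · rw [Nat.card_congr (MulAut.congr e).toEquiv, Cfsg.Agent.H304.Psl3.card_mulAut_L32] at hcard
      have h2 : p' ∣ 2 ^ 4 * (3 * 7) := by norm_num; exact hcard
      rcases hp'.dvd_mul.mp h2 with h3 | h3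
      · have := (Nat.prime_dvd_prime_iff_eq hp' Nat.prime_two).mp (hp'.dvd_of_dvd_pow h3)
        omega
      · rcases hp'.dvd_mul.mp h3 with h4 | h4
        · have := (Nat.prime_dvd_prime_iff_eq hp' Nat.prime_three).mp h4
          omega
        · have := (Nat.prime_dvd_prime_iff_eq hp' (by norm_num)).mp h4
          omega
    · rw [Nat.card_congr (MulAut.congr e).toEquiv] at hcard
      have hcard2 := hcard.trans Cfsg.Agent.H753.ResCard.card_mulAut_A6
      have h2 : p' ∣ 2 ^ 5 * (3 ^ 2 * 5) := by norm_num; exact hcard2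
      have h235 : p' = 2 ∨ p' = 3 ∨ p' = 5 := by
        rcases hp'.dvd_mul.mp h2 with h3 | h3
        · exact Or.inl ((Nat.prime_dvd_prime_iff_eq hp' Nat.prime_two).mp (hp'.dvd_of_dvd_pow h3))
        · rcases hp'.dvd_mul.mp h3 with h4 | h4
          · exact Or.inr (Or.inl ((Nat.prime_dvd_prime_iff_eq hp' Nat.prime_three).mp (hp'.dvd_of_dvd_pow h4)))
          · exact Or.inr (Or.inr ((Nat.prime_dvd_prime_iff_eq hp' (by norm_num)).mp h4))
      rcases hF with ⟨hF, h15⟩ | ⟨hF, hp3', h5⟩ <;> omega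

end Cfsg.Agent.H746.OddM.ThreeL
end

-- part: H746/OddM/ThreeL
section
/-!
# S4785, the groups `PSL_3(q)`, `q` odd (helper746, TEAM ODDM)
-/

set_option autoImplicit false

namespace Cfsg.Agent.H746.OddM.ThreeL

open Cfsg Cfsg.Geo Matrix Cfsg.Agent.H746.OddM.Three Cfsg.Agent.H453.OddM
open Cfsg.Agent.H304.PslT (pr pre)
open scoped MatrixGroups LinearAlgebra.Projectivization

variable {F : Type*} [Field F]

local notation "V3" => Fin 3 → F
local notation "M3" => Matrix (Fin 3) (Fin 3) F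
local notation "SL3" => Matrix.SpecialLinearGroup (Fin 3) F
local notation "PSL3" => Matrix.ProjectiveSpecialLinearGroup (Fin 3) F
local notation "Om" => ℙ F (Fin 3 → F)

/-- two orbits -/
theorem card_orb_two {T : Type*} [Group T] {R K : Subgroup T} {a₀ : T} (ha₀ : a₀ ∉ K)
    (h : ∀ a b, a ∉ K → b ∉ K → ∃ r ∈ R, b⁻¹ * (r * a) ∈ K) (hRK : R ≤ K) :
    Nat.card (MulAction.orbitRel.Quotient K (T ⧸ R)) = 2 := by
  rw [Nat.card_eq_two_iff]
  refine ⟨Quotient.mk'' (QuotientGroup.mk 1 : T ⧸ R), Quotient.mk'' (QuotientGroup.mk a₀ : T ⧸ R), ?_, ?_⟩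
  · intro h1
    have h2 : (QuotientGroup.mk 1 : T ⧸ R) ∈ MulAction.orbit K (QuotientGroup.mk a₀ : T ⧸ R) :=
      MulAction.orbitRel_apply.1 (Quotient.exact h1)
    obtain ⟨⟨k, hk⟩, h3⟩ := h2
    have h4 : (QuotientGroup.mk (k * a₀) : T ⧸ R) = QuotientGroup.mk 1 := h3
    rw [QuotientGroup.eq, mul_one] at h4
    apply ha₀
    have h5 := K.mul_mem (K.inv_mem hk) (K.inv_mem (hRK h4))
    rwa [inv_inv, inv_mul_cancel_left] at h5
  · rw [Set.eq_univ_iff_forall]
    intro z
    induction z using Quotient.inductionOn' with | h w => ?_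
    obtain ⟨g, rfl⟩ := QuotientGroup.mk_surjective w
    by_cases hg : g ∈ K
    · left
      apply Quotient.sound
      refine MulAction.orbitRel_apply.2 ⟨⟨g, hg⟩, ?_⟩
      change (QuotientGroup.mk (g * 1) : T ⧸ R) = QuotientGroup.mk g
      rw [mul_one]
    · right
      apply Quotient.sound
      obtain ⟨r, hr, hk⟩ := h a₀⁻¹ g⁻¹ (fun h => ha₀ (inv_mem_iff.1 h)) (fun h => hg (inv_mem_iff.1 h))
      rw [inv_inv] at hk
      refine MulAction.orbitRel_apply.2 ⟨⟨g * (r * a₀⁻¹), hk⟩, ?_⟩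
      change (QuotientGroup.mk (g * (r * a₀⁻¹) * a₀) : T ⧸ R) = QuotientGroup.mk g
      rw [QuotientGroup.eq]
      have : (g * (r * a₀⁻¹) * a₀)⁻¹ * g = r⁻¹ := by group
      rw [this]
      exact R.inv_mem hr

/-- the centre acts trivially -/
theorem center_smul {z : SL3} (hz : z ∈ Subgroup.center SL3) (P : Om) : z • P = P := by
  rw [Matrix.SpecialLinearGroup.mem_center_iff] at hz
  obtain ⟨c, -, hc⟩ := hz
  induction P with | h v hv => ?_
  rw [fixed_iff_eig]
  refine ⟨c, ?_⟩
  rw [← hc, Matrix.scalar_apply, ← Matrix.smul_one_eq_diagonal, Matrix.smul_mulVec, Matrix.one_mulVec]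

/-- the image of the stabilizer of a point -/
def Kb (P : Om) : Subgroup PSL3 := (MulAction.stabilizer SL3 P).map (pr 3 F)

theorem mem_Kb {P : Om} {g : SL3} : pr 3 F g ∈ Kb P ↔ g • P = P := by
  constructor
  · rintro ⟨k, hk, hkg⟩
    have h1 : k⁻¹ * g ∈ Subgroup.center SL3 := (QuotientGroup.eq).1 hkg
    have h2 : (k⁻¹ * g) • P = P := center_smul h1 P
    have h3 : k • P = P := hk
    rw [mul_smul, inv_smul_eq_iff, h3] at h2
    exact h2
  · intro h
    exact ⟨g, h, rfl⟩

variable [Fintype F]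

/-- the index is prime to `q + 1` -/
theorem coprime_index {p : ℕ} [hp : Fact p.Prime] [hcp : CharP F p] (h2 : (2 : F) ≠ 0)
    (hodd : Fintype.card F % 2 = 1) {R : Subgroup PSL3} (hR : Cov PSL3 R) :
    Nat.Coprime R.index (Fintype.card F + 1) := by
  classical
  set q := Fintype.card F with hq
  have hq1 : 2 ≤ q := Fintype.one_lt_card
  have h1 := S0243.result (F := F) rfl 3 (by norm_num)
  rw [← hq] at h1
  have hfin : Finite PSL3 := Quotient.finite _
  have hd := hR.dvd (realP_add (p := p) hodd h2)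
  rw [← hq] at hd
  obtain ⟨m, hm⟩ := hd
  have h3 := R.card_mul_index
  rw [← h3, hm, Fin.prod_univ_three] at h1
  simp only [Fin.val_zero, Fin.val_one, Fin.val_two, pow_zero, pow_one] at h1
  have h4 : q ^ 3 - q = q * ((q - 1) * (q + 1)) := by
    obtain ⟨k, hk⟩ : ∃ k, q = k + 1 := ⟨q - 1, by omega⟩
    rw [hk, Nat.add_sub_cancel]
    apply Nat.sub_eq_of_eq_add
    ring
  have h5 : q ^ 3 - q ^ 2 = q ^ 2 * (q - 1) := by
    rw [Nat.mul_sub, mul_one, ← pow_succ]
  rw [h4, h5] at h1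
  set i := R.index with hi
  have h6 : i ∣ q ^ 3 * (q - 1) * (q ^ 3 - 1) := by
    refine ⟨Nat.gcd 3 (q - 1) * m, ?_⟩
    have h7 : 0 < (q - 1) * (q + 1) := Nat.mul_pos (by omega) (by omega)
    apply Nat.eq_of_mul_eq_mul_left h7
    calc (q - 1) * (q + 1) * (q ^ 3 * (q - 1) * (q ^ 3 - 1))
        = (q ^ 3 - 1) * (q * ((q - 1) * (q + 1))) * (q ^ 2 * (q - 1)) := by ring
      _ = _ := by rw [← h1]; ring
  rw [Nat.coprime_iff_gcd_eq_one]
  by_contra hg
  obtain ⟨r, hr, hrg⟩ := Nat.exists_prime_and_dvd hg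
  have hri : r ∣ i := hrg.trans (Nat.gcd_dvd_left _ _)
  have hrq : r ∣ q + 1 := hrg.trans (Nat.gcd_dvd_right _ _)
  have hr2 : r ≠ 2 := by
    rintro rfl
    exact (Nat.not_even_iff_odd.2 hR.1) (even_iff_two_dvd.2 hri)
  have hr2' : ¬ r ∣ 2 := fun h => hr2 ((Nat.prime_dvd_prime_iff_eq hr Nat.prime_two).1 h)
  rcases hr.dvd_mul.1 (hri.trans h6) with h7 | h7
  · rcases hr.dvd_mul.1 h7 with h8 | h8
    · have := (Nat.dvd_add_right (hr.dvd_of_dvd_pow h8)).1 hrq
      exact hr.one_lt.ne' (Nat.dvd_one.1 this)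
    · have := Nat.dvd_sub hrq h8
      apply hr2'
      have h9 : q + 1 - (q - 1) = 2 := by (clear * - hq1; omega)
      rwa [h9] at this
  · have h8 : r ∣ q ^ 3 + 1 := by
      refine hrq.trans ⟨q ^ 2 - q + 1, ?_⟩
      have h9 : q ≤ q ^ 2 := by nlinarith only []
      zify [h9]
      ring
    have := Nat.dvd_sub h8 h7
    apply hr2'
    have h9 : 1 ≤ q ^ 3 := Nat.one_le_pow _ _ (by omega)
    have h10 : q ^ 3 + 1 - (q ^ 3 - 1) = 2 := by omega
    rwa [h10] at this

/-- **subgroups fixing a point** -/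
theorem point_case {p : ℕ} [hp : Fact p.Prime] [hcp : CharP F p] (hp3 : 3 ≤ p) (h2 : (2 : F) ≠ 0)
    (hodd : Fintype.card F % 2 = 1) {R : Subgroup PSL3} (hR : RO PSL3 R) {v : Fin 3 → F} (hv : v ≠ 0)
    (hRv : ∀ g : SL3, pr 3 F g ∈ R → g • Projectivization.mk F v hv = Projectivization.mk F v hv) : False := by
  classical
  have hfin : Finite PSL3 := Quotient.finite _
  have hpq : p ∣ Fintype.card F := by
    obtain ⟨n, -, hn⟩ := FiniteField.card F p
    rw [hn]; exact dvd_pow_self p n.2.ne'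
  have hq3 : 3 ≤ Fintype.card F := hp3.trans (Nat.le_of_dvd Fintype.card_pos hpq)
  obtain ⟨u₀, hu₀, hu₁, hu₂⟩ := exists_ru h2
  obtain ⟨lam, x₀, hlam, hx₀, hx₁⟩ := exists_eg (F := F)
  obtain ⟨Yu, hYu⟩ := lift hR.cov hu₀
  obtain ⟨Yx, hYx⟩ := lift hR.cov hx₀
  set S : Subgroup SL3 := R.comap (pr 3 F) with hS
  set P : Om := Projectivization.mk F v hv with hP
  have hSP : S ≤ MulAction.stabilizer SL3 P := fun g hg => hRv g hg
  have hind : S.index = R.index := R.index_comap_of_surjective (QuotientGroup.mk'_surjective _)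
  have hup : (Yu * u₀ * Yu⁻¹) ^ p = 1 := by
    have h3 : u₀ ^ p = 1 := by
      apply Subtype.ext
      rw [Matrix.SpecialLinearGroup.coe_pow, Matrix.SpecialLinearGroup.coe_one]
      exact pow_char_of (p := p) hu₁.1 hp3
    rw [conj_pow, h3, mul_one, mul_inv_cancel]
  have hufix : ∀ P Q : Om, (Yu * u₀ * Yu⁻¹) • P = P → (Yu * u₀ * Yu⁻¹) • Q = Q → P = Q := by
    intro P Q h3 h4
    rw [mul_smul, mul_smul, smul_eq_iff_eq_inv_smul] at h3 h4
    exact smul_left_cancel _ (ru_fix hu₂ h3 h4)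
  -- the torus element
  have hxP : (Yx * x₀ * Yx⁻¹) • P = P := hRv _ hYx
  obtain ⟨μ, hμ⟩ := (fixed_iff_eig hv).1 hxP
  have hv₀ : ((Yx⁻¹ : SL3) : M3) *ᵥ v ≠ 0 := mulVec_ne_zero _ hv
  have hμ₀ : (x₀ : M3) *ᵥ (((Yx⁻¹ : SL3) : M3) *ᵥ v) = μ • (((Yx⁻¹ : SL3) : M3) *ᵥ v) := by
    rw [mul_mulVec, mul_mulVec] at hμ
    rw [← inv_mulVec_mulVec Yx ((x₀ : M3) *ᵥ (((Yx⁻¹ : SL3) : M3) *ᵥ v)), hμ, Matrix.mulVec_smul]
  have hl1 : lam ≠ 1 := by
    rintro rfl
    rw [orderOf_one] at hlam
    omega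
  obtain ⟨w₀, ν, hw₀, hxw₀, hν, hμ0⟩ := eg_vec hx₁ hl1 hv₀ hμ₀
  have hνo : orderOf ν = Fintype.card F - 1 := by
    rcases hν with rfl | rfl
    · exact hlam
    · rw [orderOf_inv]; exact hlam
  have hν1 : (ν : F) ≠ 1 := by
    intro h
    have : ν = 1 := Units.ext h
    rw [this, orderOf_one] at hνo
    omega
  set w' : Fin 3 → F := (Yx : M3) *ᵥ w₀ with hw'
  have hw'0 : w' ≠ 0 := mulVec_ne_zero _ hw₀
  have hxw : ((Yx * x₀ * Yx⁻¹ : SL3) : M3) *ᵥ w' = (μ * ν) • w' := by
    rw [mul_mulVec, mul_mulVec, hw', inv_mulVec_mulVec, hxw₀, Matrix.mulVec_smul]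
  have hvw' : LinearIndependent F ![v, w'] := by
    rw [LinearIndependent.pair_iff]
    intro a b hab
    have h3 : a • (μ • v) + b • ((μ * ν) • w') = 0 := by
      rw [← hμ, ← hxw, ← Matrix.mulVec_smul, ← Matrix.mulVec_smul, ← Matrix.mulVec_add, hab, Matrix.mulVec_zero]
    have h4 : (b * (μ * (ν - 1))) • w' = 0 := by
      have h5 : (b * (μ * (ν - 1))) • w' = (a • (μ • v) + b • ((μ * ν) • w')) - μ • (a • v + b • w') := by
        module
      rw [h5, h3, hab, smul_zero, sub_zero]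
    have h5 := (smul_eq_zero.1 h4).resolve_right hw'0
    have hb : b = 0 := by
      rcases mul_eq_zero.1 h5 with h6 | h6
      · exact h6
      · rcases mul_eq_zero.1 h6 with h7 | h7
        · exact absurd h7 hμ0
        · exact absurd (sub_eq_zero.1 h7) hν1
    rw [hb, zero_smul, add_zero] at hab
    exact ⟨(smul_eq_zero.1 hab).resolve_right hv, hb⟩
  have hcop : Nat.Coprime S.index (Fintype.card F + 1) := by
    rw [hind]; exact coprime_index (p := p) h2 hodd hR.cov
  obtain ⟨Q, hQ⟩ := trans_point (p := p) hpq hvw' hSP hcop hYu hup hufix hYx hμ0 hμ hxw hνo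
  -- two orbits
  have hPQ : P ≠ Q := by
    have h3 : Q ∈ MulAction.orbit S Q := MulAction.mem_orbit_self Q
    rw [hQ] at h3
    exact fun h => h3 h.symm
  obtain ⟨a₀, ha₀⟩ := MulAction.exists_smul_eq SL3 P Q
  apply hR.not_even_orb (Kb P)
  rw [card_orb_two (a₀ := pr 3 F a₀)]
  · exact even_two
  · rw [mem_Kb, ha₀]
    exact hPQ.symm
  · intro a b ha hb
    obtain ⟨a, rfl⟩ := QuotientGroup.mk'_surjective _ a
    obtain ⟨b, rfl⟩ := QuotientGroup.mk'_surjective _ b
    rw [mem_Kb] at ha hb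
    have h3 : a • P ∈ MulAction.orbit S Q := by rw [hQ]; exact ha
    have h4 : b • P ∈ MulAction.orbit S Q := by rw [hQ]; exact hb
    obtain ⟨⟨s₁, hs₁⟩, h5⟩ := h3
    obtain ⟨⟨s₂, hs₂⟩, h6⟩ := h4
    have h5' : s₁ • Q = a • P := h5
    have h6' : s₂ • Q = b • P := h6
    refine ⟨pr 3 F (s₂ * s₁⁻¹), S.mul_mem hs₂ (S.inv_mem hs₁), ?_⟩
    rw [← map_inv, ← map_mul, ← map_mul, mem_Kb, mul_smul, mul_smul, ← h5', mul_smul, inv_smul_smul, h6',
      inv_smul_smul]
  · intro r hr
    obtain ⟨r, rfl⟩ := QuotientGroup.mk'_surjective _ r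
    rw [mem_Kb]
    exact hRv r hr

/-! ### duality -/

omit [Fintype F] in
/-- the inverse transpose -/
def th : SL3 ≃* SL3 where
  toFun g := ⟨((g⁻¹ : SL3) : M3)ᵀ, by rw [Matrix.det_transpose]; exact (g⁻¹).2⟩
  invFun g := ⟨((g⁻¹ : SL3) : M3)ᵀ, by rw [Matrix.det_transpose]; exact (g⁻¹).2⟩
  left_inv g := by
    apply Subtype.ext
    change (((g⁻¹ : SL3) : M3)ᵀ).adjugateᵀ = (g : M3)
    rw [Matrix.adjugate_transpose, Matrix.transpose_transpose]
    change (((g⁻¹)⁻¹ : SL3) : M3) = _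
    rw [inv_inv]
  right_inv g := by
    apply Subtype.ext
    change (((g⁻¹ : SL3) : M3)ᵀ).adjugateᵀ = (g : M3)
    rw [Matrix.adjugate_transpose, Matrix.transpose_transpose]
    change (((g⁻¹)⁻¹ : SL3) : M3) = _
    rw [inv_inv]
  map_mul' g h := by
    apply Subtype.ext
    change (((g * h)⁻¹ : SL3) : M3)ᵀ = ((g⁻¹ : SL3) : M3)ᵀ * ((h⁻¹ : SL3) : M3)ᵀ
    rw [_root_.mul_inv_rev, Matrix.SpecialLinearGroup.coe_mul, Matrix.transpose_mul]

omit [Fintype F] in
theorem th_coe (g : SL3) : ((th g : SL3) : M3) = ((g⁻¹ : SL3) : M3)ᵀ := rfl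

/-- the induced automorphism -/
def thb : PSL3 ≃* PSL3 :=
  QuotientGroup.congr (Subgroup.center SL3) (Subgroup.center SL3) th
    (Subgroup.characteristic_iff_map_eq.1 inferInstance th)

omit [Fintype F] in
theorem th_dot (g : SL3) (m w : V3) : (((th g : SL3) : M3) *ᵥ w) ⬝ᵥ ((g : M3) *ᵥ m) = w ⬝ᵥ m := by
  rw [th_coe, Matrix.mulVec_transpose, ← Matrix.dotProduct_mulVec, inv_mulVec_mulVec]

omit [Fintype F] in
/-- the normal vector of a plane -/
theorem exists_normal {W : Submodule F V3} (hW : Module.finrank F W = 2) :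
    ∃ n : V3, n ≠ 0 ∧ (∀ w ∈ W, w ⬝ᵥ n = 0) ∧ ∀ m : V3, (∀ w ∈ W, w ⬝ᵥ m = 0) → ∃ c : F, m = c • n := by
  classical
  let D : Submodule F V3 :=
    { carrier := {m | ∀ w ∈ W, w ⬝ᵥ m = 0}
      add_mem' := fun {a b} ha hb w hw => by rw [dotProduct_add, ha w hw, hb w hw, add_zero]
      zero_mem' := fun w _ => dotProduct_zero w
      smul_mem' := fun c a ha w hw => by rw [dotProduct_smul, ha w hw, smul_zero] }
  have hD : Module.finrank F D = 1 := by
    have h1 := Subspace.finrank_add_finrank_dualAnnihilator_eq W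
    have h2 : Module.finrank F D = Module.finrank F W.dualAnnihilator := by
      let e : V3 ≃ₗ[F] Module.Dual F V3 := dotProductEquiv F (Fin 3)
      have h3 : D.map (e : V3 →ₗ[F] Module.Dual F V3) = W.dualAnnihilator := by
        ext φ
        rw [Submodule.mem_map, Submodule.mem_dualAnnihilator]
        constructor
        · rintro ⟨m, hm, rfl⟩ w hw
          change m ⬝ᵥ w = 0
          rw [dotProduct_comm]
          exact hm w hw
        · intro h
          obtain ⟨m, rfl⟩ := e.surjective φ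
          refine ⟨m, fun w hw => ?_, rfl⟩
          rw [dotProduct_comm]
          exact h w hw
      rw [← h3]
      exact (LinearEquiv.finrank_map_eq e D).symm
    rw [Module.finrank_fin_fun] at h1
    omega
  obtain ⟨⟨n, hn⟩, hn0, hs⟩ := finrank_eq_one_iff'.1 hD
  refine ⟨n, fun h => hn0 (Subtype.ext h), hn, fun m hm => ?_⟩
  obtain ⟨c, hc⟩ := hs ⟨m, hm⟩
  exact ⟨c, (congrArg Subtype.val hc).symm⟩

/-- **`PSL_3(q)`** -/
theorem row {p : ℕ} [hp : Fact p.Prime] [hcp : CharP F p] (hp3 : 3 ≤ p) (h2 : (2 : F) ≠ 0)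
    (hodd : Fintype.card F % 2 = 1) : Row PSL3 := by
  classical
  intro R hR
  have hfin : Finite PSL3 := Quotient.finite _
  by_contra hne
  obtain ⟨M, hM, hRM⟩ := (eq_top_or_exists_le_coatom R).resolve_left hne
  obtain ⟨W, hW0, hW1, hW⟩ := coatom_cases (p := p) hp3 h2 hM (hR.cov.mono hRM)
  have hst : ∀ g : SL3, pr 3 F g ∈ R → ∀ w : V3, w ∈ W → (g : M3) *ᵥ w ∈ W := by
    intro g hg w hw
    have h1 : Matrix.SpecialLinearGroup.toGL g ∈ pre M := mem_pre (hRM hg)
    rw [hW] at h1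
    exact (h1.1 w).1 hw
  have hfr : Module.finrank F W < 3 := by
    have := Submodule.finrank_lt hW1
    rwa [Module.finrank_fin_fun] at this
  have hfr0 : 0 < Module.finrank F W := Nat.pos_of_ne_zero fun h => hW0 (Submodule.finrank_eq_zero.mp h)
  have hcase : Module.finrank F W = 1 ∨ Module.finrank F W = 2 := by omega
  rcases hcase with h1 | h1
  · obtain ⟨⟨v, hvW⟩, hv0, hs⟩ := finrank_eq_one_iff'.1 h1
    have hv : v ≠ 0 := fun h => hv0 (Subtype.ext h)
    refine point_case (p := p) hp3 h2 hodd hR hv fun g hg => ?_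
    rw [fixed_iff_eig]
    obtain ⟨c, hc⟩ := hs ⟨_, hst g hg v hvW⟩
    exact ⟨c, (congrArg Subtype.val hc).symm⟩
  · obtain ⟨n, hn0, hn, hs⟩ := exists_normal h1
    refine point_case (p := p) hp3 h2 hodd (hR.comap thb) hn0 fun g hg => ?_
    rw [fixed_iff_eig]
    have hg' : pr 3 F (th g) ∈ R := hg
    have hmap : ∀ w ∈ W, ∃ w' ∈ W, ((th g : SL3) : M3) *ᵥ w' = w := by
      intro w hw
      have h3 : pr 3 F (th g)⁻¹ ∈ R := by rw [map_inv]; exact R.inv_mem hg'
      exact ⟨_, hst _ h3 w hw, mulVec_inv_mulVec _ _⟩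
    obtain ⟨c, hc⟩ := hs ((g : M3) *ᵥ n) (fun w hw => by
      obtain ⟨w', hw', rfl⟩ := hmap w hw
      rw [th_dot]
      exact hn w' hw')
    exact ⟨c, hc⟩

universe u

/-- **C10b, linear** -/
theorem row_psl_three (q : ℕ) (hq : ¬ 2 ∣ q) : RowN.{u} (.psl 3 q) := by
  intro T _ _ _ hT
  obtain ⟨F, _, _, hF, ⟨e⟩⟩ := hT.real
  subst hF
  obtain ⟨p, hcp⟩ := CharP.exists F
  have hp : Fact p.Prime := ⟨CharP.char_is_prime F p⟩
  obtain ⟨n, -, hn⟩ := FiniteField.card F p
  have hpq : p ∣ Fintype.card F := by rw [hn]; exact dvd_pow_self p n.2.ne'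
  have hp2 : p ≠ 2 := by
    intro h
    rw [h] at hpq
    exact hq hpq
  have hp3 : 3 ≤ p := by
    have := hp.out.two_le
    omega
  have h2 : (2 : F) ≠ 0 := by
    intro h
    have h1 : p ∣ 2 := (CharP.cast_eq_zero_iff F p 2).1 (by exact_mod_cast h)
    have := Nat.le_of_dvd two_pos h1
    omega
  have hfin : Finite (Matrix.ProjectiveSpecialLinearGroup (Fin 3) F) := Quotient.finite _
  exact Row8.congr e.symm (Row.row8 (row (p := p) hp3 h2 (by omega)))

end Cfsg.Agent.H746.OddM.ThreeL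
end

-- part: H878/OddM/L4
section
/-!
# TEAM ODDM (S4785), L4-RES: no maximal subgroup of `PSL_4(q)`, `q` odd, in the residual class is `Cov` (helper878)

By S5782 a maximal residual-class subgroup of `SL_4(q)`, `q` odd, has socle `A_7` or `U_4(2)` and `q = p` is a prime
not dividing `|Aut|`; but the order `p` is real in `PSL_4(q)`.
-/

set_option autoImplicit false

namespace Cfsg.Agent.H878.OddM.L4

open Matrix Cfsg Cfsg.Geo Cfsg.Agent.H304.PslT Cfsg.Agent.H453.OddM

variable {F : Type*} [Field F]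

/-- the transvection `1 + a E_12` -/
def tv (a : F) : Matrix.SpecialLinearGroup (Fin 4) F :=
  ⟨Matrix.transvection 0 1 a, Matrix.det_transvection_of_ne 0 1 (by decide) a⟩

theorem tv_mul (a b : F) : tv a * tv b = tv (a + b) :=
  Subtype.ext (Matrix.transvection_mul_transvection_same 0 1 (by decide) a b)

theorem tv_pow (a : F) (k : ℕ) : tv a ^ k = tv (k * a) := by
  induction k with
  | zero =>
    rw [pow_zero, Nat.cast_zero, zero_mul]
    exact Subtype.ext (Matrix.transvection_zero (i := (0 : Fin 4)) (j := 1)).symm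
  | succ k ih => rw [pow_succ, ih, tv_mul, Nat.cast_succ, add_mul, one_mul]

/-- the diagonal matrix `diag(-1,1,-1,1)` -/
def dg : Matrix.SpecialLinearGroup (Fin 4) F :=
  ⟨Matrix.diagonal ![-1, 1, -1, 1], by rw [Matrix.det_diagonal]; simp [Fin.prod_univ_four]⟩

theorem dg_tv (a : F) : dg * tv a = tv (-a) * dg := by
  apply Subtype.ext
  change Matrix.diagonal _ * Matrix.transvection (0 : Fin 4) 1 a =
    Matrix.transvection (0 : Fin 4) 1 (-a) * Matrix.diagonal _
  ext i j
  rw [Matrix.diagonal_mul, Matrix.mul_diagonal]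
  (revert i j; simp only [Matrix.transvection, Matrix.single, _root_.Fin.forall_fin_succ, Fin.isValue, _root_.Matrix.add_apply, _root_.Matrix.of_apply, _root_.one_ne_zero, _root_.and_false, ↓reduceIte, _root_.add_zero, _root_.Matrix.cons_val_zero, _root_.mul_neg, _root_.mul_one, _root_.Matrix.cons_val_succ, _root_.Fin.succ_zero_eq_one, _root_.and_true, _root_.Fin.succ_one_eq_two, Fin.reduceEq, _root_.Matrix.cons_val_fin_one, Fin.reduceSucc, _root_.IsEmpty.forall_iff, _root_.Matrix.one_apply_eq, _root_.ne_eq, _root_.zero_ne_one, _root_.not_false_eq_true, _root_.Matrix.one_apply_ne, _root_.zero_add, _root_.neg_mul, _root_.one_mul, _root_.MulZeroClass.mul_zero, _root_.neg_zero, _root_.and_self, _root_.Fin.succ_ne_zero, _root_.true_and, _root_.add_right_inj])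

theorem isReal_tv (a : F) : IsReal (tv a) := by
  refine ⟨dg, ?_⟩
  rw [dg_tv, mul_inv_cancel_right, eq_inv_iff_mul_eq_one, tv_mul, neg_add_cancel]
  exact Subtype.ext (Matrix.transvection_zero (i := (0 : Fin 4)) (j := 1))

theorem tv_mem_center {a : F} (h : tv a ∈ Subgroup.center (Matrix.SpecialLinearGroup (Fin 4) F)) : a = 0 := by
  obtain ⟨r, -, hr⟩ := Matrix.SpecialLinearGroup.mem_center_iff.1 h
  have h1 := congrFun (congrFun hr 0) 1
  simpa [tv, Matrix.transvection, Matrix.single, Matrix.one_apply] using h1.symm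

/-- **the characteristic is the order of a real element of `PSL_4(F)`** -/
theorem realP_char {p : ℕ} (hp : p.Prime) [CharP F p] : RealP (Matrix.ProjectiveSpecialLinearGroup (Fin 4) F) p := by
  refine ⟨pr 4 F (tv 1), ?_, (isReal_tv 1).map _⟩
  have h1 : (pr 4 F (tv 1)) ^ p = 1 := by
    rw [← map_pow, tv_pow, CharP.cast_eq_zero, zero_mul]
    have h0 : tv (0 : F) = 1 := Subtype.ext (Matrix.transvection_zero (i := (0 : Fin 4)) (j := 1))
    rw [h0, map_one]
  have := Fact.mk hp
  refine orderOf_eq_prime h1 fun h2 => ?_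
  exact one_ne_zero (tv_mem_center ((QuotientGroup.eq_one_iff _).1 h2))

/-- **the characteristic does not divide the order of a maximal residual-class subgroup** -/
theorem not_dvd [Fintype F] (h2 : (2 : F) ≠ 0) {M : Subgroup (Matrix.ProjectiveSpecialLinearGroup (Fin 4) F)}
    (hM : IsCoatom M) (hr : InLinearResidualClass (pre M)) :
    ∃ p : ℕ, p.Prime ∧ Fintype.card F = p ∧ ¬ p ∣ Nat.card M := by
  obtain ⟨P, p, hP, hp, hF, h⟩ := S5782.result (pre M) (isMaximalIn_pre hM) hr
  refine ⟨p, hp, hF, fun hd => ?_⟩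
  have hchar : CharP F p := by
    have := Fact.mk hp
    exact charP_of_card_eq_prime hF
  have hp2 : p ≠ 2 := by
    rintro rfl
    exact h2 (by exact_mod_cast CharP.cast_eq_zero F 2)
  have h3 := hd.trans (card_dvd_mulAut (by norm_num) hP)
  rcases h with ⟨⟨e⟩, h7⟩ | ⟨⟨K, i1, i2, hK, ⟨e⟩⟩, h6⟩
  · rw [Nat.card_congr (MulAut.congr e).toEquiv] at h3
    have h4 := h3.trans Cfsg.Agent.H900.SU4.card_mulAut_alt_seven
    have h5 : p ∣ 2 ^ 4 * 3 ^ 2 * 5 * 7 := by norm_num at h4 ⊢; exact h4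
    rcases hp.dvd_mul.1 h5 with h5 | h5
    · rcases hp.dvd_mul.1 h5 with h5 | h5
      · rcases hp.dvd_mul.1 h5 with h5 | h5
        · exact hp2 ((Nat.prime_dvd_prime_iff_eq hp Nat.prime_two).1 (hp.dvd_of_dvd_pow h5))
        · have := (Nat.prime_dvd_prime_iff_eq hp Nat.prime_three).1 (hp.dvd_of_dvd_pow h5)
          omega
      · have := (Nat.prime_dvd_prime_iff_eq hp Nat.prime_five).1 h5
        omega
    · have := (Nat.prime_dvd_prime_iff_eq hp (by norm_num : Nat.Prime 7)).1 h5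
      omega
  · have h8 : (Nat.card (MulAut (PSU 4 K 2))) = 2 * 25920 := by
      rw [Cfsg.Agent.H845.AutUFour.card_mulAut_PSU hK]
      congr 1
      have h := S0280.result (F := K) (q := 2) (by rw [hK]; norm_num) 4 (by norm_num)
      simp only [Finset.prod_range_succ, Nat.even_iff, _root_.Nat.reduceAdd, _root_.Nat.reduceGcd, _root_.one_mul, _root_.Nat.add_one_sub_one, _root_.Nat.reduceMul, _root_.Nat.reduceDiv, _root_.Nat.reducePow, _root_.Nat.even_iff, _root_.Finset.prod_range_succ, _root_.Finset.range_one, _root_.Finset.prod_singleton, _root_.Nat.zero_mod, ↓ _root_.reduceIte, _root_.zero_add, _root_.pow_one, _root_.Nat.mod_succ, _root_.one_ne_zero, _root_.Nat.mod_self, _root_.Nat.reduceMod] at h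
      omega
    rw [Nat.card_congr (MulAut.congr e).toEquiv, h8] at h3
    have h5 : p ∣ 2 ^ 7 * 3 ^ 4 * 5 := by norm_num at h3 ⊢; exact h3
    rcases hp.dvd_mul.1 h5 with h5 | h5
    · rcases hp.dvd_mul.1 h5 with h5 | h5
      · exact hp2 ((Nat.prime_dvd_prime_iff_eq hp Nat.prime_two).1 (hp.dvd_of_dvd_pow h5))
      · have := (Nat.prime_dvd_prime_iff_eq hp Nat.prime_three).1 (hp.dvd_of_dvd_pow h5)
        omega
    · have := (Nat.prime_dvd_prime_iff_eq hp Nat.prime_five).1 h5
      omega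

/-- **L4-RES**: a maximal subgroup of `PSL_4(q)`, `q` odd, in the residual class is not `Cov`. -/
theorem l4_res [Fintype F] (h2 : (2 : F) ≠ 0) {M : Subgroup (Matrix.ProjectiveSpecialLinearGroup (Fin 4) F)}
    (hM : IsCoatom M) (hr : InLinearResidualClass (pre M)) : ¬ Cov _ M := by
  obtain ⟨p, hp, hF, h⟩ := not_dvd h2 hM hr
  have := Fact.mk hp
  have hchar : CharP F p := charP_of_card_eq_prime hF
  exact not_cov_of_prime (realP_char hp) h

end Cfsg.Agent.H878.OddM.L4
end

-- part: H67/OdmEdge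
section
/-!
# All root elements (TEAM ODDM, S4785, helper67)

`hall` : if the transvections in `H` act irreducibly, `H` contains all `diag(-1,-1,1,…)` and one elementary transvection,
then `H` contains an elementary transvection in every position.
-/

set_option autoImplicit false
set_option linter.unusedSectionVars false
set_option linter.unusedVariables false

namespace Cfsg.Agent.H67.Odm

open Matrix

universe u v

variable {ι : Type v} [Fintype ι] [DecidableEq ι] {F : Type u} [Field F]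
variable {H : Subgroup (GL ι F)} {i j l : ι} {a b φ ψ : ι → F}

/-- the transvection `1 + a ⊗ φ` lies in `H` -/
def Tr (H : Subgroup (GL ι F)) (a φ : ι → F) : Prop := φ ⬝ᵥ a = 0 ∧ Mm H (1 + Matrix.vecMulVec a φ)

theorem vmv_mul (a φ b ψ : ι → F) : Matrix.vecMulVec a φ * Matrix.vecMulVec b ψ = (φ ⬝ᵥ b) • Matrix.vecMulVec a ψ := by
  ext r s
  rw [Matrix.mul_apply, Matrix.smul_apply, Matrix.vecMulVec_apply, dotProduct, smul_eq_mul, Finset.sum_mul]
  refine Finset.sum_congr rfl fun k _ => ?_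
  rw [Matrix.vecMulVec_apply, Matrix.vecMulVec_apply]
  ring

theorem Tr.add (h : Tr H a φ) (h' : Tr H b φ) : Tr H (a + b) φ := by
  refine ⟨by rw [dotProduct_add, h.1, h'.1, add_zero], ?_⟩
  have h1 := h.2.mul h'.2
  have h2 : (1 + Matrix.vecMulVec a φ) * (1 + Matrix.vecMulVec b φ) = 1 + Matrix.vecMulVec (a + b) φ := by
    rw [mul_add, add_mul, add_mul, one_mul, one_mul, mul_one, vmv_mul, h'.1, zero_smul, Matrix.add_vecMulVec]
    abel
  rwa [h2] at h1

theorem Tr.neg (h : Tr H a φ) : Tr H (-a) φ := by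
  refine ⟨by rw [dotProduct_neg, h.1, neg_zero], h.2.inv_of ?_⟩
  rw [mul_add, add_mul, add_mul, one_mul, one_mul, mul_one, vmv_mul, dotProduct_neg, h.1, neg_zero, zero_smul,
    Matrix.neg_vecMulVec]
  abel

theorem Tr.sub (h : Tr H a φ) (h' : Tr H b φ) : Tr H (a - b) φ := by
  rw [sub_eq_add_neg]; exact h.add h'.neg

theorem Tr.conj (h : Tr H a φ) (h' : Tr H b ψ) : Tr H (a + (ψ ⬝ᵥ a) • b) (φ - (φ ⬝ᵥ b) • ψ) := by
  constructor
  · rw [sub_dotProduct, dotProduct_add, dotProduct_add, smul_dotProduct, smul_dotProduct, dotProduct_smul,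
      dotProduct_smul, h.1, h'.1]
    simp only [smul_eq_mul]
    ring
  · have h1 := (h'.2.mul h.2).mul h'.neg.2
    have h2 : (1 + Matrix.vecMulVec b ψ) * (1 + Matrix.vecMulVec a φ) * (1 + Matrix.vecMulVec (-b) ψ) =
        1 + Matrix.vecMulVec (a + (ψ ⬝ᵥ a) • b) (φ - (φ ⬝ᵥ b) • ψ) := by
      have e1 : (1 + Matrix.vecMulVec b ψ) * (1 + Matrix.vecMulVec a φ) * (1 + Matrix.vecMulVec (-b) ψ) =
          1 + Matrix.vecMulVec a φ + Matrix.vecMulVec b ψ * Matrix.vecMulVec a φ -
            Matrix.vecMulVec a φ * Matrix.vecMulVec b ψ -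
            Matrix.vecMulVec b ψ * Matrix.vecMulVec a φ * Matrix.vecMulVec b ψ -
            Matrix.vecMulVec b ψ * Matrix.vecMulVec b ψ := by
        rw [Matrix.neg_vecMulVec]
        noncomm_ring
      rw [e1, vmv_mul b ψ a φ, Matrix.smul_mul, vmv_mul, vmv_mul, vmv_mul, h'.1, zero_smul]
      ext r s
      simp only [Matrix.add_apply, Matrix.sub_apply, Matrix.zero_apply, Matrix.smul_apply, Matrix.vecMulVec_apply,
        Pi.add_apply, Pi.sub_apply, Pi.smul_apply, smul_eq_mul]
      ring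
    rwa [h2] at h1

theorem transvection_eq (i j : ι) (c : F) : Matrix.transvection i j c =
    1 + Matrix.vecMulVec (c • (Pi.single i 1 : ι → F)) (Pi.single j 1) := by
  rw [Matrix.transvection]
  congr 1
  ext r s
  rw [Matrix.vecMulVec_apply, Pi.smul_apply, smul_eq_mul, Matrix.single_apply, Pi.single_apply, Pi.single_apply]
  rcases eq_or_ne i r with rfl | h1
  · rcases eq_or_ne j s with rfl | h2
    · simp
    · simp [h2, h2.symm]
  · simp [h1, h1.symm]

theorem tr_iff (hij : i ≠ j) {c : F} : Mm H (Matrix.transvection i j c) ↔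
    Tr H (c • (Pi.single i 1 : ι → F)) (Pi.single j 1) := by
  rw [transvection_eq]
  refine ⟨fun h => ⟨?_, h⟩, fun h => h.2⟩
  rw [single_dotProduct, one_mul, Pi.smul_apply, Pi.single_eq_of_ne hij.symm, smul_zero]

/-- edges -/
def Ed (H : Subgroup (GL ι F)) (i j : ι) : Prop := i ≠ j ∧ ∃ c : F, c ≠ 0 ∧ Mm H (Matrix.transvection i j c)

theorem Ed.trans (h : Ed H i j) (h' : Ed H j l) (hil : i ≠ l) : Ed H i l := by
  obtain ⟨hij, c, hc, hx⟩ := h
  obtain ⟨hjl, d, hd, hy⟩ := h'
  refine ⟨hil, d * c, mul_ne_zero hd hc, ?_⟩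
  rw [tr_iff hij] at hx
  rw [tr_iff hjl] at hy
  rw [tr_iff hil]
  have h1 := hy.conj hx
  have e1 : (Pi.single j (1 : F)) ⬝ᵥ (d • (Pi.single j 1 : ι → F)) = d := by
    rw [single_dotProduct, one_mul, Pi.smul_apply, Pi.single_eq_same, smul_eq_mul, mul_one]
  have e2 : (Pi.single l (1 : F)) ⬝ᵥ (c • (Pi.single i 1 : ι → F)) = 0 := by
    rw [single_dotProduct, one_mul, Pi.smul_apply, Pi.single_eq_of_ne hil.symm, smul_zero]
  rw [e1, e2, zero_smul, sub_zero] at h1
  have h3 := h1.sub hy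
  rwa [add_sub_cancel_left, smul_smul] at h3

/-- no proper subspace is invariant under the transvections in `H` -/
def Irr (H : Subgroup (GL ι F)) : Prop := ∀ W : Submodule F (ι → F), W ≠ ⊥ → W ≠ ⊤ →
  ∃ a φ : ι → F, Tr H a φ ∧ ∃ w ∈ W, (φ ⬝ᵥ w) • a ∉ W

theorem exists_crossing (hirr : Irr H) (hij : i ≠ j) : ∃ a φ : ι → F, Tr H a φ ∧ a j ≠ 0 ∧ φ i ≠ 0 := by
  by_contra hcon
  push Not at hcon
  have hno : ∀ a φ : ι → F, Tr H a φ → φ i ≠ 0 → a j = 0 := fun a φ h hφ => by
    by_contra ha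
    exact hφ (hcon a φ h ha)
  set W : Submodule F (ι → F) := Submodule.span F {a | ∃ φ, Tr H a φ ∧ φ i ≠ 0} with hW
  have hWj : ∀ w ∈ W, w j = 0 := by
    intro w hw
    induction hw using Submodule.span_induction with
    | mem x hx =>
      obtain ⟨φ, h, hφ⟩ := hx
      exact hno _ _ h hφ
    | zero => rfl
    | add x y _ _ hx hy => rw [Pi.add_apply, hx, hy, add_zero]
    | smul c x _ hx => rw [Pi.smul_apply, hx, smul_zero]
  have hWt : W ≠ ⊤ := by
    intro h
    have h1 := hWj (Pi.single j 1) (by rw [h]; trivial)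
    rw [Pi.single_eq_same] at h1
    exact one_ne_zero h1
  have hWb : W ≠ ⊥ := by
    intro h
    have h0 : ∀ a φ : ι → F, Tr H a φ → φ i ≠ 0 → a = 0 := fun a φ h1 hφ => by
      have h3 : a ∈ W := Submodule.subset_span ⟨φ, h1, hφ⟩
      rw [h] at h3
      exact (Submodule.mem_bot F).1 h3
    have hs1 : Submodule.span F {(Pi.single i 1 : ι → F)} ≠ ⊥ := by
      rw [Ne, Submodule.span_singleton_eq_bot]
      intro h3
      have := congrFun h3 i
      rw [Pi.single_eq_same] at this
      exact one_ne_zero this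
    have hs2 : Submodule.span F {(Pi.single i 1 : ι → F)} ≠ ⊤ := by
      intro h3
      have h4 : (Pi.single j 1 : ι → F) ∈ Submodule.span F {(Pi.single i 1 : ι → F)} := by rw [h3]; trivial
      obtain ⟨c, hc⟩ := Submodule.mem_span_singleton.1 h4
      have := congrFun hc j
      rw [Pi.smul_apply, Pi.single_eq_of_ne hij.symm, smul_zero, Pi.single_eq_same] at this
      exact one_ne_zero this.symm
    obtain ⟨a, φ, h1, w, hw, hn⟩ := hirr _ hs1 hs2
    obtain ⟨c, rfl⟩ := Submodule.mem_span_singleton.1 hw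
    apply hn
    rw [dotProduct_smul, dotProduct_single, mul_one, smul_eq_mul]
    by_cases hφ : φ i = 0
    · rw [hφ, mul_zero, zero_smul]
      exact Submodule.zero_mem _
    · rw [h0 a φ h1 hφ, smul_zero]
      exact Submodule.zero_mem _
  obtain ⟨b, ψ, h1, w, hw, hn⟩ := hirr W hWb hWt
  apply hn
  clear hn
  induction hw using Submodule.span_induction with
  | mem x hx =>
    obtain ⟨φ, h, hφ⟩ := hx
    by_cases hψ : ψ i = 0
    · have h3 := h.conj h1
      have h4 : x + (ψ ⬝ᵥ x) • b ∈ W := Submodule.subset_span ⟨_, h3, by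
        rw [Pi.sub_apply, Pi.smul_apply, hψ, smul_zero, sub_zero]
        exact hφ⟩
      have h5 : x ∈ W := Submodule.subset_span ⟨φ, h, hφ⟩
      have h6 := W.sub_mem h4 h5
      rwa [add_sub_cancel_left] at h6
    · exact W.smul_mem _ (Submodule.subset_span ⟨ψ, h1, hψ⟩)
  | zero => rw [dotProduct_zero, zero_smul]; exact W.zero_mem
  | add x y _ _ hx hy => rw [dotProduct_add, add_smul]; exact W.add_mem hx hy
  | smul c x _ hx => rw [dotProduct_smul, smul_assoc]; exact W.smul_mem _ hx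

theorem exists_third (hcard : 3 ≤ Fintype.card ι) (i j : ι) : ∃ k : ι, k ≠ i ∧ k ≠ j := by
  by_contra hcon
  push Not at hcon
  have h6 : (Finset.univ : Finset ι) ⊆ {i, j} := fun x _ => by
    rw [Finset.mem_insert, Finset.mem_singleton]
    by_cases h : x = i
    · exact Or.inl h
    · exact Or.inr (hcon x h)
  have h7 := Finset.card_le_card h6
  have h8 : Finset.card ({i, j} : Finset ι) ≤ 2 := Finset.card_le_two
  rw [Finset.card_univ] at h7
  omega

theorem Ed.symm [Finite F] (h2 : (2 : F) ≠ 0) (hE : HasE H) (hcard : 3 ≤ Fintype.card ι) (hirr : Irr H)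
    (h : Ed H i j) : Ed H j i := by
  obtain ⟨hij, c, hc, hx⟩ := h
  obtain ⟨a, φ, ht, ha, hφ⟩ := exists_crossing hirr hij
  obtain ⟨k, hki, hkj⟩ := exists_third hcard i j
  exact ⟨hij.symm, sym h2 hE hij hki hkj hc hx ht.2 ht.1 ha hφ⟩

theorem two_pow_ne (h2 : (2 : F) ≠ 0) (m : ℕ) : (2 : F) ^ m ≠ 0 := pow_ne_zero m h2

/-- **All positions.** -/
theorem hall [Finite F] (h2 : (2 : F) ≠ 0) (hE : HasE H) (hcard : Fintype.card ι = 3 ∨ 5 ≤ Fintype.card ι)
    (hirr : Irr H) {i₀ j₀ : ι} (h₀ : Ed H i₀ j₀) (i j : ι) (hij : i ≠ j) :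
    ∃ c : F, c ≠ 0 ∧ Mm H (Matrix.transvection i j c) := by
  have hc3 : 3 ≤ Fintype.card ι := by omega
  have hsymm : ∀ {x y : ι}, Ed H x y → Ed H y x := fun h => h.symm h2 hE hc3 hirr
  -- the component
  let C : Set ι := {x | x = i₀ ∨ Ed H i₀ x}
  have hCC : ∀ x ∈ C, ∀ y ∈ C, x ≠ y → Ed H x y := by
    rintro x (rfl | hx) y (rfl | hy) hxy
    · exact absurd rfl hxy
    · exact hy
    · exact hsymm hx
    · exact (hsymm hx).trans hy hxy
  have hCn : ∀ x ∈ C, ∀ y, Ed H x y → y ∈ C := by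
    rintro x (rfl | hx) y hy
    · exact Or.inr hy
    · by_cases h : y = i₀
      · exact Or.inl h
      · exact Or.inr (hx.trans hy (Ne.symm h))
  have hi₀ : i₀ ∈ C := Or.inl rfl
  have hj₀ : j₀ ∈ C := Or.inr h₀
  by_cases hC : ∀ x, x ∈ C
  · exact (hCC i (hC i) j (hC j) hij).2
  exfalso
  push Not at hC
  obtain ⟨l₀, hl₀⟩ := hC
  let Y : Submodule F (ι → F) :=
    { carrier := {w | ∀ x ∈ C, w x = 0}
      zero_mem' := fun x _ => rfl
      add_mem' := fun {u v} hu hv x hx => by rw [Pi.add_apply, hu x hx, hv x hx, add_zero]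
      smul_mem' := fun c u hu x hx => by rw [Pi.smul_apply, hu x hx, smul_zero] }
  have hY : ∀ w, w ∈ Y ↔ ∀ x ∈ C, w x = 0 := fun w => Iff.rfl
  have hYb : Y ≠ ⊥ := by
    intro h
    have h1 : (Pi.single l₀ 1 : ι → F) ∈ Y := by
      intro x hx
      rw [Pi.single_eq_of_ne]
      rintro rfl
      exact hl₀ hx
    rw [h, Submodule.mem_bot] at h1
    have := congrFun h1 l₀
    rw [Pi.single_eq_same] at this
    exact one_ne_zero this
  have hYt : Y ≠ ⊤ := by
    intro h
    have h1 : (Pi.single i₀ 1 : ι → F) ∈ Y := by rw [h]; trivial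
    have := h1 i₀ hi₀
    rw [Pi.single_eq_same] at this
    exact one_ne_zero this
  obtain ⟨a, φ, ht, w, hw, hn⟩ := hirr Y hYb hYt
  apply hn
  by_cases hφw : φ ⬝ᵥ w = 0
  · rw [hφw, zero_smul]
    exact Y.zero_mem
  obtain ⟨l, hl⟩ : ∃ l, φ l * w l ≠ 0 := by
    by_contra hcon
    push Not at hcon
    exact hφw (Finset.sum_eq_zero fun l _ => hcon l)
  have hφl : φ l ≠ 0 := left_ne_zero_of_mul hl
  have hlC : l ∉ C := fun h => right_ne_zero_of_mul hl (hw l h)
  refine Y.smul_mem _ ?_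
  intro x hx
  by_contra hax
  -- a second element of the component
  obtain ⟨y, hyC, hyx⟩ : ∃ y ∈ C, y ≠ x := by
    by_cases h : i₀ = x
    · exact ⟨j₀, hj₀, by rw [← h]; exact h₀.1.symm⟩
    · exact ⟨i₀, hi₀, h⟩
  obtain ⟨-, c, hc, hyxc⟩ := hCC y hyC x hx hyx
  have hly : l ≠ y := fun h => hlC (h ▸ hyC)
  have hlx : l ≠ x := fun h => hlC (h ▸ hx)
  by_cases hφy : φ y = 0
  · rw [tr_iff hyx] at hyxc
    have h1 := ht.conj hyxc
    have e1 : (Pi.single x (1 : F)) ⬝ᵥ a = a x := by rw [single_dotProduct, one_mul]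
    have e2 : φ ⬝ᵥ (c • (Pi.single y 1 : ι → F)) = 0 := by
      rw [dotProduct_smul, dotProduct_single, hφy, zero_mul, smul_zero]
    rw [e1, e2, zero_smul, sub_zero] at h1
    have h3 := h1.sub ht
    rw [add_sub_cancel_left] at h3
    have hsp : Sp y x (Matrix.vecMulVec (a x • c • (Pi.single y 1 : ι → F)) φ) := by
      intro r s hrs
      left
      rw [Matrix.vecMulVec_apply] at hrs
      constructor
      · by_contra hry
        apply hrs
        rw [Pi.smul_apply, Pi.smul_apply, Pi.single_eq_of_ne hry, smul_zero, smul_zero, zero_mul]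
      · rintro rfl
        apply hrs
        rw [hφy, mul_zero]
    obtain ⟨m, hm⟩ := iso hE hcard hyx hly hlx hsp h3.2
    apply hlC
    refine hCn y hyC l ⟨Ne.symm hly, _, ?_, hm⟩
    rw [Matrix.vecMulVec_apply, Pi.smul_apply, Pi.smul_apply, Pi.single_eq_same, smul_eq_mul, smul_eq_mul, mul_one]
    exact mul_ne_zero (two_pow_ne h2 m) (mul_ne_zero (mul_ne_zero hax hc) hφl)
  · obtain ⟨m, hm⟩ := edge_row h2 hE hcard hyx hc hyxc ht.2 ht.1 hax hφy hly hlx
    apply hlC
    refine hCn y hyC l ⟨Ne.symm hly, _, ?_, hm⟩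
    exact mul_ne_zero (two_pow_ne h2 m) (mul_ne_zero (neg_ne_zero.2 h2) (mul_ne_zero (inv_ne_zero hφy) hφl))

end Cfsg.Agent.H67.Odm
end

-- part: H67/OdmRes
section
/-!
# The residual class of `PSL_n(q)`, `q` odd, `n = 3` or `n ≥ 5` (TEAM ODDM, S4785, helper67)
-/

set_option autoImplicit false
set_option linter.unusedSectionVars false
set_option linter.unusedVariables false

namespace Cfsg.Agent.H67.Odm

open Matrix Cfsg.Geo Cfsg.Agent.H453.OddM

universe u

section abs

variable {ι : Type} [Fintype ι] [DecidableEq ι] {F : Type u} [Field F]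

/-- conjugate subgroup -/
def cj (H : Subgroup (GL ι F)) (y : GL ι F) : Subgroup (GL ι F) := H.comap (MulAut.conj y).toMonoidHom

theorem mem_cj {H : Subgroup (GL ι F)} {y x : GL ι F} : x ∈ cj H y ↔ y * x * y⁻¹ ∈ H := Iff.rfl

/-- the transvections of `H` -/
def Tset (H : Subgroup (GL ι F)) : Set (GL ι F) :=
  {g | g ∈ H ∧ ∃ a φ : ι → F, φ ⬝ᵥ a = 0 ∧ g.1 = 1 + Matrix.vecMulVec a φ}

theorem conj_vmv (y : GL ι F) (a φ : ι → F) : y.1 * (1 + Matrix.vecMulVec a φ) * (y⁻¹ : GL ι F).1 =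
    1 + Matrix.vecMulVec (y.1 *ᵥ a) (φ ᵥ* (y⁻¹ : GL ι F).1) := by
  rw [mul_add, add_mul, mul_one, ← Units.val_mul, mul_inv_cancel, Units.val_one, Matrix.mul_vecMulVec,
    Matrix.vecMulVec_mul]

theorem conj_dot (y : GL ι F) (a φ : ι → F) : (φ ᵥ* (y⁻¹ : GL ι F).1) ⬝ᵥ (y.1 *ᵥ a) = φ ⬝ᵥ a := by
  rw [← Matrix.dotProduct_mulVec, Matrix.mulVec_mulVec, ← Units.val_mul, inv_mul_cancel, Units.val_one,
    Matrix.one_mulVec]

theorem Tset_conj {H : Subgroup (GL ι F)} {g h : GL ι F} (hh : h ∈ H) (hg : g ∈ Tset H) : h * g * h⁻¹ ∈ Tset H := by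
  obtain ⟨hgH, a, φ, h0, hga⟩ := hg
  refine ⟨H.mul_mem (H.mul_mem hh hgH) (H.inv_mem hh), h.1 *ᵥ a, φ ᵥ* (h⁻¹ : GL ι F).1, ?_, ?_⟩
  · rw [conj_dot, h0]
  · rw [Units.val_mul, Units.val_mul, hga, conj_vmv]

theorem closure_conj {H : Subgroup (GL ι F)} : ∀ h ∈ H, ∀ n ∈ Subgroup.closure (Tset H),
    h * n * h⁻¹ ∈ Subgroup.closure (Tset H) := by
  intro h hh n hn
  induction hn using Subgroup.closure_induction with
  | mem t ht => exact Subgroup.subset_closure (Tset_conj hh ht)
  | one => simp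
  | mul x y _ _ hx hy =>
    have : h * (x * y) * h⁻¹ = (h * x * h⁻¹) * (h * y * h⁻¹) := by group
    rw [this]
    exact (Subgroup.closure (Tset H)).mul_mem hx hy
  | inv x _ hx =>
    have : h * x⁻¹ * h⁻¹ = (h * x * h⁻¹)⁻¹ := by group
    rw [this]
    exact (Subgroup.closure (Tset H)).inv_mem hx

theorem closure_le_self {H : Subgroup (GL ι F)} : Subgroup.closure (Tset H) ≤ H := by
  rw [Subgroup.closure_le]
  exact fun t ht => ht.1

/-- pulling a transvection of `H` back to `cj H y` -/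
theorem tr_cj {H : Subgroup (GL ι F)} {y g : GL ι F} (hg : g ∈ H) {a φ : ι → F} (h0 : φ ⬝ᵥ a = 0)
    (hga : g.1 = 1 + Matrix.vecMulVec a φ) :
    Tr (cj H y) ((y⁻¹ : GL ι F).1 *ᵥ a) (φ ᵥ* y.1) := by
  have h1 := conj_dot y⁻¹ a φ
  have h2 := conj_vmv y⁻¹ a φ
  rw [inv_inv] at h1 h2
  refine ⟨by rw [h1, h0], y⁻¹ * g * y, ?_, ?_⟩
  · rw [mem_cj]
    have : y * (y⁻¹ * g * y) * y⁻¹ = g := by group
    rwa [this]
  · rw [Units.val_mul, Units.val_mul, hga, h2]

theorem core_le [Finite F] {H P : Subgroup (GL ι F)} (hP : IsResidualCore H P) {y : GL ι F} {i j : ι}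
    (h : Ed (cj H y) i j) : P ≤ Subgroup.closure (Tset H) := by
  obtain ⟨hij, c, hc, x, hx, hxc⟩ := h
  refine H262.El.core_le_of_normal hP closure_le_self closure_conj (fun hle => ?_)
  have h1 : y * x * y⁻¹ ∈ Tset H := by
    refine ⟨hx, y.1 *ᵥ (c • (Pi.single i 1 : ι → F)), (Pi.single j 1 : ι → F) ᵥ* (y⁻¹ : GL ι F).1, ?_, ?_⟩
    · rw [conj_dot, single_dotProduct, one_mul, Pi.smul_apply, Pi.single_eq_of_ne hij.symm, smul_zero]
    · rw [Units.val_mul, Units.val_mul, hxc, transvection_eq, conj_vmv]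
  have h2 := hle (Subgroup.subset_closure h1)
  rw [mem_scalars_iff] at h2
  obtain ⟨s, hs⟩ := h2
  have h3 : x.1 = (s : F) • (1 : Matrix ι ι F) := by
    have h4 : x = y⁻¹ * (y * x * y⁻¹) * y := by group
    rw [h4, Units.val_mul, Units.val_mul, hs, Matrix.mul_smul, Matrix.mul_one, Matrix.smul_mul, ← Units.val_mul,
      inv_mul_cancel]
    rfl
  have h5 := congrFun (congrFun h3 i) j
  rw [hxc, Matrix.transvection, Matrix.add_apply, Matrix.one_apply_ne hij, Matrix.single_apply_same,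
    Matrix.smul_apply, Matrix.one_apply_ne hij, smul_zero, zero_add] at h5
  exact hc h5

theorem irr_cj [Finite F] {H P : Subgroup (GL ι F)} (hP : IsResidualCore H P) {y : GL ι F} {i j : ι}
    (h : Ed (cj H y) i j) : Irr (cj H y) := by
  intro W hW hW'
  by_contra hcon
  push Not at hcon
  set W' : Submodule F (ι → F) := W.map (Matrix.toLin' y.1) with hWd
  have hyy : ∀ v, y.1 *ᵥ ((y⁻¹ : GL ι F).1 *ᵥ v) = v := fun v => by
    rw [Matrix.mulVec_mulVec, ← Units.val_mul, mul_inv_cancel, Units.val_one, Matrix.one_mulVec]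
  have hyy' : ∀ v, (y⁻¹ : GL ι F).1 *ᵥ (y.1 *ᵥ v) = v := fun v => by
    rw [Matrix.mulVec_mulVec, ← Units.val_mul, inv_mul_cancel, Units.val_one, Matrix.one_mulVec]
  have hle : Subgroup.closure (Tset H) ≤ subspaceStabilizer W' := by
    rw [Subgroup.closure_le]
    rintro g ⟨hg, a, φ, h0, hga⟩
    refine Cfsg.Agent.H922.mem_subspaceStabilizer_of_forall ?_
    rintro _ ⟨w, hw, rfl⟩
    rw [Matrix.toLin'_apply, hga, Matrix.add_mulVec, Matrix.one_mulVec]
    refine W'.add_mem ⟨w, hw, Matrix.toLin'_apply _ _⟩ ?_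
    have h1 := hcon _ _ (tr_cj (y := y) hg h0 hga) w hw
    refine ⟨_, h1, ?_⟩
    rw [Matrix.toLin'_apply, Matrix.mulVec_smul, hyy, ← Matrix.dotProduct_mulVec]
    ext r
    rw [Pi.smul_apply, smul_eq_mul, Matrix.mulVec, dotProduct, mul_comm, dotProduct, Finset.mul_sum]
    refine Finset.sum_congr rfl fun s _ => ?_
    rw [Matrix.vecMulVec_apply]
    ring
  have hirr := hP.absIrred.1
  refine H918.not_le_subspaceStabilizer hirr (W := W') ?_ ?_ ((core_le hP h).trans hle)
  · intro h0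
    apply hW
    rw [Submodule.eq_bot_iff] at h0 ⊢
    intro w hw
    have h1 := h0 _ ⟨w, hw, Matrix.toLin'_apply _ _⟩
    have h2 := hyy' w
    rw [h1, Matrix.mulVec_zero] at h2
    exact h2.symm
  · intro h0
    apply hW'
    rw [eq_top_iff]
    intro v _
    have h1 : y.1 *ᵥ v ∈ W' := by rw [h0]; trivial
    obtain ⟨w, hw, hwv⟩ := h1
    rw [Matrix.toLin'_apply] at hwv
    have h2 := hyy' w
    rw [hwv, hyy'] at h2
    rwa [h2]

/-- the conclusion on fields -/
def Fields (H : Subgroup (GL ι F)) : Prop :=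
  (∀ i j : ι, i ≠ j → ∀ c : F, Mm H (Matrix.transvection i j c)) ∨ ∃ k : Subfield F, k ≠ ⊤ ∧ ∃ d : ι → F,
    (∀ i, d i ≠ 0) ∧ ∀ a φ : ι → F, φ ⬝ᵥ a = 0 → Mm H (1 + Matrix.vecMulVec a φ) →
      ∀ r s, (d r)⁻¹ * a r * φ s * d s ∈ k

theorem all_of_core [Finite F] {H P : Subgroup (GL ι F)} (hP : IsResidualCore H P) {y : GL ι F} {i j : ι}
    (h : Ed (cj H y) i j) (hF : Fields (cj H y)) (r s : ι) (hrs : r ≠ s) (c : F) :
    Mm (cj H y) (Matrix.transvection r s c) := by
  rcases hF with hF | ⟨k, hk, d, hd, hF⟩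
  · exact hF r s hrs c
  exfalso
  -- the diagonal matrix
  let D : GL ι F := ⟨Matrix.diagonal fun i => (d i)⁻¹, Matrix.diagonal d, by
    rw [Matrix.diagonal_mul_diagonal, ← Matrix.diagonal_one]
    congr 1
    ext i
    exact inv_mul_cancel₀ (hd i), by
    rw [Matrix.diagonal_mul_diagonal, ← Matrix.diagonal_one]
    congr 1
    ext i
    exact mul_inv_cancel₀ (hd i)⟩
  have hDv : D.1 = Matrix.diagonal fun i => (d i)⁻¹ := rfl
  have hDi : (D⁻¹ : GL ι F).1 = Matrix.diagonal d := rfl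
  refine hP.no_subfield k hk ⟨D * y⁻¹, ?_⟩
  -- matrices over `k`
  let K : Set (GL ι F) := {g | ∀ i j, (((D * y⁻¹) * g * (D * y⁻¹)⁻¹ : GL ι F).1) i j ∈ k}
  have hK1 : (1 : GL ι F) ∈ K := by
    intro i j
    rw [mul_one, mul_inv_cancel, Units.val_one, Matrix.one_apply]
    split_ifs
    · exact k.one_mem
    · exact k.zero_mem
  have hKm : ∀ g g' : GL ι F, g ∈ K → g' ∈ K → g * g' ∈ K := by
    intro g g' hg hg' i j
    have : (D * y⁻¹) * (g * g') * (D * y⁻¹)⁻¹ = ((D * y⁻¹) * g * (D * y⁻¹)⁻¹) * ((D * y⁻¹) * g' * (D * y⁻¹)⁻¹) := by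
      group
    rw [this, Units.val_mul, Matrix.mul_apply]
    exact k.sum_mem fun l _ => k.mul_mem (hg i l) (hg' l j)
  have hfin : Finite (GL ι F) := inferInstance
  have hcl : ∀ g ∈ Subgroup.closure (Tset H), g ∈ K := by
    intro g hg
    induction hg using Subgroup.closure_induction with
    | mem t ht =>
      obtain ⟨htH, a, φ, h0, hta⟩ := ht
      intro i j
      have h1 := tr_cj (y := y) htH h0 hta
      have h2 : (D * y⁻¹) * t * (D * y⁻¹)⁻¹ = D * (y⁻¹ * t * y) * D⁻¹ := by group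
      have h3 := conj_vmv y⁻¹ a φ
      rw [inv_inv] at h3
      rw [h2, Units.val_mul, Units.val_mul, Units.val_mul, Units.val_mul, hta, h3, hDv, hDi, Matrix.mul_diagonal,
        Matrix.diagonal_mul, Matrix.add_apply, Matrix.vecMulVec_apply]
      have h4 := hF _ _ h1.1 h1.2 i j
      have h5 : (d i)⁻¹ * (1 : Matrix ι ι F) i j * d j ∈ k := by
        rw [Matrix.one_apply]
        split_ifs with hij
        · rw [hij, mul_one, inv_mul_cancel₀ (hd j)]
          exact k.one_mem
        · rw [mul_zero, zero_mul]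
          exact k.zero_mem
      have h6 := k.add_mem h5 h4
      have h7 : (d i)⁻¹ * (1 : Matrix ι ι F) i j * d j +
          (d i)⁻¹ * ((y⁻¹ : GL ι F).1 *ᵥ a) i * (φ ᵥ* y.1) j * d j =
          (d i)⁻¹ * ((1 : Matrix ι ι F) i j + ((y⁻¹ : GL ι F).1 *ᵥ a) i * (φ ᵥ* y.1) j) * d j := by ring
      rwa [h7] at h6
    | one => exact hK1
    | mul x z _ _ hx hz => exact hKm _ _ hx hz
    | inv x _ hx =>
      have hpow : ∀ n : ℕ, x ^ n ∈ K := by
        intro n
        induction n with
        | zero => rw [pow_zero]; exact hK1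
        | succ n ih => rw [pow_succ]; exact hKm _ _ ih hx
      have h1 : x⁻¹ = x ^ (orderOf x - 1) := by
        symm
        apply eq_inv_of_mul_eq_one_left
        rw [← pow_succ, Nat.sub_add_cancel (orderOf_pos x), pow_orderOf_eq_one]
      rw [h1]
      exact hpow _
  rintro _ ⟨x, hx, rfl⟩ i j
  have := hcl x (core_le hP h hx) i j
  rw [Units.val_mul, Units.val_mul] at this
  exact this

end abs

section psl

open Cfsg.Agent.H304.PslT

variable {n : ℕ} {F : Type u} [Field F]

theorem det_sgm {i j : Fin n} (h : i ≠ j) : (sgm (F := F) i j).det = 1 := by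
  classical
  rw [sgm, Matrix.det_diagonal]
  unfold sgv
  rw [Finset.prod_ite]
  have h1 : (Finset.univ.filter fun l => l = i ∨ l = j) = {i, j} := by
    ext l; simp only [_root_.Finset.mem_filter, _root_.Finset.mem_univ, _root_.true_and, _root_.Finset.mem_insert, _root_.Finset.mem_singleton]
  rw [h1, Finset.prod_const, Finset.prod_const_one, Finset.card_pair h]
  ring

/-- the diagonal sign matrices of determinant one -/
def Esub (n : ℕ) (F : Type u) [Field F] : Subgroup (Matrix.SpecialLinearGroup (Fin n) F) where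
  carrier := {g | ∃ ε : Fin n → F, (∀ i, ε i = 1 ∨ ε i = -1) ∧ g.1 = Matrix.diagonal ε}
  one_mem' := ⟨fun _ => 1, fun _ => Or.inl rfl, by
    rw [Matrix.SpecialLinearGroup.coe_one]
    exact Matrix.diagonal_one.symm⟩
  mul_mem' := by
    rintro x y ⟨ε, hε, hx⟩ ⟨δ, hδ, hy⟩
    refine ⟨fun i => ε i * δ i, fun i => ?_, ?_⟩
    · change ε i * δ i = 1 ∨ ε i * δ i = -1
      rcases hε i with h | h <;> rcases hδ i with h' | h' <;> rw [h, h'] <;> simp
    · rw [Matrix.SpecialLinearGroup.coe_mul, hx, hy, Matrix.diagonal_mul_diagonal]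
  inv_mem' := by
    rintro x ⟨ε, hε, hx⟩
    refine ⟨ε, hε, ?_⟩
    have h1 : x * x = 1 := by
      apply Subtype.ext
      rw [Matrix.SpecialLinearGroup.coe_mul, hx, Matrix.diagonal_mul_diagonal, Matrix.SpecialLinearGroup.coe_one,
        ← Matrix.diagonal_one]
      congr 1
      ext i
      rcases hε i with h | h <;> rw [h] <;> simp
    rw [inv_eq_of_mul_eq_one_left h1, hx]

theorem Esub_sq {x : Matrix.SpecialLinearGroup (Fin n) F} (hx : x ∈ Esub n F) : x * x = 1 := by
  obtain ⟨ε, hε, hx⟩ := hx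
  apply Subtype.ext
  rw [Matrix.SpecialLinearGroup.coe_mul, hx, Matrix.diagonal_mul_diagonal, Matrix.SpecialLinearGroup.coe_one,
    ← Matrix.diagonal_one]
  congr 1
  ext i
  rcases hε i with h | h <;> rw [h] <;> simp

theorem Esub_two : IsPGroup 2 (Esub n F) := by
  rintro ⟨x, hx⟩
  refine ⟨1, Subtype.ext ?_⟩
  change x ^ 2 ^ 1 = 1
  rw [pow_one, pow_two, Esub_sq hx]

/-- conjugating a transvection by a sign matrix -/
theorem Esub_conj {x : Matrix.SpecialLinearGroup (Fin n) F} (hx : x ∈ Esub n F) {i j : Fin n} (hij : i ≠ j) (c : F) :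
    x * Matrix.SpecialLinearGroup.transvection hij c * x⁻¹ = Matrix.SpecialLinearGroup.transvection hij c ∨
    x * Matrix.SpecialLinearGroup.transvection hij c * x⁻¹ =
      (Matrix.SpecialLinearGroup.transvection hij c)⁻¹ := by
  have hinv : x⁻¹ = x := inv_eq_of_mul_eq_one_left (Esub_sq hx)
  obtain ⟨ε, hε, hx⟩ := hx
  have h1 : (x * Matrix.SpecialLinearGroup.transvection hij c * x⁻¹).1 =
      Matrix.transvection i j (ε i * ε j * c) := by
    rw [hinv, Matrix.SpecialLinearGroup.coe_mul, Matrix.SpecialLinearGroup.coe_mul, hx]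
    ext r s
    rw [Matrix.mul_diagonal, Matrix.diagonal_mul]
    change ε r * (Matrix.transvection i j c) r s * ε s = _
    rw [Matrix.transvection, Matrix.transvection, Matrix.add_apply, Matrix.add_apply, Matrix.single_apply,
      Matrix.single_apply, Matrix.one_apply]
    split_ifs with h1 h2 h3
    · exact absurd (h2.1.trans (h1.trans h2.2.symm)) hij
    · subst h1
      rcases hε r with h | h <;> rw [h] <;> ring
    · rw [h3.1, h3.2]; ring
    · ring
  have h3 : ε i * ε j = 1 ∨ ε i * ε j = -1 := by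
    rcases hε i with h | h <;> rcases hε j with h' | h' <;> rw [h, h'] <;> simp
  rcases h3 with h3 | h3
  · left
    apply Subtype.ext
    rw [h1, h3, one_mul]
    rfl
  · right
    rw [Matrix.SpecialLinearGroup.transvection_inv]
    apply Subtype.ext
    rw [h1, h3, neg_one_mul]
    rfl

/-- **The residual class of `PSL_n(q)`, `q` odd, `n = 3` or `n ≥ 5`.** -/
theorem no_res_of [Finite F] (h2 : (2 : F) ≠ 0) (hn : n = 3 ∨ 5 ≤ n)
    (hfields : ∀ H : Subgroup (GL (Fin n) F), HasE H →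
      (∀ i j : Fin n, i ≠ j → ∃ c : F, c ≠ 0 ∧ Mm H (Matrix.transvection i j c)) → Fields H)
    {R M : Subgroup (Matrix.ProjectiveSpecialLinearGroup (Fin n) F)} (hR : RO _ R) (hRM : R ≤ M) (hM : M ≠ ⊤)
    {P : Subgroup (GL (Fin n) F)} (hP : IsResidualCore (pre M) P) : False := by
  have hfinT : Finite (Matrix.ProjectiveSpecialLinearGroup (Fin n) F) := Quotient.finite _
  let i0 : Fin n := ⟨0, by omega⟩
  let i1 : Fin n := ⟨1, by omega⟩
  let i2 : Fin n := ⟨2, by omega⟩
  have h01 : i0 ≠ i1 := by simp [i0, i1]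
  have h02 : i0 ≠ i2 := by simp [i0, i2]
  have h12 : i1 ≠ i2 := by simp [i1, i2]
  set t : Matrix.SpecialLinearGroup (Fin n) F := Matrix.SpecialLinearGroup.transvection h01 1 with ht
  -- real
  let d : Matrix.SpecialLinearGroup (Fin n) F := ⟨sgm i0 i2, det_sgm h02⟩
  have hdE : d ∈ Esub n F := ⟨sgv i0 i2, fun i => by
    unfold sgv
    split_ifs
    · exact Or.inr rfl
    · exact Or.inl rfl, rfl⟩
  have hreal : IsReal t := by
    refine ⟨d, ?_⟩
    have hinv : d⁻¹ = d := inv_eq_of_mul_eq_one_left (Esub_sq hdE)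
    rw [hinv, ht, Matrix.SpecialLinearGroup.transvection_inv]
    apply Subtype.ext
    rw [Matrix.SpecialLinearGroup.coe_mul, Matrix.SpecialLinearGroup.coe_mul]
    ext r s
    change (sgm (F := F) i0 i2 * Matrix.transvection i0 i1 (1 : F) * sgm (F := F) i0 i2) r s =
      (Matrix.transvection i0 i1 (-1)) r s
    rw [sgm_conj, Matrix.transvection, Matrix.transvection, Matrix.add_apply, Matrix.add_apply, Matrix.single_apply,
      Matrix.single_apply, Matrix.one_apply]
    split_ifs with h1 h3 h3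
    · exact absurd (h3.1.trans (h1.trans h3.2.symm)) h01
    · subst h1
      rw [add_zero, mul_one, sgv_sq]
    · rw [← h3.1, ← h3.2, sgv_l, sgv_n (Ne.symm h01) h12]; ring
    · ring
  have hxreal : IsReal (pr n F t) := hreal.map (pr n F)
  obtain ⟨g, hgx, hgQ⟩ := hR.exists_conj_two hxreal (Q := (Esub n F).map (pr n F)) (Esub_two.map (pr n F)) (by
    rintro _ ⟨e, he, rfl⟩
    rw [← map_mul, ← map_inv, ← map_mul]
    rcases Esub_conj he h01 1 with h | h
    · rw [h]
      exact Subgroup.mem_zpowers _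
    · rw [h, map_inv]
      exact Subgroup.inv_mem _ (Subgroup.mem_zpowers _))
  obtain ⟨h, rfl⟩ := QuotientGroup.mk'_surjective _ g
  set y : GL (Fin n) F := Matrix.SpecialLinearGroup.toGL h with hy
  have hmem : ∀ z : Matrix.SpecialLinearGroup (Fin n) F, pr n F h * pr n F z * (pr n F h)⁻¹ ∈ R →
      Mm (cj (pre M) y) z.1 := by
    intro z hz
    refine ⟨Matrix.SpecialLinearGroup.toGL z, ?_, rfl⟩
    rw [mem_cj]
    refine ⟨h * z * h⁻¹, ?_, ?_⟩
    · change pr n F (h * z * h⁻¹) ∈ M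
      rw [map_mul, map_mul, map_inv]
      exact hRM hz
    · rw [map_mul, map_mul, map_inv]
  have hE : HasE (cj (pre M) y) := fun i j hij =>
    hmem ⟨sgm i j, det_sgm hij⟩ (hgQ _ ⟨_, ⟨sgv i j, fun l => by
      unfold sgv
      split_ifs
      · exact Or.inr rfl
      · exact Or.inl rfl, rfl⟩, rfl⟩)
  have hEd : Ed (cj (pre M) y) i0 i1 := ⟨h01, 1, one_ne_zero, hmem t hgx⟩
  have hcard : Fintype.card (Fin n) = 3 ∨ 5 ≤ Fintype.card (Fin n) := by rwa [Fintype.card_fin]
  have hall' := all_of_core hP hEd (hfields _ hE (hall h2 hE hcard (irr_cj hP hEd) hEd))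
  -- so `M = ⊤`
  apply hM
  have htop : (M.comap (pr n F)).comap (MulAut.conj h).toMonoidHom = ⊤ := by
    rw [eq_top_iff, ← LieClassical.SLGen.closure_transvections, Subgroup.closure_le]
    rintro _ ⟨i, j, hij, c, rfl⟩
    obtain ⟨z, hz, hzv⟩ := hall' i j hij c
    rw [mem_cj] at hz
    obtain ⟨s, hs, hsz⟩ := hz
    have : s = h * Matrix.SpecialLinearGroup.transvection hij c * h⁻¹ := by
      apply toGL_injective
      rw [hsz, map_mul, map_mul, map_inv]
      congr 2
      exact Units.ext hzv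
    rw [SetLike.mem_coe, Subgroup.mem_comap]
    change h * Matrix.SpecialLinearGroup.transvection hij c * h⁻¹ ∈ M.comap (pr n F)
    rw [← this]
    exact hs
  rw [eq_top_iff]
  intro w _
  obtain ⟨v, rfl⟩ := QuotientGroup.mk'_surjective _ w
  have h1 : h⁻¹ * v * h ∈ (M.comap (pr n F)).comap (MulAut.conj h).toMonoidHom := by rw [htop]; trivial
  rw [Subgroup.mem_comap] at h1
  change h * (h⁻¹ * v * h) * h⁻¹ ∈ M.comap (pr n F) at h1
  have h3 : h * (h⁻¹ * v * h) * h⁻¹ = v := by group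
  rw [h3] at h1
  exact h1

end psl

end Cfsg.Agent.H67.Odm
end

-- part: H683/OddM/Fields
section
/-!
# S4785, PART F of L-RES: the field of a group containing a root element for every pair (helper683)

`fields` : `H ≤ GL_ι(F)` with all sign matrices and a nontrivial `x_ij(c)` for all `i ≠ j`: either `H` contains all
elementary matrices, or there is a proper subfield `k` and a diagonal matrix `d` such that the rank one parts of all
transvections of `H` have entries in `k` after conjugation with `d`.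
-/

set_option autoImplicit false

namespace Cfsg.Agent.H683.OddM

open Matrix Cfsg.Agent.H67.Odm

universe u v

variable {ι : Type v} [Fintype ι] [DecidableEq ι] {F : Type u} [Field F] {H : Subgroup (GL ι F)}

/-- `x_ij(c) ∈ H` -/
abbrev XX (H : Subgroup (GL ι F)) (i j : ι) (c : F) : Prop := Mm H (Matrix.transvection i j c)

theorem XX.zero (i j : ι) : XX H i j 0 := by
  rw [XX, Matrix.transvection_zero]; exact Mm.one

theorem XX.add {i j : ι} (hij : i ≠ j) {a b : F} (ha : XX H i j a) (hb : XX H i j b) : XX H i j (a + b) := by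
  rw [XX, ← Matrix.transvection_mul_transvection_same i j hij]
  exact ha.mul hb

theorem XX.neg {i j : ι} (hij : i ≠ j) {a : F} (ha : XX H i j a) : XX H i j (-a) := by
  refine Mm.inv_of ha ?_
  rw [Matrix.transvection_mul_transvection_same i j hij, add_neg_cancel, Matrix.transvection_zero]

/-- the commutator relation -/
theorem XX.comm {i j l : ι} (hij : i ≠ j) (hjl : j ≠ l) (hil : i ≠ l) {a b : F} (ha : XX H i j a)
    (hb : XX H j l b) : XX H i l (a * b) := by
  have h := ((ha.mul hb).mul (ha.neg hij)).mul (hb.neg hjl)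
  have e : Matrix.transvection i j a * Matrix.transvection j l b * Matrix.transvection i j (-a) *
      Matrix.transvection j l (-b) = Matrix.transvection i l (a * b) := by
    have hA : Matrix.single i j a * Matrix.single i j (-a) = (0 : Matrix ι ι F) :=
      Matrix.single_mul_single_of_ne _ _ _ _ hij.symm _
    have hB : Matrix.single j l b * Matrix.single i j (-a) = (0 : Matrix ι ι F) :=
      Matrix.single_mul_single_of_ne _ _ _ _ hil.symm _
    have hC : Matrix.single i l (a * b) * Matrix.single i j (-a) = (0 : Matrix ι ι F) :=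
      Matrix.single_mul_single_of_ne _ _ _ _ hil.symm _
    have hD : Matrix.single j l b * Matrix.single j l (-b) = (0 : Matrix ι ι F) :=
      Matrix.single_mul_single_of_ne _ _ _ _ hjl.symm _
    have hE : Matrix.single i l (a * b) * Matrix.single j l (-b) = (0 : Matrix ι ι F) :=
      Matrix.single_mul_single_of_ne _ _ _ _ hjl.symm _
    have e1 : Matrix.transvection i j a * Matrix.transvection j l b =
        1 + Matrix.single i j a + Matrix.single j l b + Matrix.single i l (a * b) := by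
      rw [Matrix.transvection, Matrix.transvection, mul_add, mul_one, add_mul, one_mul,
        Matrix.single_mul_single_same]
      abel
    have e2 : (1 + Matrix.single i j a + Matrix.single j l b + Matrix.single i l (a * b)) * Matrix.transvection i j (-a) =
        1 + Matrix.single j l b + Matrix.single i l (a * b) := by
      rw [Matrix.transvection, mul_add, mul_one, add_mul, add_mul, add_mul, one_mul, hA, hB, hC]
      have : Matrix.single i j (-a) = - (Matrix.single i j a : Matrix ι ι F) := by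
        rw [← Matrix.single_neg]
      rw [this]
      abel
    have e3 : (1 + Matrix.single j l b + Matrix.single i l (a * b)) * Matrix.transvection j l (-b) =
        1 + Matrix.single i l (a * b) := by
      rw [Matrix.transvection, mul_add, mul_one, add_mul, add_mul, one_mul, hD, hE]
      have : Matrix.single j l (-b) = - (Matrix.single j l b : Matrix ι ι F) := by
        rw [← Matrix.single_neg]
      rw [this]
      abel
    rw [e1, e2, e3, Matrix.transvection]
  rw [XX, ← e]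
  exact h

section fin

variable [Finite F] (hall : ∀ i j : ι, i ≠ j → ∃ c : F, c ≠ 0 ∧ XX H i j c)

include hall

theorem exists_left {i j l : ι} (hij : i ≠ j) (hjl : j ≠ l) (hil : i ≠ l) {a c : F} (ha0 : a ≠ 0)
    (ha : XX H i j a) (hc : XX H i l c) : XX H j l (a⁻¹ * c) := by
  obtain ⟨a', ha'0, ha'⟩ := hall j i hij.symm
  let f : {c : F // XX H i l c} → {c : F // XX H i l c} := fun c =>
    ⟨a * (a' * c.1), ha.comm hij hjl hil (ha'.comm hij.symm hil hjl c.2)⟩
  have hinj : Function.Injective f := by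
    intro x y hxy
    have h1 : a * (a' * x.1) = a * (a' * y.1) := congrArg Subtype.val hxy
    exact Subtype.ext (mul_left_cancel₀ ha'0 (mul_left_cancel₀ ha0 h1))
  obtain ⟨x, hx⟩ := (Finite.injective_iff_surjective.1 hinj) ⟨c, hc⟩
  have h1 : a * (a' * x.1) = c := congrArg Subtype.val hx
  rw [← h1, inv_mul_cancel_left₀ ha0]
  exact ha'.comm hij.symm hil hjl x.2

theorem exists_right {i j l : ι} (hij : i ≠ j) (hjl : j ≠ l) (hil : i ≠ l) {b c : F} (hb0 : b ≠ 0)
    (hb : XX H j l b) (hc : XX H i l c) : XX H i j (c * b⁻¹) := by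
  obtain ⟨b', hb'0, hb'⟩ := hall l j hjl.symm
  let f : {c : F // XX H i l c} → {c : F // XX H i l c} := fun c =>
    ⟨c.1 * b' * b, (c.2.comm hil hjl.symm hij hb').comm hij hjl hil hb⟩
  have hinj : Function.Injective f := by
    intro x y hxy
    have h1 : x.1 * b' * b = y.1 * b' * b := congrArg Subtype.val hxy
    exact Subtype.ext (mul_right_cancel₀ hb'0 (mul_right_cancel₀ hb0 h1))
  obtain ⟨x, hx⟩ := (Finite.injective_iff_surjective.1 hinj) ⟨c, hc⟩
  have h1 : x.1 * b' * b = c := congrArg Subtype.val hx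
  rw [← h1, mul_inv_cancel_right₀ hb0]
  exact x.2.comm hil hjl.symm hij hb'

theorem ratio {i j l : ι} (hij : i ≠ j) (hjl : j ≠ l) (hil : i ≠ l) {c c' y : F} (hc0 : c ≠ 0)
    (hc : XX H i l c) (hc' : XX H i l c') (hy : XX H i l y) : XX H i l (c' / c * y) := by
  obtain ⟨b, hb0, hb⟩ := hall j l hjl
  have h1 := exists_right hall hij hjl hil hb0 hb hc
  have h2 := exists_right hall hij hjl hil hb0 hb hc'
  have h3 := exists_left hall hij hjl hil (mul_ne_zero hc0 (inv_ne_zero hb0)) h1 hy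
  have h4 := h2.comm hij hjl hil h3
  have h5 : c' * b⁻¹ * ((c * b⁻¹)⁻¹ * y) = c' / c * y := by field_simp
  rwa [h5] at h4

end fin

/-- the multiplier field -/
def mulField [Finite F] {i j : ι} (hij : i ≠ j) (H : Subgroup (GL ι F)) : Subfield F where
  carrier := {x | ∀ c, XX H i j c → XX H i j (x * c)}
  mul_mem' := by
    intro x y hx hy c hc
    rw [mul_assoc]
    exact hx _ (hy _ hc)
  one_mem' := by
    intro c hc
    rwa [one_mul]
  add_mem' := by
    intro x y hx hy c hc
    rw [add_mul]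
    exact (hx _ hc).add hij (hy _ hc)
  zero_mem' := by
    intro c hc
    rw [zero_mul]
    exact XX.zero i j
  neg_mem' := by
    intro x hx c hc
    rw [neg_mul]
    exact (hx _ hc).neg hij
  inv_mem' := by
    intro x hx c hc
    by_cases hx0 : x = 0
    · rw [hx0, _root_.inv_zero, zero_mul]
      exact XX.zero i j
    let f : {c : F // XX H i j c} → {c : F // XX H i j c} := fun c => ⟨x * c.1, hx _ c.2⟩
    have hinj : Function.Injective f := by
      intro y z hyz
      exact Subtype.ext (mul_left_cancel₀ hx0 (congrArg Subtype.val hyz))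
    obtain ⟨y, hy⟩ := (Finite.injective_iff_surjective.1 hinj) ⟨c, hc⟩
    have h1 : x * y.1 = c := congrArg Subtype.val hy
    rw [← h1, inv_mul_cancel_left₀ hx0]
    exact y.2

/-- **all root subgroups are `d i k (d j)⁻¹`** -/
theorem exists_scale [Finite F] (hcard : 3 ≤ Fintype.card ι)
    (hall : ∀ i j : ι, i ≠ j → ∃ c : F, c ≠ 0 ∧ XX H i j c) :
    ∃ (k : Subfield F) (d : ι → F), (∀ i, d i ≠ 0) ∧ ∀ i j, i ≠ j → ∀ c, XX H i j c ↔ (d i)⁻¹ * c * d j ∈ k := by
  classical
  obtain ⟨i0, i1, i2, h01, h02, h12⟩ : ∃ i0 i1 i2 : ι, i0 ≠ i1 ∧ i0 ≠ i2 ∧ i1 ≠ i2 :=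
    Fintype.two_lt_card_iff.1 (by omega)
  have hthird : ∀ a b : ι, ∃ m : ι, m ≠ a ∧ m ≠ b := by
    intro a b
    by_contra hcon
    push Not at hcon
    rcases eq_or_ne i0 a with h | h
    · have e1 := hcon i1 (by rw [← h]; exact h01.symm)
      have e2 := hcon i2 (by rw [← h]; exact h02.symm)
      exact h12 (e1.trans e2.symm)
    · have e0 := hcon i0 h
      rcases eq_or_ne i1 a with h' | h'
      · have e2 := hcon i2 (by rw [← h']; exact h12.symm)
        exact h02 (e0.trans e2.symm)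
      · exact h01 (e0.trans (hcon i1 h').symm)
  let d : ι → F := fun i => if h : i = i0 then 1 else (hall i i0 h).choose
  have hd0 : d i0 = 1 := dif_pos rfl
  have hd1 : ∀ i, i ≠ i0 → d i ≠ 0 ∧ XX H i i0 (d i) := by
    intro i hi
    have : d i = (hall i i0 hi).choose := dif_neg hi
    rw [this]
    exact (hall i i0 hi).choose_spec
  have hd : ∀ i, d i ≠ 0 := by
    intro i
    by_cases hi : i = i0
    · rw [hi, hd0]; exact one_ne_zero
    · exact (hd1 i hi).1
  let k := mulField h01.symm H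
  have hk : ∀ x, x ∈ k ↔ ∀ c, XX H i1 i0 c → XX H i1 i0 (x * c) := fun x => Iff.rfl
  have hkc : ∀ c c', c ≠ 0 → XX H i1 i0 c → XX H i1 i0 c' → c' / c ∈ k := by
    intro c c' hc0 hc hc'
    rw [hk]
    intro y hy
    exact ratio hall h12 h02.symm h01.symm hc0 hc hc' hy
  -- the column `i0`
  have hP0 : ∀ i, i ≠ i0 → ∀ c, XX H i i0 c ↔ (d i)⁻¹ * c ∈ k := by
    intro i hi c
    by_cases h1 : i = i1
    · subst h1
      constructor
      · intro hc
        have := hkc (d i) c (hd i) (hd1 i hi).2 hc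
        rwa [div_eq_inv_mul] at this
      · intro h
        have := (hk _).1 h _ (hd1 i hi).2
        rwa [mul_right_comm, inv_mul_cancel₀ (hd i), one_mul] at this
    · obtain ⟨e, he0, he⟩ := hall i1 i (Ne.symm h1)
      have hc1 : XX H i1 i0 (e * d i) := he.comm (Ne.symm h1) hi h01.symm (hd1 i hi).2
      have hc10 : e * d i ≠ 0 := mul_ne_zero he0 (hd i)
      constructor
      · intro hc
        have := hkc _ _ hc10 hc1 (he.comm (Ne.symm h1) hi h01.symm hc)
        rwa [mul_div_mul_left _ _ he0, div_eq_inv_mul] at this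
      · intro h
        have h2 := (hk _).1 h _ hc1
        have h3 : (d i)⁻¹ * c * (e * d i) = e * c := by
          have := hd i
          field_simp
        rw [h3] at h2
        have h4 := exists_left hall (Ne.symm h1) hi h01.symm he0 he h2
        rwa [inv_mul_cancel_left₀ he0] at h4
  -- `i, j ≠ i0`
  have hP1 : ∀ i j, i ≠ i0 → j ≠ i0 → i ≠ j → ∀ c, XX H i j c ↔ (d i)⁻¹ * c * d j ∈ k := by
    intro i j hi hj hij c
    rw [mul_assoc, ← hP0 i hi]
    constructor
    · intro hc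
      exact hc.comm hij hj hi (hd1 j hj).2
    · intro hc
      have := exists_right hall hij hj hi (hd j) (hd1 j hj).2 hc
      rwa [mul_inv_cancel_right₀ (hd j)] at this
  refine ⟨k, d, hd, ?_⟩
  intro i j hij c
  by_cases hj : j = i0
  · subst hj
    rw [hd0, mul_one]
    exact hP0 i hij c
  · by_cases hi : i = i0
    · subst hi
      obtain ⟨m, hm0, hmj⟩ := hthird i j
      rw [hd0, inv_one, one_mul]
      have h1 : XX H i j c ↔ XX H m j (d m * c) := by
        constructor
        · intro hc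
          exact (hd1 m hm0).2.comm hm0 hij hmj hc
        · intro hc
          have := exists_left hall hm0 hij hmj (hd m) (hd1 m hm0).2 hc
          rwa [inv_mul_cancel_left₀ (hd m)] at this
      rw [h1, hP1 m j hm0 hj hmj, inv_mul_cancel_left₀ (hd m)]
    · exact hP1 i j hi hj hij c

/-! ### entries of transvections -/

/-- row elements -/
theorem mm_row {i : ι} {ψ : ι → F} (hi : ψ i = 0) (h : ∀ s, s ≠ i → XX H i s (ψ s)) :
    Mm H (1 + Matrix.vecMulVec (Pi.single i 1) ψ) := by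
  classical
  have key : ∀ S : Finset ι, i ∉ S → Mm H (1 + Matrix.vecMulVec (Pi.single i 1) (fun s => if s ∈ S then ψ s else 0)) := by
    intro S
    induction S using Finset.induction_on with
    | empty =>
      intro _
      have : (fun s => if s ∈ (∅ : Finset ι) then ψ s else 0) = (0 : ι → F) := by
        funext s; simp
      rw [this, Matrix.vecMulVec_zero, add_zero]
      exact Mm.one
    | insert a S ha ih =>
      intro hi'
      have hia : i ≠ a := fun h => hi' (by rw [h]; exact Finset.mem_insert_self _ _)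
      have hiS : i ∉ S := fun h => hi' (Finset.mem_insert_of_mem h)
      have h1 := (h a hia.symm).mul (ih hiS)
      have e : Matrix.transvection i a (ψ a) *
          (1 + Matrix.vecMulVec (Pi.single i 1) (fun s => if s ∈ S then ψ s else 0)) =
          1 + Matrix.vecMulVec (Pi.single i 1) (fun s => if s ∈ insert a S then ψ s else 0) := by
        have e1 : (Matrix.single i a (ψ a) : Matrix ι ι F) *ᵥ (Pi.single i 1) = 0 := by
          rw [Matrix.mulVec_single_one]
          ext r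
          simp [Matrix.single_apply, hia.symm]
        rw [Matrix.transvection, mul_add, mul_one, add_mul, one_mul, Matrix.mul_vecMulVec, e1, Matrix.zero_vecMulVec,
          add_zero, add_assoc]
        congr 1
        ext r s
        rw [Matrix.add_apply, Matrix.single_apply, Matrix.vecMulVec_apply, Matrix.vecMulVec_apply, Pi.single_apply]
        by_cases hr : r = i
        · subst hr
          by_cases hs : s = a
          · subst hs
            simp [ha]
          · simp [hs, Ne.symm hs]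
        · simp [hr, Ne.symm hr]
      rw [← e]
      exact h1
  have h1 := key (Finset.univ.erase i) (by simp only [_root_.Finset.mem_erase, _root_.ne_eq, _root_.not_true_eq_false, _root_.Finset.mem_univ, _root_.and_true, _root_.not_false_eq_true])
  have h2 : (fun s => if s ∈ Finset.univ.erase i then ψ s else 0) = ψ := by
    funext s
    by_cases hs : s = i
    · rw [hs, hi]; simp only [_root_.Finset.mem_erase, _root_.ne_eq, _root_.not_true_eq_false, _root_.Finset.mem_univ, _root_.and_true, ↓ _root_.reduceIte]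
    · simp only [hs, _root_.Finset.mem_erase, _root_.ne_eq, _root_.not_false_eq_true, _root_.Finset.mem_univ, _root_.and_self, ↓ _root_.reduceIte]
  rwa [h2] at h1

/-- conjugation of a transvection -/
theorem mm_conj {g g' : Matrix ι ι F} (hg : Mm H g) (hgg : g * g' = 1) {a φ : ι → F}
    (ht : Mm H (1 + Matrix.vecMulVec a φ)) : Mm H (1 + Matrix.vecMulVec (g *ᵥ a) (φ ᵥ* g')) := by
  have h1 := (hg.mul ht).mul (hg.inv_of hgg)
  rwa [mul_add, mul_one, add_mul, hgg, Matrix.mul_vecMulVec, Matrix.vecMulVec_mul] at h1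

section main

variable [Finite F] {k : Subfield F} {d : ι → F}

theorem two_mem_inv {k : Subfield F} (h2 : (2 : F) ≠ 0) {x : F} (m : ℕ) (h : 2 ^ m * x ∈ k) : x ∈ k := by
  have h1 : (2 : F) ∈ k := ofNat_mem k 2
  have h3 : ((2 : F) ^ m)⁻¹ ∈ k := k.inv_mem (k.pow_mem h1 m)
  have h4 := k.mul_mem h3 h
  rwa [inv_mul_cancel_left₀ (pow_ne_zero m h2)] at h4

/-- edge rows in terms of `k` -/
theorem row_k (h2 : (2 : F) ≠ 0) (hE : HasE H) (hcard : Fintype.card ι = 3 ∨ 5 ≤ Fintype.card ι)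
    (hd : ∀ i, d i ≠ 0) (hP : ∀ i j, i ≠ j → ∀ c, XX H i j c ↔ (d i)⁻¹ * c * d j ∈ k)
    {a φ : ι → F} (ht : Mm H (1 + Matrix.vecMulVec a φ)) (hφa : φ ⬝ᵥ a = 0) {i j l : ι} (hij : i ≠ j)
    (ha : a j ≠ 0) (hφ : φ i ≠ 0) (hlj : l ≠ j) : φ l * d l / (φ i * d i) ∈ k := by
  by_cases hli : l = i
  · subst hli
    rw [div_self (mul_ne_zero hφ (hd l))]
    exact k.one_mem
  have hx : XX H i j (d i * (d j)⁻¹) := by
    rw [hP i j hij]
    have : (d i)⁻¹ * (d i * (d j)⁻¹) * d j = 1 := by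
      have := hd i
      have := hd j
      field_simp
    rw [this]
    exact k.one_mem
  obtain ⟨m, hm⟩ := edge_row h2 hE hcard hij (mul_ne_zero (hd i) (inv_ne_zero (hd j))) hx ht hφa ha hφ hli hlj
  have h3 := (hP i l (Ne.symm hli) _).1 hm
  have h4 : (d i)⁻¹ * (2 ^ m * (-2 * ((φ i)⁻¹ * φ l))) * d l = 2 ^ (m + 1) * (-(φ l * d l / (φ i * d i))) := by
    have := hd i
    field_simp
    ring
  rw [h4] at h3
  have h5 := k.neg_mem (two_mem_inv h2 _ h3)
  rwa [neg_neg] at h5

/-- **the functional is `k`-proportional** -/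
theorem prop_k (h2 : (2 : F) ≠ 0) (hE : HasE H) (hcard : Fintype.card ι = 3 ∨ 5 ≤ Fintype.card ι)
    (hd : ∀ i, d i ≠ 0) (hP : ∀ i j, i ≠ j → ∀ c, XX H i j c ↔ (d i)⁻¹ * c * d j ∈ k)
    {a φ : ι → F} (ht : Mm H (1 + Matrix.vecMulVec a φ)) (hφa : φ ⬝ᵥ a = 0) (ha : a ≠ 0) {i : ι}
    (hφ : φ i ≠ 0) (l : ι) : φ l * d l / (φ i * d i) ∈ k := by
  classical
  have R : ∀ {i j l : ι}, i ≠ j → a j ≠ 0 → φ i ≠ 0 → l ≠ j → φ l * d l / (φ i * d i) ∈ k :=
    fun hij ha hφ hlj => row_k h2 hE hcard hd hP ht hφa hij ha hφ hlj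
  have hz : ∀ {l i : ι}, φ l = 0 → φ l * d l / (φ i * d i) ∈ k := by
    intro l i h
    rw [h, zero_mul, zero_div]
    exact k.zero_mem
  by_cases h1 : ∃ j, a j ≠ 0 ∧ φ j = 0
  · obtain ⟨j, hj, hφj⟩ := h1
    have hij : i ≠ j := by rintro rfl; exact hφ hφj
    by_cases hlj : l = j
    · rw [hlj]; exact hz hφj
    · exact R hij hj hφ hlj
  push Not at h1
  obtain ⟨j, hj⟩ : ∃ j, a j ≠ 0 := Function.ne_iff.1 ha
  have hφj := h1 j hj
  obtain ⟨j', hj'j, hj'⟩ : ∃ j', j' ≠ j ∧ a j' ≠ 0 := by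
    by_contra hcon
    push Not at hcon
    have h3 : φ ⬝ᵥ a = φ j * a j := by
      rw [dotProduct, Finset.sum_eq_single j]
      · intro b _ hb
        rw [hcon b hb, mul_zero]
      · intro h; exact absurd (Finset.mem_univ j) h
    rw [h3] at hφa
    rcases mul_eq_zero.1 hφa with h4 | h4
    · exact hφj h4
    · exact hj h4
  have hφj' := h1 j' hj'
  -- it suffices to connect everything with `φ j`
  suffices hs : ∀ l, φ l * d l / (φ j * d j) ∈ k by
    have e1 := hs l
    have e2 := k.inv_mem (hs i)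
    have e3 := k.mul_mem e1 e2
    have e4 : φ l * d l / (φ j * d j) * (φ i * d i / (φ j * d j))⁻¹ = φ l * d l / (φ i * d i) := by
      have := hd i
      have := hd j
      field_simp
    rwa [e4] at e3
  -- `φ j' / φ j ∈ k`
  have hjj : φ j' * d j' / (φ j * d j) ∈ k := by
    obtain ⟨m, hm, hm'⟩ : ∃ m, m ≠ j ∧ m ≠ j' := by
      have h3 : 2 < Fintype.card ι := by omega
      by_contra hcon
      push Not at hcon
      have h6 : (Finset.univ : Finset ι) ⊆ {j, j'} := fun x _ => by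
        by_cases hx : x = j
        · simp [hx]
        · simp [hcon x hx]
      have h7 := Finset.card_le_card h6
      have h8 : Finset.card ({j, j'} : Finset ι) ≤ 2 := Finset.card_le_two
      rw [Finset.card_univ] at h7
      omega
    have key : ∀ φ' : ι → F, Mm H (1 + Matrix.vecMulVec a φ') → φ' ⬝ᵥ a = 0 → φ' j = φ j → φ' j' = φ j' → φ' m ≠ 0 →
        φ j' * d j' / (φ j * d j) ∈ k := by
      intro φ' ht' hφ'a ej ej' em
      have r1 := row_k h2 hE hcard hd hP ht' hφ'a hm' hj' em (Ne.symm hj'j)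
      have r2 := row_k h2 hE hcard hd hP ht' hφ'a hm hj em hj'j
      rw [ej] at r1
      rw [ej'] at r2
      have e3 := k.mul_mem r2 (k.inv_mem r1)
      have e4 : φ j' * d j' / (φ' m * d m) * (φ j * d j / (φ' m * d m))⁻¹ = φ j' * d j' / (φ j * d j) := by
        have := hd m
        have := hd j
        field_simp
      rwa [e4] at e3
    by_cases hφm : φ m = 0
    · by_cases ham : a m = 0
      · -- conjugate by `x_{jm}`
        set c : F := d j * (d m)⁻¹ with hc
        have hx : XX H j m c := by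
          rw [hP j m (Ne.symm hm)]
          have : (d j)⁻¹ * c * d m = 1 := by
            rw [hc]
            have := hd j
            have := hd m
            field_simp
          rw [this]
          exact k.one_mem
        have hgg : Matrix.transvection j m c * Matrix.transvection j m (-c) = 1 := by
          rw [Matrix.transvection_mul_transvection_same _ _ (Ne.symm hm), add_neg_cancel, Matrix.transvection_zero]
        have h3 := mm_conj hx hgg ht
        have e1 : Matrix.transvection j m c *ᵥ a = a := by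
          rw [Matrix.transvection, Matrix.add_mulVec, Matrix.one_mulVec]
          have : (Matrix.single j m c : Matrix ι ι F) *ᵥ a = 0 := by
            ext r
            simp only [Matrix.mulVec, dotProduct, Matrix.single_apply, Pi.zero_apply]
            refine Finset.sum_eq_zero fun s _ => ?_
            by_cases hs : m = s
            · rw [← hs, ham, mul_zero]
            · simp [hs]
          rw [this, add_zero]
        have e2 : ∀ s, (φ ᵥ* Matrix.transvection j m (-c)) s = φ s + if s = m then - (c * φ j) else 0 := by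
          intro s
          rw [Matrix.transvection, Matrix.vecMul_add, Matrix.vecMul_one, Pi.add_apply]
          congr 1
          simp only [Matrix.vecMul, dotProduct, Matrix.single_apply]
          rw [Finset.sum_eq_single j]
          · by_cases hs : s = m
            · subst hs
              simp [mul_comm]
            · simp [hs, Ne.symm hs]
          · intro b _ hb
            simp [Ne.symm hb]
          · intro h; exact absurd (Finset.mem_univ j) h
        rw [e1] at h3
        refine key _ h3 ?_ ?_ ?_ ?_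
        · rw [dotProduct]
          have : ∀ s, (φ ᵥ* Matrix.transvection j m (-c)) s * a s = φ s * a s := by
            intro s
            rw [e2]
            by_cases hs : s = m
            · rw [hs, ham, mul_zero, mul_zero]
            · rw [if_neg hs, add_zero]
          rw [Finset.sum_congr rfl fun s _ => this s]
          exact hφa
        · rw [e2, if_neg (Ne.symm hm), add_zero]
        · rw [e2, if_neg (Ne.symm hm'), add_zero]
        · rw [e2, if_pos rfl, hφm, zero_add]
          exact neg_ne_zero.2 (mul_ne_zero (mul_ne_zero (hd j) (inv_ne_zero (hd m))) hφj)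
      · exact absurd hφm (h1 m ham)
    · exact key φ ht hφa rfl rfl hφm
  intro l
  by_cases hl : l = j
  · rw [hl, div_self (mul_ne_zero hφj (hd j))]
    exact k.one_mem
  by_cases hl' : l = j'
  · rw [hl']; exact hjj
  by_cases hφl : φ l = 0
  · exact hz hφl
  · exact R hj'j.symm hj' hφj hl'

/-- **entries of transvections of `H`** -/
theorem entry_k (h2 : (2 : F) ≠ 0) (hE : HasE H) (hcard : Fintype.card ι = 3 ∨ 5 ≤ Fintype.card ι)
    (hd : ∀ i, d i ≠ 0) (hP : ∀ i j, i ≠ j → ∀ c, XX H i j c ↔ (d i)⁻¹ * c * d j ∈ k)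
    {a φ : ι → F} (ht : Mm H (1 + Matrix.vecMulVec a φ)) (hφa : φ ⬝ᵥ a = 0) (r s : ι) :
    (d r)⁻¹ * a r * φ s * d s ∈ k := by
  classical
  by_cases ha : a = 0
  · rw [ha, Pi.zero_apply, mul_zero, zero_mul, zero_mul]
    exact k.zero_mem
  by_cases hφ0 : φ = 0
  · rw [hφ0, Pi.zero_apply, mul_zero, zero_mul]
    exact k.zero_mem
  obtain ⟨i, hφ⟩ : ∃ i, φ i ≠ 0 := Function.ne_iff.1 hφ0
  have hprop := prop_k h2 hE hcard hd hP ht hφa ha hφ
  -- make `φ` supported at `i`
  let ψ : ι → F := fun s => if s = i then 0 else φ s / φ i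
  have hψi : ψ i = 0 := if_pos rfl
  have hψ : ∀ s, s ≠ i → ψ s = φ s / φ i := fun s hs => if_neg hs
  have hψX : ∀ s, s ≠ i → XX H i s (ψ s) := by
    intro s hs
    rw [hP i s (Ne.symm hs), hψ s hs]
    have h3 := hprop s
    have h4 : φ s * d s / (φ i * d i) = (d i)⁻¹ * (φ s / φ i) * d s := by
      have := hd i
      field_simp
    rwa [h4] at h3
  have hg := mm_row hψi hψX
  have hgg : (1 + Matrix.vecMulVec (Pi.single i 1) ψ) * (1 + Matrix.vecMulVec (Pi.single i 1) (-ψ)) =
      (1 : Matrix ι ι F) := by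
    have e1 : ψ ⬝ᵥ (Pi.single i 1 : ι → F) = 0 := by rw [dotProduct_single, hψi, zero_mul]
    have e2 : Matrix.vecMulVec (Pi.single i 1) ψ * Matrix.vecMulVec (Pi.single i 1) (-ψ) = (0 : Matrix ι ι F) := by
      rw [Matrix.vecMulVec_mul_vecMulVec, e1, zero_smul, Matrix.vecMulVec_zero]
    rw [mul_add, mul_one, add_mul, one_mul, e2, add_zero, Matrix.vecMulVec_neg, add_assoc, add_neg_cancel, add_zero]
  have h3 := mm_conj hg hgg ht
  have eφ : φ ᵥ* (1 + Matrix.vecMulVec (Pi.single i 1) (-ψ)) = Pi.single i (φ i) := by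
    rw [Matrix.vecMul_add, Matrix.vecMul_one, Matrix.vecMul_vecMulVec, dotProduct_single, mul_one]
    ext s
    rw [Pi.add_apply, Pi.smul_apply, Pi.neg_apply, smul_eq_mul]
    by_cases hs : s = i
    · subst hs
      rw [hψi, Pi.single_eq_same, neg_zero, mul_zero, add_zero]
    · rw [hψ s hs, Pi.single_eq_of_ne hs]
      field_simp
      ring
  set a' : ι → F := (1 + Matrix.vecMulVec (Pi.single i 1) ψ) *ᵥ a with ha'
  have ea : ∀ r, r ≠ i → a' r = a r := by
    intro r hr
    rw [ha', Matrix.add_mulVec, Matrix.one_mulVec, Pi.add_apply]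
    have : (Matrix.vecMulVec (Pi.single i 1) ψ *ᵥ a) r = 0 := by
      simp only [Matrix.mulVec, dotProduct, Matrix.vecMulVec_apply, Pi.single_eq_of_ne hr, _root_.Matrix.mulVec, _root_.dotProduct, _root_.Matrix.vecMulVec_apply, _root_.MulZeroClass.zero_mul, _root_.Finset.sum_const_zero]
    rw [this, add_zero]
  have eai : a' i = 0 := by
    rw [ha', Matrix.add_mulVec, Matrix.one_mulVec, Pi.add_apply]
    have e1 : (Matrix.vecMulVec (Pi.single i 1) ψ *ᵥ a) i = ∑ s, ψ s * a s := by
      simp only [Matrix.mulVec, dotProduct, Matrix.vecMulVec_apply, _root_.Matrix.mulVec, _root_.dotProduct, _root_.Matrix.vecMulVec_apply, _root_.Pi.single_eq_same, _root_.one_mul]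
    rw [e1]
    have e2 : φ i * (a i + ∑ s, ψ s * a s) = φ ⬝ᵥ a := by
      rw [mul_add, Finset.mul_sum, dotProduct, ← Finset.add_sum_erase _ _ (Finset.mem_univ i),
        ← Finset.add_sum_erase Finset.univ (fun s => φ s * a s) (Finset.mem_univ i), hψi, zero_mul, mul_zero, zero_add]
      congr 1
      refine Finset.sum_congr rfl fun s hs => ?_
      rw [hψ s (Finset.ne_of_mem_erase hs)]
      field_simp
    rw [hφa] at e2
    exact (mul_eq_zero.1 e2).resolve_left hφ
  rw [eφ] at h3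
  -- isolate
  obtain ⟨j0, hj0⟩ : ∃ j0, j0 ≠ i := by
    have h4 : 1 < Fintype.card ι := by omega
    exact Fintype.exists_ne_of_one_lt_card h4 i
  have hcol : ∀ r, r ≠ i → (d r)⁻¹ * (a r * φ i) * d i ∈ k := by
    intro r hr
    obtain ⟨m, hmi, hmr⟩ : ∃ m, m ≠ i ∧ m ≠ r := by
      by_contra hcon
      push Not at hcon
      have h6 : (Finset.univ : Finset ι) ⊆ {i, r} := fun x _ => by
        by_cases hx : x = i
        · simp [hx]
        · simp [hcon x hx]
      have h7 := Finset.card_le_card h6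
      have h8 : Finset.card ({i, r} : Finset ι) ≤ 2 := Finset.card_le_two
      rw [Finset.card_univ] at h7
      omega
    have hSp : Sp m i (Matrix.vecMulVec a' (Pi.single i (φ i))) := by
      intro x y hxy
      rw [Matrix.vecMulVec_apply] at hxy
      right
      constructor
      · by_contra hy
        rw [Pi.single_eq_of_ne hy, mul_zero] at hxy
        exact hxy rfl
      · rintro rfl
        rw [eai, zero_mul] at hxy
        exact hxy rfl
    obtain ⟨e, he⟩ := isoT hE hcard hmi (Ne.symm hmr) hr hSp h3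
    rw [Matrix.vecMulVec_apply, Pi.single_eq_same, ea r hr] at he
    have h4 := (hP r i hr _).1 he
    have h5 : (d r)⁻¹ * (2 ^ e * (a r * φ i)) * d i = 2 ^ e * ((d r)⁻¹ * (a r * φ i) * d i) := by ring
    rw [h5] at h4
    exact two_mem_inv h2 _ h4
  have hcoli : (d i)⁻¹ * (a i * φ i) * d i ∈ k := by
    have h4 : (d i)⁻¹ * (a i * φ i) * d i = a i * φ i := by
      have := hd i
      field_simp
    have h5 : a i * φ i = - ∑ s ∈ Finset.univ.erase i, φ s * a s := by
      have h6 := hφa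
      rw [dotProduct, ← Finset.add_sum_erase _ _ (Finset.mem_univ i)] at h6
      linear_combination h6
    rw [h4, h5]
    refine k.neg_mem (k.sum_mem fun s hs => ?_)
    have h6 := k.mul_mem (hcol s (Finset.ne_of_mem_erase hs)) (hprop s)
    have h7 : (d s)⁻¹ * (a s * φ i) * d i * (φ s * d s / (φ i * d i)) = φ s * a s := by
      have := hd i
      have := hd s
      field_simp
    rwa [h7] at h6
  have hr : (d r)⁻¹ * (a r * φ i) * d i ∈ k := by
    by_cases hri : r = i
    · rw [hri]; exact hcoli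
    · exact hcol r hri
  have h6 := k.mul_mem hr (hprop s)
  have h7 : (d r)⁻¹ * (a r * φ i) * d i * (φ s * d s / (φ i * d i)) = (d r)⁻¹ * a r * φ s * d s := by
    have := hd i
    field_simp
  rwa [h7] at h6

/-- **PART F.** -/
theorem fields (h2 : (2 : F) ≠ 0) (hE : HasE H) (hcard : Fintype.card ι = 3 ∨ 5 ≤ Fintype.card ι)
    (hall : ∀ i j : ι, i ≠ j → ∃ c : F, c ≠ 0 ∧ Mm H (Matrix.transvection i j c)) :
    (∀ i j, i ≠ j → ∀ c : F, Mm H (Matrix.transvection i j c)) ∨
    ∃ k : Subfield F, k ≠ ⊤ ∧ ∃ d : ι → F, (∀ i, d i ≠ 0) ∧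
      ∀ a φ : ι → F, φ ⬝ᵥ a = 0 → Mm H (1 + Matrix.vecMulVec a φ) → ∀ r s, (d r)⁻¹ * a r * φ s * d s ∈ k := by
  obtain ⟨k, d, hd, hP⟩ := exists_scale (H := H) (by omega) hall
  by_cases hk : k = ⊤
  · left
    intro i j hij c
    rw [← XX, hP i j hij, hk]
    exact Subfield.mem_top _
  · right
    exact ⟨k, hk, d, hd, fun a φ hφa ht r s => entry_k h2 hE hcard hd hP ht hφa r s⟩

end main

end Cfsg.Agent.H683.OddM
end

-- part: H67/OdmFin
section
/-!
# The residual class of `PSL_n(q)`, `q` odd, `n = 3` or `n ≥ 5`: final form (TEAM ODDM, S4785, helper67)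
-/

set_option autoImplicit false

namespace Cfsg.Agent.H67.Odm

open Matrix Cfsg.Geo Cfsg.Agent.H453.OddM Cfsg.Agent.H304.PslT

universe u

/-- **The residual class of `PSL_n(q)`, `q` odd, `n = 3` or `n ≥ 5`.** -/
theorem no_res {n : ℕ} {F : Type u} [Field F] [Finite F] (h2 : (2 : F) ≠ 0) (hn : n = 3 ∨ 5 ≤ n)
    {R M : Subgroup (Matrix.ProjectiveSpecialLinearGroup (Fin n) F)} (hR : RO _ R) (hRM : R ≤ M) (hM : M ≠ ⊤)
    {P : Subgroup (GL (Fin n) F)} (hP : IsResidualCore (pre M) P) : False :=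
  no_res_of h2 hn (fun _ hE ha => H683.OddM.fields h2 hE (by rwa [Fintype.card_fin]) ha) hR hRM hM hP

end Cfsg.Agent.H67.Odm
end

-- part: H453/OddM/RowPSL
section
/-!
# S4785: the rows `PSL_n(q)`, `q` odd
-/

set_option autoImplicit false
open Cfsg

namespace Cfsg.Agent.H453.OddM

open Cfsg.Agent.OrdDiv Cfsg.Agent.H436

universe u

/-- **`PSL_4(q)`, `q` odd** -/
theorem rowC_psl_four {F : Type} [Field F] [Fintype F] (hodd : Odd (Fintype.card F)) :
    RowC (Matrix.ProjectiveSpecialLinearGroup (Fin 4) F) := by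
  intro M hM hc
  rcases H683.OddM.geo_psl' (by norm_num) hodd hM hc with h | ⟨h, -⟩
  · exact H878.OddM.L4.l4_res (H683.OddM.two_ne_zero_of_odd hodd) hM h hc
  · exact absurd h (by decide)

/-- **`PSL_n(q)`, `n ≥ 5`, `q` odd** -/
theorem row_psl_five {F : Type} [Field F] [Fintype F] {n : ℕ} (hn : 5 ≤ n) (hodd : Odd (Fintype.card F)) :
    Row (Matrix.ProjectiveSpecialLinearGroup (Fin n) F) := by
  intro R hR
  by_contra hne
  have hfin : Finite (Matrix.ProjectiveSpecialLinearGroup (Fin n) F) := Quotient.finite _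
  obtain ⟨M, hM, hRM⟩ := (eq_top_or_exists_le_coatom R).resolve_left hne
  rcases H683.OddM.geo_psl' (by omega) hodd hM (hR.cov.mono hRM) with h | ⟨hno, W, hW, hpre⟩
  · obtain ⟨P, hP, -⟩ := h
    exact H67.Odm.no_res (H683.OddM.two_ne_zero_of_odd hodd) (Or.inr hn) hR hRM hM.1 hP
  · refine H131.OddP1.par_psl hno hn (fun h2 => ?_) hR hW ?_
    · exact Nat.not_even_iff_odd.2 hodd (even_iff_two_dvd.2 h2)
    · have h1 : H304.PslT.pre R ≤ H304.PslT.pre M := Subgroup.map_mono (Subgroup.comap_mono hRM)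
      exact h1.trans (hpre.le.trans inf_le_left)

/-- **The rows `PSL_n(q)`, `q` odd.** -/
theorem row_psl (n q : ℕ) (hq : ¬ 2 ∣ q) : RowN.{u} (.psl n q) := by
  intro T _ _ _ hT
  obtain ⟨F, _, _, hF, ⟨e⟩⟩ := hT.real
  obtain ⟨hn, h3, hpp⟩ := hT.cond
  have hodd : Odd (Fintype.card F) := by
    rw [← Nat.not_even_iff_odd, even_iff_two_dvd, hF]; exact hq
  rcases hn.eq_or_lt with rfl | hn3
  · exact H746.OddM.row_psl_two q hq T hT
  rcases Nat.eq_or_lt_of_le hn3 with rfl | hn4
  · exact H746.OddM.ThreeL.row_psl_three q hq T hT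
  rcases Nat.eq_or_lt_of_le hn4 with rfl | hn5
  · have hfin : Finite (Matrix.ProjectiveSpecialLinearGroup (Fin 4) F) := Quotient.finite _
    exact Row8.congr e.symm (Row.row8 (RowC.row (rowC_psl_four hodd)))
  · exact Row8.congr e.symm (Row.row8 (row_psl_five hn5 hodd))

end Cfsg.Agent.H453.OddM
end

private theorem dce_065084d7bd3e : _root_.True := by
  try have : _root_.True := by simp only [_root_.Cfsg.Agent.H878.OddM.L4.tv.eq_1]
  try have : _root_.True := by simp only [_root_.Cfsg.Agent.H683.OddM.XX.eq_1]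
  try have : _root_.True := by simp only [_root_.Cfsg.Agent.H746.OddM.ThreeL.lp.eq_1]
  exact _root_.True.intro
end
end
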